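import Cfsg.Agent.Lib.BlockCover.Induced
import Cfsg.Agent.Lib.Blocks.WeakOrth
import Cfsg.Agent.Lib.Blocks.ClassCount
import Cfsg.Agent.Lib.BrauerPairs.Local

/-!
# Defect groups

The order of a defect group is `p` to the defect; a height zero character is a unit at some
`p`-regular defect class; Brauer's criterion for containment in a defect group.
-/

set_option autoImplicit false
set_option linter.style.haveILetI false
set_option linter.unusedSectionVars false

namespace CfsgLib.BlockCover

open Cfsg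
open CfsgLib.Characters CfsgLib.CharCorr
open CfsgLib.Blocks (lRing)
open scoped ComplexConjugate

variable {p : ℕ} {M : Ideal AlgInt}

theorem not_memLocalIdeal_mul (hM : IsPModular p M) {x y : ℂ} (hxR : MemLocalRing M x)
    (hyR : MemLocalRing M y) (hx : ¬ MemLocalIdeal M x) (hy : ¬ MemLocalIdeal M y) :
    ¬ MemLocalIdeal M (x * y) :=
  fun h => (CfsgLib.Blocks.MemLocalIdeal.mul_cases hM hxR hyR h).elim hx hy

theorem factorization_le_of_mul_eq (hM : IsPModular p M) {a b : ℕ} (hb : b ≠ 0) (ha : a ≠ 0)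
    {u w : ℂ} (hu : MemLocalRing M u) (hu' : ¬ MemLocalIdeal M u) (hw : MemLocalRing M w)
    (h : (a : ℂ) * u = (b : ℂ) * w) : b.factorization p ≤ a.factorization p := by
  have hu0 : u ≠ 0 := fun h0 => hu' (h0 ▸ CfsgLib.Blocks.memLocalIdeal_zero hM)
  refine factorization_le_of_eq_mul hM hb ha (w := w * u⁻¹)
    ((lRing hM).mul_mem hw (CfsgLib.Blocks.inv_mem_lRing hM hu hu')) ?_
  field_simp
  linear_combination h

section Height

variable {G : Type*} [Group G] [Fintype G]

theorem irr_memLocalRing (hM : IsPModular p M) (χ : IrrCharacter G) (x : G) :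
    MemLocalRing M ((χ : G → ℂ) x) :=
  CfsgLib.Blocks.memLocalRing_of_isIntegral hM (irr_isIntegral χ x)

theorem centralChar_memLocalRing (hM : IsPModular p M) (χ : IrrCharacter G) (x : G) :
    MemLocalRing M (centralChar (χ : G → ℂ) x) :=
  CfsgLib.Blocks.centralChar_mem_lRing hM χ x

theorem charDegree_ne_zero (χ : IrrCharacter G) : charDegree (χ : G → ℂ) ≠ 0 := fun h => by
  have := irr_one_eq_charDegree χ
  rw [h, Nat.cast_zero] at this
  exact irr_one_ne_zero χ this

theorem degree_mul_centralChar (χ : IrrCharacter G) (x : G) :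
    (charDegree (χ : G → ℂ) : ℂ) * centralChar (χ : G → ℂ) x =
      ((Subgroup.centralizer ({x} : Set G)).index : ℂ) * (χ : G → ℂ) x := by
  have := irr_one_ne_zero χ
  rw [← irr_one_eq_charDegree, centralChar]
  field_simp

theorem factorization_index_le_of_centralChar (hM : IsPModular p M) {χ : IrrCharacter G} {x : G}
    (h : ¬ MemLocalIdeal M (centralChar (χ : G → ℂ) x)) :
    (Subgroup.centralizer ({x} : Set G)).index.factorization p ≤
      (charDegree (χ : G → ℂ)).factorization p :=
  factorization_le_of_mul_eq hM Subgroup.index_ne_zero_of_finite (charDegree_ne_zero χ)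
    (centralChar_memLocalRing hM χ x) h (irr_memLocalRing hM χ x) (degree_mul_centralChar χ x)

theorem factorization_degree_le_of_value (hM : IsPModular p M) {χ : IrrCharacter G} {x : G}
    (h : ¬ MemLocalIdeal M ((χ : G → ℂ) x)) :
    (charDegree (χ : G → ℂ)).factorization p ≤
      (Subgroup.centralizer ({x} : Set G)).index.factorization p :=
  factorization_le_of_mul_eq hM (charDegree_ne_zero χ) Subgroup.index_ne_zero_of_finite
    (irr_memLocalRing hM χ x) h (centralChar_memLocalRing hM χ x)
    (degree_mul_centralChar χ x).symm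

theorem factorization_card_eq (H : Subgroup G) :
    (Nat.card G).factorization p = (Nat.card H).factorization p + H.index.factorization p := by
  rw [← H.card_mul_index, Nat.factorization_mul Nat.card_pos.ne' Subgroup.index_ne_zero_of_finite]
  rfl

theorem exists_height_zero (hM : IsPModular p M) {B : Set (IrrCharacter G)}
    (hB : IsPBlock M B) :
    ∃ η ∈ B, ∀ ψ ∈ B, (charDegree (η : G → ℂ)).factorization p ≤
      (charDegree (ψ : G → ℂ)).factorization p :=
  Set.exists_min_image B _ (Set.toFinite B) (CfsgLib.Blocks.IsPBlock.nonempty hM hB)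

theorem sInf_degree_eq {B : Set (IrrCharacter G)} {η : IrrCharacter G} (hη : η ∈ B)
    (hmin : ∀ ψ ∈ B, (charDegree (η : G → ℂ)).factorization p ≤
      (charDegree (ψ : G → ℂ)).factorization p) :
    sInf ((fun ψ : IrrCharacter G => (charDegree (ψ : G → ℂ)).factorization p) '' B) =
      (charDegree (η : G → ℂ)).factorization p := by
  refine le_antisymm (Nat.sInf_le ⟨η, hη, rfl⟩) (le_csInf ⟨_, η, hη, rfl⟩ ?_)
  rintro _ ⟨ψ, hψ, rfl⟩
  exact hmin ψ hψ

theorem blockDefect_eq {B : Set (IrrCharacter G)} {η : IrrCharacter G} (hη : η ∈ B)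
    (hmin : ∀ ψ ∈ B, (charDegree (η : G → ℂ)).factorization p ≤
      (charDegree (ψ : G → ℂ)).factorization p) :
    blockDefect p B =
      (Nat.card G).factorization p - (charDegree (η : G → ℂ)).factorization p := by
  rw [blockDefect, sInf_degree_eq hη hmin]

/-- Where a central character is a unit, the centraliser has at least defect many `p`'s. -/
theorem blockDefect_le (hM : IsPModular p M) {B : Set (IrrCharacter G)} (hB : IsPBlock M B)
    {x : G} (h : ∀ χ ∈ B, ¬ MemLocalIdeal M (centralChar (χ : G → ℂ) x)) :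
    blockDefect p B ≤ (Nat.card (Subgroup.centralizer ({x} : Set G))).factorization p := by
  obtain ⟨η, hη, hmin⟩ := exists_height_zero hM hB
  have h1 := factorization_index_le_of_centralChar hM (h η hη)
  have h2 := factorization_card_eq (p := p) (Subgroup.centralizer ({x} : Set G))
  rw [blockDefect_eq hη hmin]
  omega

theorem centralChar_unit_iff (hM : IsPModular p M) {B : Set (IrrCharacter G)}
    (hB : IsPBlock M B) {χ ψ : IrrCharacter G} (hχ : χ ∈ B) (hψ : ψ ∈ B) (x : G)
    (h : ¬ MemLocalIdeal M (centralChar (χ : G → ℂ) x)) :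
    ¬ MemLocalIdeal M (centralChar (ψ : G → ℂ) x) := fun h' => h (by
  have := CfsgLib.Blocks.MemLocalIdeal.add hM
    ((CfsgLib.Blocks.IsPBlock.mem_iff hM hB hχ ψ).1 hψ x) h'
  simpa using this)

/-- A character of height zero is a unit at some `p`-regular element at which the central
character of its inverse is a unit. -/
theorem exists_regular_unit (hM : IsPModular p M) {B : Set (IrrCharacter G)} (hB : IsPBlock M B)
    {η : IrrCharacter G} (hη : η ∈ B) (hmin : ∀ ψ ∈ B, (charDegree (η : G → ℂ)).factorization p ≤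
      (charDegree (ψ : G → ℂ)).factorization p) :
    ∃ x : G, ¬ p ∣ orderOf x ∧ ¬ MemLocalIdeal M ((η : G → ℂ) x) ∧
      ¬ MemLocalIdeal M (centralChar (η : G → ℂ) x⁻¹) := by
  classical
  have := Fact.mk hM.1
  by_contra hcon
  push Not at hcon
  set f : G → ℂ := fun y => if p ∣ orderOf y then 0 else (η : G → ℂ) y⁻¹ with hf
  have hfcl : IsClassFunction G f := by
    intro g h
    simp only [hf]
    have h1 : orderOf (h * g * h⁻¹) = orderOf g :=
      orderOf_injective (MulAut.conj h).toMonoidHom (MulAut.conj h).injective g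
    rw [h1, show (h * g * h⁻¹)⁻¹ = h * g⁻¹ * h⁻¹ by group, irr_isClassFunction η g⁻¹ h]
  have hfR : ∀ y, MemLocalRing M (f y) := fun y => by
    simp only [hf]
    split_ifs
    · exact (lRing hM).zero_mem
    · exact irr_memLocalRing hM η _
  set w : IrrCharacter G → ℂ := fun ψ => (∑ x : G, f x * (ψ : G → ℂ) x) / (ψ : G → ℂ) 1 with hw
  have hwη : MemLocalIdeal M (w η) := by
    have h1 := CfsgLib.Blocks.omega_eq_sum_classes η (ofFun_mem_center hfcl)
    rw [CfsgLib.Blocks.omega_ofFun] at h1
    simp only [CfsgLib.Blocks.coeff_ofFun] at h1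
    rw [show w η = _ from h1]
    refine CfsgLib.Blocks.MemLocalIdeal.sum hM _ fun c _ => ?_
    by_cases hp : p ∣ orderOf c.out
    · simp only [hf, if_pos hp, zero_mul]
      exact CfsgLib.Blocks.memLocalIdeal_zero hM
    · simp only [hf, if_neg hp]
      by_cases hu : MemLocalIdeal M ((η : G → ℂ) c.out⁻¹)
      · exact CfsgLib.Blocks.MemLocalIdeal.mul_right hM hu (centralChar_memLocalRing hM η _)
      · refine CfsgLib.Blocks.MemLocalIdeal.mul_left hM (irr_memLocalRing hM η _) ?_
        have := hcon c.out⁻¹ (by rwa [orderOf_inv]) hu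
        rwa [inv_inv] at this
  have hwB : ∀ ψ ∈ B, MemLocalIdeal M (w ψ) := fun ψ hψ => by
    have := omega_congr hM ((CfsgLib.Blocks.IsPBlock.mem_iff hM hB hη ψ).1 hψ) hfcl hfR
    have h2 := CfsgLib.Blocks.MemLocalIdeal.sub hM hwη this
    simpa [hw] using h2
  have hout : ∀ ψ : IrrCharacter G, ψ ∉ B → ∑ x : G, f x * (ψ : G → ℂ) x = 0 := by
    intro ψ hψ
    have h1 := CfsgLib.Blocks.sum_regular_eq_zero_of_not_sameBlock (χ := η) (ψ := ψ) hM
      (fun h => hψ ((CfsgLib.Blocks.IsPBlock.mem_iff hM hB hη ψ).2 h))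
    refine Eq.trans ?_ h1
    rw [Finset.sum_filter]
    refine Fintype.sum_equiv (Equiv.inv G) _ _ fun x => ?_
    simp only [hf, Equiv.inv_apply, orderOf_inv]
    split_ifs
    · rw [zero_mul]
    · rw [← irr_apply_inv ψ x⁻¹, inv_inv]
  obtain ⟨P⟩ : Nonempty (Sylow p G) := inferInstance
  choose n hn using fun ψ : IrrCharacter G => CfsgLib.ClassCount.exists_mult ψ (P : Subgroup G)
  set g₀ : G → ℂ := fun y => if p ∣ orderOf y then 0 else (η : G → ℂ) y with hg₀
  have hg₀cl : IsClassFunction G g₀ := by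
    intro y h
    have h1 : orderOf (h * y * h⁻¹) = orderOf y :=
      orderOf_injective (MulAut.conj h).toMonoidHom (MulAut.conj h).injective y
    simp only [hg₀, h1, irr_isClassFunction η y h]
  have hflip : ∀ ψ : IrrCharacter G,
      ∑ x : G, g₀ x * conj ((ψ : G → ℂ) x) = ∑ x : G, f x * (ψ : G → ℂ) x := by
    intro ψ
    refine Fintype.sum_equiv (Equiv.inv G) _ _ fun x => ?_
    simp [hf, hg₀, orderOf_inv, irr_apply_inv]
  have key : (Nat.card G : ℂ) * (η : G → ℂ) 1 =
      (Nat.card (P : Subgroup G) : ℂ) * ∑ ψ : IrrCharacter G,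
        (∑ x : G, f x * (ψ : G → ℂ) x) * (n ψ : ℂ) := by
    have hS : ∑ π : (P : Subgroup G), (Nat.card G : ℂ) * g₀ ((π : G)⁻¹) =
        (Nat.card G : ℂ) * (η : G → ℂ) 1 := by
      rw [Finset.sum_eq_single (1 : (P : Subgroup G))]
      · simp [hg₀, hM.1.not_dvd_one]
      · intro π _ hπ
        obtain ⟨i, hi⟩ := IsPGroup.iff_orderOf.1 P.2 π
        have : p ∣ orderOf (π : G) := by
          rw [Subgroup.orderOf_coe]
          rcases Nat.eq_zero_or_pos i with hi0 | hi0
          · exact absurd (orderOf_eq_one_iff.1 (by rw [hi, hi0, pow_zero])) hπ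
          · rw [hi]; exact dvd_pow_self p hi0.ne'
        rw [Subgroup.orderOf_coe] at this
        simp [hg₀, this]
      · simp
    rw [← hS]
    have hexp : ∀ y : G, (Nat.card G : ℂ) * g₀ y =
        ∑ ψ : IrrCharacter G, (∑ x : G, f x * (ψ : G → ℂ) x) * (ψ : G → ℂ) y := by
      intro y
      conv_lhs => rw [classFunction_eq_sum hg₀cl]
      simp only [Finset.sum_apply, Pi.smul_apply, smul_eq_mul, Finset.mul_sum]
      refine Finset.sum_congr rfl fun ψ _ => ?_
      rw [classInner, hflip, ← mul_assoc, mul_inv_cancel_left₀ (by simp : (Nat.card G : ℂ) ≠ 0)]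
    simp only [hexp]
    rw [Finset.sum_comm, Finset.mul_sum]
    refine Finset.sum_congr rfl fun ψ _ => ?_
    rw [← Finset.mul_sum, hn ψ]
    ring
  have hsum : MemLocalIdeal M (∑ ψ : IrrCharacter G, if ψ ∈ B then
      (((charDegree (ψ : G → ℂ)) / p ^ (charDegree (η : G → ℂ)).factorization p : ℕ) : ℂ) *
        w ψ * (n ψ : ℂ) else 0) := by
    refine CfsgLib.Blocks.MemLocalIdeal.sum hM _ fun ψ _ => ?_
    split_ifs with hψ
    · refine CfsgLib.Blocks.MemLocalIdeal.mul_right hM
        (CfsgLib.Blocks.MemLocalIdeal.mul_left hM ?_ (hwB ψ hψ)) ?_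
      · exact natCast_mem (lRing hM) _
      · exact natCast_mem (lRing hM) _
    · exact CfsgLib.Blocks.memLocalIdeal_zero hM
  have heq : ((((P : Subgroup G).index * charDegree (η : G → ℂ) : ℕ)) : ℂ) =
      ((p ^ (charDegree (η : G → ℂ)).factorization p : ℕ) : ℂ) *
        ∑ ψ : IrrCharacter G, if ψ ∈ B then
          (((charDegree (ψ : G → ℂ)) / p ^ (charDegree (η : G → ℂ)).factorization p : ℕ) : ℂ) *
            w ψ * (n ψ : ℂ) else 0 := by
    have hP : (Nat.card (P : Subgroup G) : ℂ) ≠ 0 := by simp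
    apply mul_left_cancel₀ hP
    rw [← Nat.cast_mul, ← mul_assoc, (P : Subgroup G).card_mul_index, Nat.cast_mul,
      ← irr_one_eq_charDegree, key, Finset.mul_sum, Finset.mul_sum, Finset.mul_sum]
    refine Finset.sum_congr rfl fun ψ _ => ?_
    by_cases hψ : ψ ∈ B
    · rw [if_pos hψ]
      have hd : p ^ (charDegree (η : G → ℂ)).factorization p ∣ charDegree (ψ : G → ℂ) :=
        (pow_dvd_pow p (hmin ψ hψ)).trans (Nat.ordProj_dvd _ _)
      rw [← mul_assoc ((p ^ _ : ℕ) : ℂ), ← mul_assoc ((p ^ _ : ℕ) : ℂ), ← Nat.cast_mul,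
        Nat.mul_div_cancel' hd, ← irr_one_eq_charDegree]
      simp only [hw]
      rw [mul_div_cancel₀ _ (irr_one_ne_zero ψ)]
    · rw [if_neg hψ, hout ψ hψ]
      ring
  have hlt := factorization_lt_of_eq_mul hM (pow_ne_zero _ hM.1.ne_zero)
    (mul_ne_zero Subgroup.index_ne_zero_of_finite (charDegree_ne_zero η)) hsum heq
  rw [hM.1.factorization_pow, Finsupp.single_eq_same,
    Nat.factorization_mul Subgroup.index_ne_zero_of_finite (charDegree_ne_zero η),
    Finsupp.add_apply, Nat.factorization_eq_zero_of_not_dvd P.not_dvd_index] at hlt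
  omega

/-- Every block has a `p`-regular class with unit central character and exactly the defect. -/
theorem exists_regular_defect_class (hM : IsPModular p M) {B : Set (IrrCharacter G)}
    (hB : IsPBlock M B) :
    ∃ x : G, ¬ p ∣ orderOf x ∧
      (Nat.card (Subgroup.centralizer ({x} : Set G))).factorization p = blockDefect p B ∧
      ∀ χ ∈ B, ¬ MemLocalIdeal M (centralChar (χ : G → ℂ) x) := by
  obtain ⟨η, hη, hmin⟩ := exists_height_zero hM hB
  obtain ⟨x, hx, hval, hom⟩ := exists_regular_unit hM hB hη hmin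
  have hidx : (Subgroup.centralizer ({x⁻¹} : Set G)).index =
      (Subgroup.centralizer ({x} : Set G)).index := by
    congr 1
    ext z
    simp only [Subgroup.mem_centralizer_iff, Set.mem_singleton_iff, forall_eq]
    exact ⟨fun h => (Commute.inv_left_iff.1 h), fun h => Commute.inv_left_iff.2 h⟩
  have h1 : (Subgroup.centralizer ({x⁻¹} : Set G)).index.factorization p =
      (charDegree (η : G → ℂ)).factorization p :=
    le_antisymm (factorization_index_le_of_centralChar hM hom)
      (hidx ▸ factorization_degree_le_of_value hM hval)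
  refine ⟨x⁻¹, by rwa [orderOf_inv], ?_, fun χ hχ => centralChar_unit_iff hM hB hη hχ _ hom⟩
  have h2 := factorization_card_eq (p := p) (Subgroup.centralizer ({x⁻¹} : Set G))
  rw [blockDefect_eq hη hmin]
  omega

end Height

end CfsgLib.BlockCover
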