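import Cfsg.Agent.Lib.Blocks12.Basic
import Cfsg.Agent.Lib.CharCorr.Basic

/-!
# Characters truncated to the `p`-regular elements
-/

set_option autoImplicit false
set_option linter.style.haveILetI false
set_option linter.unusedSectionVars false

namespace CfsgLib.BlockCover

open Cfsg CfsgLib.Characters CfsgLib.Contribution
open scoped ComplexConjugate

variable {p : ℕ} {M : Ideal AlgInt} {G : Type*} [Group G] [Fintype G]

/-- `p^a` times the truncation of a character to the regular elements is generalized. -/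
theorem regTrunc_generalized (hp : p.Prime) (χ : IrrCharacter G) :
    IsGeneralizedCharacter G (fun x : G => if p ∣ orderOf x then 0 else
      ((p ^ (Nat.card G).factorization p : ℕ) : ℂ) * (χ : G → ℂ) x) := by
  have h := isGeneralizedCharacter_mul (regInd_generalized (G := G) hp) (isGeneralizedCharacter_irr χ)
  convert h using 1
  funext x
  simp only [Pi.mul_apply, regInd]
  split_ifs <;> simp_all

theorem classInner_regTrunc (χ ψ : IrrCharacter G) :
    classInner (fun x : G => if p ∣ orderOf x then 0 else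
      ((p ^ (Nat.card G).factorization p : ℕ) : ℂ) * (χ : G → ℂ) x) (ψ : G → ℂ) =
        (p : ℂ) ^ (Nat.card G).factorization p * (Nat.card G : ℂ)⁻¹ *
          regSum p (χ : G → ℂ) (ψ : G → ℂ) := by
  classical
  rw [classInner, regSum, Finset.sum_filter, Finset.mul_sum, Finset.mul_sum]
  refine Finset.sum_congr rfl fun x _ => ?_
  split_ifs <;> (push_cast; ring)

theorem classInner_regTrunc_of_notMem (hM : IsPModular p M) {B : Set (IrrCharacter G)}
    (hB : IsPBlock M B) {χ ψ : IrrCharacter G} (hχ : χ ∈ B) (hψ : ψ ∉ B) :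
    classInner (fun x : G => if p ∣ orderOf x then 0 else
      ((p ^ (Nat.card G).factorization p : ℕ) : ℂ) * (χ : G → ℂ) x) (ψ : G → ℂ) = 0 := by
  have h : regSum p (χ : G → ℂ) (ψ : G → ℂ) = 0 :=
    Blocks.sum_regular_eq_zero_of_not_sameBlock hM fun hs =>
      hψ ((Blocks.IsPBlock.mem_iff hM hB hχ ψ).2 hs)
  rw [classInner_regTrunc, h, mul_zero]

theorem classInner_regTrunc_eq [Fintype (ConjClasses G)] (hM : IsPModular p M)
    {B : Set (IrrCharacter G)} (hB : IsPBlock M B) (χ : IrrCharacter G) {ψ : IrrCharacter G}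
    (hψ : ψ ∈ B) :
    classInner (fun x : G => if p ∣ orderOf x then 0 else
      ((p ^ (Nat.card G).factorization p : ℕ) : ℂ) * (χ : G → ℂ) x) (ψ : G → ℂ) =
        (ψ : G → ℂ) 1 * tfac p χ ψ := by
  rw [classInner_regTrunc, apply_one_red (p := p) hψ, mul_assoc ((p : ℂ) ^ minExp p B),
    ← contrib_eq hM hB χ hψ, contrib, ← minExp_add_defect hM hB, pow_add]
  ring

theorem blockHeight_eq_zero_iff (hp : p.Prime) {B : Set (IrrCharacter G)} {χ : IrrCharacter G}
    (hχ : χ ∈ B) : blockHeight p B (χ : G → ℂ) = 0 ↔ ¬ p ∣ red p B χ := by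
  have h1 := pow_dvd_red hp hχ (k := 1)
  have h2 := minExp_le (p := p) hχ
  rw [pow_one] at h1
  rw [h1, blockHeight]
  change (charDegree (χ : G → ℂ)).factorization p - minExp p B = 0 ↔ _
  omega

/-- Height zero is detected by the truncation. -/
theorem height_zero_iff_tfac [Fintype (ConjClasses G)] (hM : IsPModular p M)
    {B : Set (IrrCharacter G)} (hB : IsPBlock M B) {χ : IrrCharacter G} (hχ : χ ∈ B)
    {ξ : IrrCharacter G} (hξ : ξ ∈ B) :
    blockHeight p B (χ : G → ℂ) = 0 ↔ ¬ MemLocalIdeal M (tfac p χ ξ) := by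
  rw [blockHeight_eq_zero_iff hM.1 hχ]
  refine ⟨fun h => tfac_unit hM hB hχ h hξ, fun h hdvd => h ?_⟩
  obtain ⟨η, hη, hη0, -⟩ := Contribution.exists_height_zero hM hB
  have h1 : (red p B η : ℂ) * tfac p χ η = (red p B χ : ℂ) * tfac p η χ := by
    rw [← contrib_eq hM hB χ hη, ← contrib_eq hM hB η hχ, contrib_symm hM hB χ hη]
  have h2 : MemLocalIdeal M ((red p B η : ℂ) * tfac p χ η) := by
    rw [h1]
    exact Blocks.MemLocalIdeal.mul_right hM ((Blocks.memLocalIdeal_natCast_iff hM _).2 hdvd)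
      (tfac_mem hM η χ)
  have h3 := (Blocks.MemLocalIdeal.mul_cases hM (natCast_mem (Blocks.lRing hM) _) (tfac_mem hM χ η)
    h2).resolve_left fun h' => hη0 ((Blocks.memLocalIdeal_natCast_iff hM _).1 h')
  simpa using Blocks.MemLocalIdeal.add hM
    (tfac_congr hM χ ((Blocks.IsPBlock.mem_iff hM hB hξ η).1 hη)) h3

/-- An integer that is a degree times a local integer has the `p`-part of the degree exactly when
the local integer is a unit. -/
theorem int_eq_degree_mul_iff (hM : IsPModular p M) {m : ℕ} (hm : m ≠ 0) {t : ℂ}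
    (ht : MemLocalRing M t) {n : ℤ} (hn : (n : ℂ) = (m : ℂ) * t) :
    (n ≠ 0 ∧ padicValInt p n = m.factorization p) ↔ ¬ MemLocalIdeal M t := by
  haveI := Fact.mk hM.1
  set b := m.factorization p with hb
  obtain ⟨u, hu⟩ := Nat.ordProj_dvd m p
  have hu' : ¬ p ∣ u := fun ⟨v, hv⟩ => Nat.pow_succ_factorization_not_dvd hm hM.1
    ⟨v, by rw [pow_succ, mul_assoc, ← hv]; exact hu⟩
  have hn' : (n : ℂ) = (p : ℂ) ^ b * ((u : ℂ) * t) := by
    rw [hn, ← mul_assoc]
    congr 1
    rw [← Nat.cast_pow, ← Nat.cast_mul, hb, ← hu]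
  obtain ⟨w, hw⟩ := int_pow_dvd hM ((Blocks.lRing hM).mul_mem (natCast_mem _ u) ht) hn'
  have hwt : (w : ℂ) = (u : ℂ) * t := by
    apply mul_left_cancel₀ (pow_ne_zero b (Nat.cast_ne_zero.mpr hM.1.ne_zero : (p : ℂ) ≠ 0))
    rw [← hn', hw]; push_cast; rfl
  have hiff : MemLocalIdeal M t ↔ (p : ℤ) ∣ w := by
    rw [← memLocalIdeal_intCast_iff hM, hwt]
    exact ⟨Blocks.MemLocalIdeal.mul_left hM (natCast_mem (Blocks.lRing hM) u), fun h =>
      (Blocks.MemLocalIdeal.mul_cases hM (natCast_mem (Blocks.lRing hM) u) ht h).resolve_left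
        fun h' => hu' ((Blocks.memLocalIdeal_natCast_iff hM u).1 h')⟩
  rw [hiff, hw]
  have hp0 : (p : ℤ) ^ b ≠ 0 := pow_ne_zero _ (Int.natCast_ne_zero.2 hM.1.ne_zero)
  constructor
  · rintro ⟨hne, hv⟩ ⟨w', rfl⟩
    have h := (padicValInt_dvd_iff (b + 1) ((p : ℤ) ^ b * ((p : ℤ) * w'))).1 ⟨w', by ring⟩
    rcases h with h | h
    · exact hne h
    · omega
  · intro h
    have hw0 : w ≠ 0 := fun h0 => h (h0 ▸ dvd_zero _)
    refine ⟨mul_ne_zero hp0 hw0, ?_⟩
    rw [padicValInt.mul hp0 hw0, padicValInt.eq_zero_of_not_dvd h, add_zero, padicValInt,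
      Int.natAbs_pow, Int.natAbs_natCast, padicValNat.prime_pow]

/-- There are modular maximal ideals over every prime. -/
theorem exists_isPModular (hp : p.Prime) : ∃ M : Ideal AlgInt, IsPModular p M := by
  have hI : Ideal.span {(p : AlgInt)} ≠ ⊤ := by
    intro h
    rw [Ideal.span_singleton_eq_top] at h
    obtain ⟨a, ha⟩ := isUnit_iff_exists_inv.1 h
    have ha' : (p : ℂ) * (a : ℂ) = 1 := by
      have := congrArg (fun z : AlgInt => (z : ℂ)) ha
      simpa using this
    have hq : (a : ℂ) = ((((p : ℚ))⁻¹ : ℚ) : ℂ) := by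
      push_cast
      exact eq_inv_of_mul_eq_one_right ha'
    have hint : IsIntegral ℤ ((p : ℚ))⁻¹ := by
      refine (isIntegral_algebraMap_iff (algebraMap ℚ ℂ).injective).1 ?_
      rw [eq_ratCast, ← hq]
      exact a.2
    obtain ⟨z, hz⟩ := IsIntegrallyClosed.isIntegral_iff.1 hint
    rw [hq, ← hz] at ha'
    simp only [eq_intCast, Rat.cast_intCast] at ha'
    have h2 : (p : ℤ) * z = 1 := by exact_mod_cast ha'
    have h3 : (p : ℤ) ∣ 1 := ⟨z, h2.symm⟩
    exact hp.ne_one (Nat.eq_one_of_dvd_one (by exact_mod_cast h3))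
  obtain ⟨M, hM, hle⟩ := Ideal.exists_le_maximal _ hI
  exact ⟨M, hp, hM, hle (Ideal.subset_span rfl)⟩

end CfsgLib.BlockCover
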