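import Cfsg.Agent.Lib.BlockCover.Basic
import Cfsg.Agent.Lib.Blocks.WeakOrth
import Cfsg.Agent.Lib.CharCorr.Solvable

/-!
# Blocks over a normal subgroup of `p`-power index
-/

set_option autoImplicit false
set_option linter.style.haveILetI false
set_option linter.unusedSectionVars false

namespace CfsgLib.BlockCover

open Cfsg
open CfsgLib.Characters CfsgLib.CharCorr

variable {p : ℕ} {M : Ideal AlgInt} {G : Type*} [Group G] [Fintype G]

theorem mem_of_regular {N : Subgroup G} [N.Normal] {k : ℕ} (hp : p.Prime) (hk : N.index = p ^ k)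
    {x : G} (hx : ¬ p ∣ orderOf x) : x ∈ N := by
  rw [← QuotientGroup.eq_one_iff, ← orderOf_eq_one_iff]
  have h1 : orderOf (x : G ⧸ N) ∣ orderOf x := orderOf_map_dvd (QuotientGroup.mk' N) x
  have h2 : orderOf (x : G ⧸ N) ∣ p ^ k := by
    rw [← hk, Subgroup.index]
    exact orderOf_dvd_natCard _
  obtain ⟨i, -, hi⟩ := (Nat.dvd_prime_pow hp).1 h2
  rcases Nat.eq_zero_or_pos i with h0 | h0
  · rw [hi, h0, pow_zero]
  · exact absurd ((dvd_pow_self p h0.ne').trans (hi ▸ h1)) hx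

variable (N : Subgroup G) [hN : N.Normal] [Fintype N]

/-- Over a normal subgroup of `p`-power index at most one block covers a given block. -/
theorem cover_unique (hM : IsPModular p M) (hidx : ∃ k : ℕ, N.index = p ^ k)
    {b : Set (IrrCharacter N)} (hb : IsPBlock M b) {B₁ B₂ : Set (IrrCharacter G)}
    (hB₁ : IsPBlock M B₁) (hB₂ : IsPBlock M B₂)
    (h₁ : ∃ χ ∈ B₁, ∃ θ ∈ b, classInner (fun n : N => (χ : G → ℂ) n) (θ : N → ℂ) ≠ 0)
    (h₂ : ∃ χ ∈ B₂, ∃ θ ∈ b, classInner (fun n : N => (χ : G → ℂ) n) (θ : N → ℂ) ≠ 0) :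
    B₁ = B₂ := by
  classical
  obtain ⟨k, hk⟩ := hidx
  obtain ⟨χ₁, hχ₁, θ₁, hθ₁, hc₁⟩ := h₁
  obtain ⟨χ₂, hχ₂, θ₂, hθ₂, hc₂⟩ := h₂
  suffices χ₂ ∈ B₁ by
    rw [CfsgLib.Blocks.IsPBlock.eq_blockOf hM hB₁ this,
      CfsgLib.Blocks.IsPBlock.eq_blockOf hM hB₂ hχ₂]
  by_contra hne
  apply CfsgLib.Blocks.not_memLocalIdeal_one hM
  have h := fun χ : IrrCharacter G =>
    (CfsgLib.Blocks.omega_eq_sum_classes χ (CfsgLib.Blocks.blockIdem_mem_center B₁)).symm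
  simp only [CfsgLib.Blocks.omega_blockIdem, CfsgLib.Blocks.coeff_blockIdem] at h
  have hsub := congrArg₂ (· - ·) (h χ₁) (h χ₂)
  rw [if_pos hχ₁, if_neg hne, sub_zero, ← Finset.sum_sub_distrib] at hsub
  rw [← hsub]
  refine CfsgLib.Blocks.MemLocalIdeal.sum hM _ fun c _ => ?_
  by_cases hp : p ∣ orderOf c.out
  · rw [CfsgLib.Blocks.blockCoeff_eq_zero_of_singular hM hB₁ hp, zero_mul, zero_mul, sub_self]
    exact CfsgLib.Blocks.memLocalIdeal_zero hM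
  · have hn := mem_of_regular hM.1 hk hp
    rw [← mul_sub]
    refine CfsgLib.Blocks.MemLocalIdeal.mul_left hM
      (CfsgLib.Blocks.memLocalRing_blockCoeff hM hB₁ _) ?_
    have := CfsgLib.Blocks.MemLocalIdeal.sub hM
      (congr_of_covers N hM hB₁ hb hχ₁ hθ₁ hc₁ hχ₁ hθ₁ ⟨c.out, hn⟩)
      (congr_of_covers N hM hB₂ hb hχ₂ hθ₂ hc₂ hχ₂ hθ₁ ⟨c.out, hn⟩)
    simpa using this

end CfsgLib.BlockCover
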