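import Cfsg.Agent.Lib.BlockCover.CentralDefectBlock
import Cfsg.Agent.Lib.Blocks.WeakOrth
import Cfsg.Prelude.Def_BlockRank

/-! # The members of the block of a character of the greatest degree over a centralised
normal `p`-subgroup -/

set_option autoImplicit false
open Cfsg
open CfsgLib.Characters CfsgLib.CharCorr CfsgLib.BlockCover
open scoped ComplexConjugate

namespace CfsgLib.CentralDefect

universe u

variable {G : Type u} [Group G] [Fintype G] {p : ℕ} [hp : Fact p.Prime] {M : Ideal AlgInt}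
variable {P : Subgroup G} {χ : IrrCharacter G} {b : ℕ}

/-- Invariance of a function on `P` under conjugation in `G`. -/
def ConjInv (P : Subgroup G) (ζ : P → ℂ) : Prop :=
  ∀ (g : G) (u : P) (h : g * (u : G) * g⁻¹ ∈ P), ζ ⟨g * u * g⁻¹, h⟩ = ζ u

/-- The extensions are irreducible. -/
theorem isIrr_pExt (h : Setup p P χ b) (ζ : IrrCharacter P) (hζ : ConjInv P (ζ : P → ℂ)) :
    IsIrrCharacter G (pExt P p (ζ : P → ℂ) (χ : G → ℂ)) := by
  classical
  have := h.normal
  let _ := Fintype.ofFinite P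
  have hζ' : ∀ (g : G) (u : P), (ζ : P → ℂ) ⟨g * u * g⁻¹, h.normal.conj_mem u u.2 g⟩ =
      (ζ : P → ℂ) u := fun g u => hζ g u _
  refine isIrrCharacter_of_generalized_norm_one
    (isGeneralized_pExt h.pgroup h.comm (isCharacter_of_irr ζ.2) hζ' χ h.not_dvd h.degree) ?_ ?_
  · obtain ⟨hR, -⟩ := regular_sum_and_vanish h
    have h1 := classInner_irr_self ζ.2
    rw [classInner, inv_mul_eq_iff_eq_mul₀ (Nat.cast_ne_zero.mpr Nat.card_pos.ne'), mul_one] at h1
    have hR' := congrArg (fun t : ℝ => (t : ℂ)) hR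
    simp only [Complex.ofReal_mul, Complex.ofReal_natCast] at hR'
    rw [classInner_pExt h, h1, mul_assoc, hR']
    exact inv_mul_cancel₀ (Nat.cast_ne_zero.mpr Nat.card_pos.ne')
  · have h1 := pExt_mul h.pgroup h.comm (ζ : P → ℂ) (χ : G → ℂ) 1 (y := (1 : G))
      (by rw [orderOf_one]; exact hp.out.not_dvd_one)
    rw [OneMemClass.coe_one, one_mul] at h1
    rw [h1, irr_one_eq_charDegree ζ, irr_one_eq_charDegree χ]
    simp only [Complex.mul_re, Complex.natCast_re, Complex.natCast_im, mul_zero, sub_zero]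
    positivity

omit hp in
theorem regIdem_sum (χ ψ : IrrCharacter G) (b : ℕ) :
    ∑ y : G, regIdem p χ b y * (ψ : G → ℂ) y =
      (b : ℂ)⁻¹ * ∑ y ∈ regSet G p, (ψ : G → ℂ) y * conj ((χ : G → ℂ) y) := by
  rw [regSet, Finset.sum_filter, Finset.mul_sum]
  refine Finset.sum_congr rfl fun y _ => ?_
  rw [regIdem]
  split_ifs <;> ring

/-- The extensions lie in the block. -/
theorem sameBlock_pExt (hM : IsPModular p M) (h : Setup p P χ b) (ζ : IrrCharacter P)
    (θ : IrrCharacter G) (hθ : ∀ g, (θ : G → ℂ) g = pExt P p (ζ : P → ℂ) (χ : G → ℂ) g) :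
    SameBlock M (χ : G → ℂ) (θ : G → ℂ) := by
  classical
  by_contra hne
  have h0 := Blocks.sum_regular_eq_zero_of_not_sameBlock hM hne
  obtain ⟨hR, -⟩ := regular_sum_and_vanish h
  have h1 : ∀ y ∈ regSet G p, (χ : G → ℂ) y * conj ((θ : G → ℂ) y) =
      conj ((ζ : P → ℂ) 1) * ((Complex.normSq ((χ : G → ℂ) y) : ℝ) : ℂ) := by
    intro y hy
    have h2 := pExt_mul h.pgroup h.comm (ζ : P → ℂ) (χ : G → ℂ) 1 (mem_regSet.1 hy)
    rw [OneMemClass.coe_one, one_mul] at h2
    rw [hθ, h2, map_mul, ← Complex.mul_conj]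
    ring
  rw [show (Finset.univ.filter fun x : G => ¬ p ∣ orderOf x) = regSet G p from rfl,
    Finset.sum_congr rfl h1, ← Finset.mul_sum, ← Complex.ofReal_sum, mul_eq_zero] at h0
  rcases h0 with h0 | h0
  · exact irr_one_ne_zero ζ (by simpa using h0)
  · rw [Complex.ofReal_eq_zero] at h0
    rw [h0, mul_zero] at hR
    exact (Nat.cast_ne_zero.mpr Nat.card_pos.ne') hR.symm

/-- Every member of the block is an extension. -/
theorem exists_eq_pExt (hM : IsPModular p M) (h : Setup p P χ b)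
    (hinv : ∀ ζ : IrrCharacter P, ConjInv P (ζ : P → ℂ)) {ψ : IrrCharacter G}
    (hψ : SameBlock M (χ : G → ℂ) (ψ : G → ℂ)) :
    ∃ ζ : IrrCharacter P, ∀ g, (ψ : G → ℂ) g = pExt P p (ζ : P → ℂ) (χ : G → ℂ) g := by
  classical
  by_contra hne
  let _ := Fintype.ofFinite P
  set f : P → ℂ := fun u => ∑ y ∈ regSet G p, (ψ : G → ℂ) ((u : G) * y) * conj ((χ : G → ℂ) y)
    with hf
  have hfc : IsClassFunction P f := fun u v => by
    refine Finset.sum_congr rfl fun y hy => ?_
    congr 1
    have hvy : Commute (v : G) y := h.comm y (mem_regSet.1 hy) v v.2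
    rw [← irr_isClassFunction ψ ((u : G) * y) (v : G)]
    congr 1
    simp only [Subgroup.coe_mul, Subgroup.coe_inv]
    rw [mul_assoc ((v : G) * u), hvy.inv_left.eq]
    group
  have horth : ∀ ζ : IrrCharacter P, classInner f (ζ : P → ℂ) = 0 := fun ζ => by
    have hne' : ψ ≠ ⟨_, isIrr_pExt h ζ (hinv ζ)⟩ := fun he => hne ⟨ζ, fun g => by rw [he]⟩
    have h0 : classInner (ψ : G → ℂ) (pExt P p (ζ : P → ℂ) (χ : G → ℂ)) = 0 :=
      classInner_irr_ne ψ.2 (isIrr_pExt h ζ (hinv ζ)) (fun he => hne' (Subtype.ext he))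
    rw [classInner, mul_eq_zero] at h0
    rcases h0 with h0 | h0
    · simp at h0
    rw [sum_eq_sum_prod h.pgroup h.comm _ fun g hg => by
      rw [pExt_eq_zero _ _ hg, map_zero, mul_zero]] at h0
    rw [classInner, mul_eq_zero]
    right
    rw [← h0]
    refine Finset.sum_congr rfl fun u _ => ?_
    rw [hf, Finset.sum_mul]
    refine Finset.sum_congr rfl fun y hy => ?_
    rw [pExt_mul h.pgroup h.comm _ _ u (mem_regSet.1 hy), map_mul]
    ring
  have hz := congrFun (eq_zero_of_forall_classInner_eq_zero hfc horth) 1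
  simp only [hf, OneMemClass.coe_one, one_mul, Pi.zero_apply] at hz
  apply omega_regIdem_unit hM h hψ
  rw [regIdem_sum, hz, mul_zero, zero_div]
  exact Blocks.memLocalIdeal_zero hM

/-- All members restrict to `p`-regular elements as multiples of the given character. -/
theorem regular_apply (h : Setup p P χ b) {ψ : IrrCharacter G} {ζ : IrrCharacter P}
    (hψ : ∀ g, (ψ : G → ℂ) g = pExt P p (ζ : P → ℂ) (χ : G → ℂ) g) {y : G}
    (hy : ¬ p ∣ orderOf y) : (ψ : G → ℂ) y = (ζ : P → ℂ) 1 * (χ : G → ℂ) y := by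
  have h2 := pExt_mul h.pgroup h.comm (ζ : P → ℂ) (χ : G → ℂ) 1 hy
  rw [OneMemClass.coe_one, one_mul] at h2
  rw [hψ, h2]

/-- The block has rank one. -/
theorem blockRank_eq_one (hM : IsPModular p M) (h : Setup p P χ b)
    (hinv : ∀ ζ : IrrCharacter P, ConjInv P (ζ : P → ℂ)) {B : Set (IrrCharacter G)}
    (hB : IsPBlock M B) (hχ : χ ∈ B) : blockRank p B = 1 := by
  have h1 : Submodule.span ℂ ((fun ψ : IrrCharacter G => pRegularPart p (ψ : G → ℂ)) '' B) =
      Submodule.span ℂ {pRegularPart p (χ : G → ℂ)} := by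
    refine le_antisymm (Submodule.span_le.2 ?_) (Submodule.span_mono ?_)
    · rintro _ ⟨ψ, hψ, rfl⟩
      obtain ⟨ζ, hζ⟩ := exists_eq_pExt hM h hinv ((Blocks.IsPBlock.mem_iff hM hB hχ ψ).1 hψ)
      refine Submodule.mem_span_singleton.2 ⟨(ζ : P → ℂ) 1, funext fun y => ?_⟩
      simp only [Pi.smul_apply, smul_eq_mul, pRegularPart]
      split_ifs with hy
      · rw [regular_apply h hζ hy]
      · rw [mul_zero]
    · exact Set.singleton_subset_iff.2 ⟨χ, hχ, rfl⟩
  have h2 : pRegularPart p (χ : G → ℂ) ≠ 0 := fun h0 => by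
    have := congrFun h0 1
    rw [Pi.zero_apply, pRegularPart, if_pos] at this
    · exact irr_one_ne_zero χ this
    · rw [IsPRegular, orderOf_one]; exact hp.out.not_dvd_one
  rw [blockRank, h1, finrank_span_singleton h2]

/-- A character of height zero in a block with defect group `D` has the `p`-part of the index. -/
theorem exists_degree_eq_index (hM : IsPModular p M) {B : Set (IrrCharacter G)} (hB : IsPBlock M B)
    {D : Subgroup G} (hD : IsDefectGroup p M B D) :
    ∃ χ ∈ B, (charDegree (χ : G → ℂ)).factorization p = D.index.factorization p := by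
  obtain ⟨χ, hχ, hv⟩ := Nat.sInf_mem ((Blocks.IsPBlock.nonempty hM hB).image
    (fun χ : IrrCharacter G => (charDegree (χ : G → ℂ)).factorization p))
  refine ⟨χ, hχ, ?_⟩
  have hle : (charDegree (χ : G → ℂ)).factorization p ≤ (Nat.card G).factorization p :=
    (Nat.factorization_le_iff_dvd (charDegree_ne_zero χ) Nat.card_pos.ne').2
      (charDegree_irr_dvd_card χ) p
  have h1 := natCard_defect hM hB hD
  have hv' := factorization_card_eq (p := p) D
  rw [h1, hp.out.factorization_pow, Finsupp.single_eq_same] at hv'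
  have hd : blockDefect p B = (Nat.card G).factorization p -
      (charDegree (χ : G → ℂ)).factorization p := by rw [blockDefect, ← hv]
  omega

end CfsgLib.CentralDefect
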