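import Cfsg.Agent.Lib.BlockCover.Defect

/-!
# Defect groups: containment criteria and existence at regular classes
-/

set_option autoImplicit false
set_option linter.style.haveILetI false
set_option linter.unusedSectionVars false

namespace CfsgLib.BlockCover

open Cfsg MonoidAlgebra CfsgLib.BrauerPairs
open CfsgLib.Blocks (lRing)

variable {p : ℕ} {M : Ideal AlgInt} {G : Type*} [Group G] [Fintype G] [Fact p.Prime]

/-- A block is a trace from a Sylow subgroup of the centraliser of any class at which its central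
character is a unit. -/
theorem inTr_of_centralChar [M.IsMaximal] (hM : IsPModular p M) {B : Set (IrrCharacter G)}
    (hB : IsPBlock M B) {ξ : IrrCharacter G} (hξ : ξ ∈ B) {g : G}
    (hg : ¬ MemLocalIdeal M (centralChar (ξ : G → ℂ) g))
    (S : Sylow p (Subgroup.centralizer ({g} : Set G))) :
    InTr (⊥ : Subgroup G) ((S : Subgroup _).map (Subgroup.centralizer ({g} : Set G)).subtype) ⊤
      (eG hM B) := by
  classical
  have := charP_res hM
  set D := (S : Subgroup (Subgroup.centralizer ({g} : Set G))).map (Subgroup.centralizer ({g} : Set G)).subtype with hD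
  have hDC : D ≤ (Subgroup.centralizer ({g} : Set G)) := Subgroup.map_subtype_le _
  have hsing : single g (1 : ResK M) ∈ fixAlg (ResK M) (Subgroup.centralizer ({g} : Set G)) := by
    intro u hu
    have hug : g * u = u * g := Subgroup.mem_centralizer_iff.1 hu g rfl
    rw [BrauerPairs.conjA, single_mul_single, single_mul_single, one_mul, one_mul, ← hug,
      mul_inv_cancel_right]
  have hidx : ((D.relIndex (Subgroup.centralizer ({g} : Set G)) : ℕ) : ResK M) ≠ 0 := by
    rw [Ne, CharP.cast_eq_zero_iff (ResK M) p, Subgroup.relIndex, hD, Subgroup.subgroupOf,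
      Subgroup.comap_map_eq_self_of_injective (Subgroup.centralizer ({g} : Set G)).subtype_injective]
    exact S.not_dvd_index
  have hS := brSetup_block (p := p) hM hB
  let c : G → ℂ := fun y => if ∃ h ∈ (⊤ : Subgroup G), h * g * h⁻¹ = y then 1 else 0
  have hc : ∀ y, c y ∈ lRing hM := fun y => by
    simp only [c]; split_ifs
    · exact Subring.one_mem _
    · exact Subring.zero_mem _
  have hcl : ∀ x y, c (x * y * x⁻¹) = c y := by
    intro x y
    simp only [c, Subgroup.mem_top, true_and]
    refine if_congr ⟨?_, ?_⟩ rfl rfl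
    · rintro ⟨h, hh⟩
      exact ⟨x⁻¹ * h, by rw [mul_inv_rev, inv_inv, show x⁻¹ * h * g * (h⁻¹ * x) =
        x⁻¹ * (h * g * h⁻¹) * x by group, hh]; group⟩
    · rintro ⟨h, hh⟩
      exact ⟨x * h, by rw [mul_inv_rev, show x * h * g * (h⁻¹ * x⁻¹) =
        x * (h * g * h⁻¹) * x⁻¹ by group, hh]⟩
  have hz : redFun hM c = relTr (ResK M) (Subgroup.centralizer ({g} : Set G)) ⊤ (single g (1 : ResK M)) := by
    rw [← top_inf_eq (Subgroup.centralizer ({g} : Set G)), relTr_single_self]
    ext y
    rw [coeff_redFun hM (hc y), Blocks.coeff_ofFun]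
    by_cases hy : ∃ h ∈ (⊤ : Subgroup G), h * g * h⁻¹ = y
    · rw [if_pos hy]
      have h1 : (⟨c y, hc y⟩ : lRing hM) = 1 := Subtype.ext (by simp only [c]; rw [if_pos hy]; rfl)
      rw [h1, map_one]
    · rw [if_neg hy]
      have h1 : (⟨c y, hc y⟩ : lRing hM) = 0 := Subtype.ext (by simp only [c]; rw [if_neg hy]; rfl)
      rw [h1, map_zero]
  have hTr : InTr (⊥ : Subgroup G) D ⊤ (redFun hM c) := by
    refine ⟨((D.relIndex (Subgroup.centralizer ({g} : Set G)) : ℕ) : ResK M)⁻¹ • single g (1 : ResK M),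
      by rw [cz_bot]; exact mem_suppAlg_top _,
      Subalgebra.smul_mem _ (fixAlg_anti hDC hsing) _, ?_⟩
    rw [hz, ← relTr_relTr hDC le_top (Subalgebra.smul_mem _ (fixAlg_anti hDC hsing) _),
      relTr_smul D (Subgroup.centralizer ({g} : Set G)), relTr_of_fixed hsing, smul_smul, inv_mul_cancel₀ hidx, one_smul]
  refine hS.inTr_of_not_nilpotent le_top hTr fun hn => ?_
  have hl : resK hM ⟨_, omega_sum_mem hM ξ hc hcl⟩ ≠ 0 := by
    intro h0
    apply hg
    have h1 := (resK_eq_zero_iff hM _).1 h0
    have h2 : (∑ᶠ x : G, c x * (ξ : G → ℂ) x / (ξ : G → ℂ) 1) =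
        centralChar (ξ : G → ℂ) g := by
      rw [omega_sum_eq, ← Blocks.omega_classSum (Characters.irr_isClassFunction ξ) g]
      congr 1
      ext y
      rw [Blocks.coeff_ofFun, Blocks.coeff_classSum]
      simp only [c, Subgroup.mem_top, true_and, isConj_iff]
    rwa [← h2]
  obtain ⟨n, hn⟩ := hn
  have hb := isBlockIdem_eG hM hB
  have h1 := nilpotent_sub hM hB hξ hc hcl
  apply hb.ne_zero
  set l := resK hM ⟨_, omega_sum_mem hM ξ hc hcl⟩
  have hcomm : Commute (redFun hM c * eG hM B) (l • eG hM B) := by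
    refine Commute.smul_right ?_ _
    exact commute_of_supp_fix (mem_suppAlg_top _) hb.fixed
  have h2 : IsNilpotent (l • eG hM B) := by
    have h3 := ((Commute.refl (redFun hM c * eG hM B)).sub_right hcomm).isNilpotent_sub ⟨n, hn⟩ h1
    simpa using h3
  have h4 := h2.smul l⁻¹
  rw [smul_smul, inv_mul_cancel₀ hl, one_smul] at h4
  exact eq_zero_of_nilpotent_idem h4 hb.idem

theorem eG_coeff_ne_zero_iff [M.IsMaximal] (hM : IsPModular p M) {B : Set (IrrCharacter G)}
    (hB : IsPBlock M B) (g : G) :
    (eG hM B).coeff g ≠ 0 ↔ ¬ MemLocalIdeal M (blockCoeff B g) := by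
  rw [eG, coeff_redFun hM (BrauerPairs.blockCoeff_mem hM hB g), Ne, resK_eq_zero_iff]

theorem brMap_eG_ne_zero_iff [M.IsMaximal] (hM : IsPModular p M) {B : Set (IrrCharacter G)}
    (hB : IsPBlock M B) (P : Subgroup G) :
    brMap (ResK M) P (eG hM B) ≠ 0 ↔
      ∃ g ∈ Subgroup.centralizer (P : Set G), ¬ MemLocalIdeal M (blockCoeff B g) := by
  constructor
  · intro h
    by_contra hcon
    apply h
    ext g
    rw [coeff_zero, Finsupp.zero_apply]
    by_cases hg : g ∈ cz P
    · rw [coeff_brMap_of_mem _ hg]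
      by_contra hne
      exact hcon ⟨g, hg, (eG_coeff_ne_zero_iff hM hB g).1 hne⟩
    · exact coeff_brMap_of_notMem _ hg
  · rintro ⟨g, hg, hne⟩ h0
    apply (eG_coeff_ne_zero_iff hM hB g).2 hne
    rw [← coeff_brMap_of_mem (k := ResK M) _ hg, h0, coeff_zero, Finsupp.zero_apply]

theorem isPGroup_defect (hM : IsPModular p M) {B : Set (IrrCharacter G)}
    {D : Subgroup G} (hD : IsDefectGroup p M B D) : IsPGroup p D := by
  obtain ⟨g, -, S, rfl⟩ := hD
  exact S.2.map _

theorem isDefectGroup_conj (hM : IsPModular p M) {B : Set (IrrCharacter G)}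
    (hB : IsPBlock M B) {D : Subgroup G} (hD : IsDefectGroup p M B D) (t : G) :
    IsDefectGroup p M B (D.map (MulAut.conj t).toMonoidHom) := by
  haveI := hM.2.1
  exact (isDefectGroup_iff hM hB _).2
    (((isDefectGroup_iff hM hB D).1 hD).conj (brSetup_block hM hB) (Subgroup.mem_top t))

theorem defectGroup_conjugate (hM : IsPModular p M) {B : Set (IrrCharacter G)}
    (hB : IsPBlock M B) {D D' : Subgroup G} (hD : IsDefectGroup p M B D)
    (hD' : IsDefectGroup p M B D') : ∃ t : G, D' = D.map (MulAut.conj t).toMonoidHom := by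
  haveI := hM.2.1
  have := charP_res hM
  obtain ⟨t, -, ht⟩ := (brSetup_block hM hB).isDefect_conj ((isDefectGroup_iff hM hB D).1 hD)
    ((isDefectGroup_iff hM hB D').1 hD')
  exact ⟨t, ht⟩

/-- Brauer's criterion for containment in a defect group. -/
theorem exists_conj_le_defect_iff (hM : IsPModular p M) {B : Set (IrrCharacter G)}
    (hB : IsPBlock M B) {D : Subgroup G} (hD : IsDefectGroup p M B D) {P : Subgroup G}
    (hP : IsPGroup p P) :
    (∃ g ∈ Subgroup.centralizer (P : Set G), ¬ MemLocalIdeal M (blockCoeff B g)) ↔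
      ∃ x : G, P.map (MulAut.conj x).toMonoidHom ≤ D := by
  haveI := hM.2.1
  have := charP_res hM
  have hd := (isDefectGroup_iff hM hB D).1 hD
  rw [← brMap_eG_ne_zero_iff hM hB P]
  constructor
  · intro h
    obtain ⟨t, -, ht⟩ := (brSetup_block hM hB).exists_le_conj hd.inTr hP le_top h
    refine ⟨t⁻¹, ?_⟩
    rintro _ ⟨x, hx, rfl⟩
    obtain ⟨d, hd', hdx⟩ := ht hx
    have : d = t⁻¹ * x * t := by rw [← hdx]; simp [MulAut.conj_apply, mul_assoc]
    simpa [MulAut.conj_apply, ← this] using hd'
  · rintro ⟨x, hx⟩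
    have hne := (brSetup_block (p := p) hM hB).fixed x (Subgroup.mem_top x)
    intro h0
    refine brMap_ne_zero_of_le hx hd.br_ne ?_
    rw [← hne, ← conjA_brMap, h0, BrauerPairs.conjA_zero]

/-- Where the coefficient of a block is a unit, the centraliser's `p`-subgroups lie in defect
groups. -/
theorem exists_conj_le_defect_of_coeff (hM : IsPModular p M) {B : Set (IrrCharacter G)}
    (hB : IsPBlock M B) {D : Subgroup G} (hD : IsDefectGroup p M B D) {g : G}
    (hg : ¬ MemLocalIdeal M (blockCoeff B g)) {P : Subgroup G} (hP : IsPGroup p P)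
    (hPg : P ≤ Subgroup.centralizer ({g} : Set G)) :
    ∃ x : G, P.map (MulAut.conj x).toMonoidHom ≤ D :=
  (exists_conj_le_defect_iff hM hB hD hP).1
    ⟨g, fun y hy => (Subgroup.mem_centralizer_iff.1 (hPg hy) g rfl).symm, hg⟩

theorem natCard_map_subtype {H : Subgroup G} (K : Subgroup H) :
    Nat.card (K.map H.subtype) = Nat.card K :=
  Subgroup.card_map_of_injective H.subtype_injective

theorem natCard_sylow_centralizer {g : G} (S : Sylow p (Subgroup.centralizer ({g} : Set G))) :
    Nat.card ((S : Subgroup (Subgroup.centralizer ({g} : Set G))).map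
        (Subgroup.centralizer ({g} : Set G)).subtype) =
      p ^ (Nat.card (Subgroup.centralizer ({g} : Set G))).factorization p := by
  rw [natCard_map_subtype, S.card_eq_multiplicity]

/-- A defect group lies in a conjugate of a Sylow subgroup of the centraliser of any element
at which the central character is a unit. -/
theorem defect_le_sylow (hM : IsPModular p M) {B : Set (IrrCharacter G)} (hB : IsPBlock M B)
    {D : Subgroup G} (hD : IsDefectGroup p M B D) {ξ : IrrCharacter G} (hξ : ξ ∈ B) {g : G}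
    (hg : ¬ MemLocalIdeal M (centralChar (ξ : G → ℂ) g))
    (S : Sylow p (Subgroup.centralizer ({g} : Set G))) :
    ∃ t : G, D ≤ ((S : Subgroup _).map (Subgroup.centralizer ({g} : Set G)).subtype).map
      (MulAut.conj t).toMonoidHom := by
  haveI := hM.2.1
  have := charP_res hM
  have hd := (isDefectGroup_iff hM hB D).1 hD
  obtain ⟨t, -, ht⟩ := (brSetup_block hM hB).exists_le_conj
    (inTr_of_centralChar hM hB hξ hg S) hd.pgroup le_top hd.br_ne
  exact ⟨t, ht⟩

/-- The order of a defect group is `p` to the defect. -/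
theorem natCard_defect (hM : IsPModular p M) {B : Set (IrrCharacter G)} (hB : IsPBlock M B)
    {D : Subgroup G} (hD : IsDefectGroup p M B D) : Nat.card D = p ^ blockDefect p B := by
  obtain ⟨x, -, hx, hu⟩ := exists_regular_defect_class hM hB
  obtain ⟨η, hη, -⟩ := exists_height_zero hM hB
  obtain ⟨S⟩ : Nonempty (Sylow p (Subgroup.centralizer ({x} : Set G))) := inferInstance
  obtain ⟨t, ht⟩ := defect_le_sylow hM hB hD hη (hu η hη) S
  have h1 := Subgroup.card_le_of_le ht
  rw [Subgroup.card_map_of_injective (MulAut.conj t).injective, natCard_sylow_centralizer, hx] at h1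
  refine le_antisymm h1 ?_
  obtain ⟨g, hg, T, rfl⟩ := hD
  rw [natCard_sylow_centralizer]
  exact Nat.pow_le_pow_right hM.1.pos (blockDefect_le hM hB hg.2.2)

theorem exists_conj_sylow {g : G} (S : Sylow p (Subgroup.centralizer ({g} : Set G))) (t : G) :
    ∃ T : Sylow p (Subgroup.centralizer ({t * g * t⁻¹} : Set G)),
      (T : Subgroup _).map (Subgroup.centralizer ({t * g * t⁻¹} : Set G)).subtype =
        ((S : Subgroup _).map (Subgroup.centralizer ({g} : Set G)).subtype).map
          (MulAut.conj t).toMonoidHom := by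
  set R := ((S : Subgroup _).map (Subgroup.centralizer ({g} : Set G)).subtype).map
    (MulAut.conj t).toMonoidHom with hR
  have hle : R ≤ Subgroup.centralizer ({t * g * t⁻¹} : Set G) := by
    rintro _ ⟨y, hy, rfl⟩
    have hgy := Subgroup.mem_centralizer_iff.1 (Subgroup.map_subtype_le _ hy) g rfl
    refine Subgroup.mem_centralizer_singleton_iff.2 ?_
    simp only [MulEquiv.coe_toMonoidHom, MulAut.conj_apply]
    calc t * y * t⁻¹ * (t * g * t⁻¹) = t * (y * g) * t⁻¹ := by group
      _ = t * (g * y) * t⁻¹ := by rw [hgy]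
      _ = _ := by group
  have hcard : Nat.card (Subgroup.centralizer ({t * g * t⁻¹} : Set G)) =
      Nat.card (Subgroup.centralizer ({g} : Set G)) := by
    have h1 := index_centralizer_map (MulAut.conj t) g
    rw [MulAut.conj_apply] at h1
    have h2 := (Subgroup.centralizer ({t * g * t⁻¹} : Set G)).card_mul_index
    rw [h1, ← (Subgroup.centralizer ({g} : Set G)).card_mul_index] at h2
    exact Nat.eq_of_mul_eq_mul_right (Nat.pos_of_ne_zero Subgroup.index_ne_zero_of_finite) h2
  refine ⟨Sylow.ofCard (R.subgroupOf _) ?_, ?_⟩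
  · rw [Nat.card_congr (Subgroup.subgroupOfEquivOfLe hle).toEquiv, hR,
      Subgroup.card_map_of_injective (MulAut.conj t).injective, natCard_sylow_centralizer, hcard]
  · exact Subgroup.map_subgroupOf_eq_of_le hle

/-- A defect group is a Sylow subgroup of the centraliser of a `p`-regular element at which
the central characters are units. -/
theorem exists_regular_sylow (hM : IsPModular p M) {B : Set (IrrCharacter G)}
    (hB : IsPBlock M B) {D : Subgroup G} (hD : IsDefectGroup p M B D) :
    ∃ x : G, ¬ p ∣ orderOf x ∧ (∀ χ ∈ B, ¬ MemLocalIdeal M (centralChar (χ : G → ℂ) x)) ∧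
      ∃ S : Sylow p (Subgroup.centralizer ({x} : Set G)),
        (S : Subgroup _).map (Subgroup.centralizer ({x} : Set G)).subtype = D := by
  obtain ⟨x, hreg, hx, hu⟩ := exists_regular_defect_class hM hB
  obtain ⟨η, hη, -⟩ := exists_height_zero hM hB
  obtain ⟨S⟩ : Nonempty (Sylow p (Subgroup.centralizer ({x} : Set G))) := inferInstance
  obtain ⟨t, ht⟩ := defect_le_sylow hM hB hD hη (hu η hη) S
  obtain ⟨T, hT⟩ := exists_conj_sylow S t
  refine ⟨t * x * t⁻¹, ?_, fun χ hχ h => hu χ hχ ?_, T, hT.trans ?_⟩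
  · rwa [show t * x * t⁻¹ = MulAut.conj t x from rfl,
      MulEquiv.orderOf_eq]
  · rwa [CfsgLib.Blocks.centralChar_of_isConj χ (isConj_iff.2 ⟨t, rfl⟩)]
  · symm
    refine Subgroup.eq_of_le_of_card_ge ht ?_
    rw [Subgroup.card_map_of_injective (MulAut.conj t).injective, natCard_sylow_centralizer, hx,
      natCard_defect hM hB hD]

end CfsgLib.BlockCover
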