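import Cfsg.Agent.Lib.Blocks.Idempotent
import Cfsg.Agent.Lib.CharCorr.Basic
import Cfsg.Agent.Lib.Characters.Induction

/-!
# Blocks and normal subgroups

Central functions, unions of blocks, twisting, and the covering criterion of Passman.
-/

set_option autoImplicit false
set_option linter.style.haveILetI false
set_option linter.unusedSectionVars false
set_option linter.unusedSimpArgs false

namespace CfsgLib.BlockCover

open Cfsg MonoidAlgebra
open CfsgLib.Characters CfsgLib.CharCorr
open CfsgLib.Blocks (lRing omega ofFun coeff_ofFun)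
open scoped ComplexConjugate

variable {p : ℕ} {M : Ideal AlgInt}

section General

variable {G : Type*} [Group G] [Fintype G]

theorem ofFun_mem_center {f : G → ℂ} (hf : IsClassFunction G f) :
    ofFun f ∈ Subalgebra.center ℂ (MonoidAlgebra ℂ G) := by
  rw [CfsgLib.Blocks.mem_center_iff_coeff]
  intro g h
  simp only [coeff_ofFun, hf g h]

/-- Local class functions see blocks only. -/
theorem omega_congr (hM : IsPModular p M) {χ ψ : IrrCharacter G}
    (h : SameBlock M (χ : G → ℂ) (ψ : G → ℂ)) {f : G → ℂ} (hf : IsClassFunction G f)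
    (hR : ∀ x, MemLocalRing M (f x)) :
    MemLocalIdeal M ((∑ x : G, f x * (χ : G → ℂ) x) / (χ : G → ℂ) 1 -
      (∑ x : G, f x * (ψ : G → ℂ) x) / (ψ : G → ℂ) 1) := by
  have := CfsgLib.Blocks.omega_congr_of_sameBlock hM h (ofFun_mem_center hf)
    (fun x => by simpa using hR x)
  simpa [CfsgLib.Blocks.omega_ofFun] using this

/-- Local class functions give local scalars. -/
theorem omega_mem (hM : IsPModular p M) (χ : IrrCharacter G) {f : G → ℂ}
    (hf : IsClassFunction G f) (hR : ∀ x, MemLocalRing M (f x)) :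
    MemLocalRing M ((∑ x : G, f x * (χ : G → ℂ) x) / (χ : G → ℂ) 1) := by
  have := CfsgLib.Blocks.omega_mem_lRing hM χ (ofFun_mem_center hf) (fun x => by simpa using hR x)
  simpa [CfsgLib.Blocks.omega_ofFun] using this

open scoped Classical in
theorem sum_blockCoeff_mul (A : Set (IrrCharacter G)) (χ : IrrCharacter G) :
    (∑ x : G, blockCoeff A x * (χ : G → ℂ) x) / (χ : G → ℂ) 1 = if χ ∈ A then 1 else 0 := by
  have := CfsgLib.Blocks.omega_blockIdem A χ
  rwa [CfsgLib.Blocks.blockIdem, CfsgLib.Blocks.omega_ofFun] at this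

theorem isClassFunction_blockCoeff (A : Set (IrrCharacter G)) :
    IsClassFunction G (blockCoeff A) := fun g h => CfsgLib.Blocks.blockCoeff_conj A g h

/-- A union of blocks has locally integral idempotent coefficients. -/
theorem memLocalRing_blockCoeff_union (hM : IsPModular p M) {A : Set (IrrCharacter G)}
    (hA : ∀ χ ∈ A, blockOf M (χ : G → ℂ) ⊆ A) (g : G) : MemLocalRing M (blockCoeff A g) := by
  classical
  let S := Finset.univ.filter (· ∈ A)
  have hfib : ∀ χ ∈ S, ((Finset.univ.filter (· ∈ blockOf M (χ : G → ℂ))) : Finset (IrrCharacter G))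
      = S.filter fun ψ : IrrCharacter G => blockOf M (ψ : G → ℂ) = blockOf M (χ : G → ℂ) := by
    intro χ hχ
    ext ψ
    simp only [S, Finset.mem_filter, Finset.mem_univ, true_and]
    constructor
    · intro h
      exact ⟨hA χ (Finset.mem_filter.1 hχ).2 h,
        (CfsgLib.Blocks.IsPBlock.eq_blockOf hM (CfsgLib.Blocks.isPBlock_blockOf χ) h).symm⟩
    · exact fun h => h.2 ▸ CfsgLib.Blocks.mem_blockOf_self hM ψ
  rw [CfsgLib.Blocks.blockCoeff_eq_sum, ← Finset.sum_fiberwise_of_maps_to (s := S)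
    (t := S.image fun ψ : IrrCharacter G => blockOf M (ψ : G → ℂ))
    (g := fun ψ : IrrCharacter G => blockOf M (ψ : G → ℂ))
    (fun x hx => Finset.mem_image_of_mem _ hx), Finset.mul_sum]
  refine (lRing hM).sum_mem fun B hB => ?_
  obtain ⟨χ, hχ, rfl⟩ := Finset.mem_image.1 hB
  rw [← hfib χ hχ, ← CfsgLib.Blocks.blockCoeff_eq_sum]
  exact CfsgLib.Blocks.memLocalRing_blockCoeff hM (CfsgLib.Blocks.isPBlock_blockOf χ) g

theorem index_centralizer_map {A : Type*} [Group A] [Finite A] (e : A ≃* G) (a : A) :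
    (Subgroup.centralizer ({e a} : Set G)).index = (Subgroup.centralizer ({a} : Set A)).index := by
  rw [← CfsgLib.Blocks.natCard_isConj, ← CfsgLib.Blocks.natCard_isConj]
  exact Nat.card_congr ((e.toEquiv.subtypeEquiv fun x =>
    ⟨fun h => e.toMonoidHom.map_isConj h, fun h => by
      have := e.symm.toMonoidHom.map_isConj h
      simpa using this⟩).symm)

theorem centralChar_twistIrr {A : Type*} [Group A] [Finite A] (e : A ≃* G) (χ : IrrCharacter G)
    (a : A) : centralChar (twistIrr e χ : A → ℂ) a = centralChar (χ : G → ℂ) (e a) := by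
  simp [centralChar, index_centralizer_map e a]

/-- Twisting by an isomorphism respects blocks. -/
theorem sameBlock_twistIrr {A : Type*} [Group A] [Finite A] (e : A ≃* G) {χ ψ : IrrCharacter G}
    (h : SameBlock M (χ : G → ℂ) (ψ : G → ℂ)) :
    SameBlock M (twistIrr e χ : A → ℂ) (twistIrr e ψ : A → ℂ) := fun a => by
  rw [centralChar_twistIrr, centralChar_twistIrr]
  exact h (e a)

/-- Functions on classes: a local combination of congruent class totals is congruent. -/
theorem congr_of_classes [DecidableEq (ConjClasses G)] (hM : IsPModular p M) {X : Type*} [Fintype X] (cls : X → ConjClasses G)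
    (a : ConjClasses G → ℂ) (ha : ∀ c, MemLocalRing M (a c)) (F : X → ℂ)
    (h : ∀ c, MemLocalIdeal M (∑ x ∈ Finset.univ.filter (fun x => cls x = c), F x)) :
    MemLocalIdeal M (∑ x : X, a (cls x) * F x) := by
  classical
  rw [← Finset.sum_fiberwise Finset.univ cls]
  refine CfsgLib.Blocks.MemLocalIdeal.sum hM _ fun c _ => ?_
  rw [Finset.sum_congr rfl (fun x hx => by rw [(Finset.mem_filter.1 hx).2]), ← Finset.mul_sum]
  exact CfsgLib.Blocks.MemLocalIdeal.mul_left hM (ha c) (by convert h c)

end General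

section Sub

variable {G : Type*} [Group G] [Fintype G] (H : Subgroup G) [Fintype H]

open scoped Classical in
theorem inducedCentralChar_eq_sum (ξ : H → ℂ) (g : G) :
    inducedCentralChar H ξ g = (∑ h : H, (if IsConj g (h : G) then (1 : ℂ) else 0) * ξ h) / ξ 1 := by
  rw [inducedCentralChar, finsum_mem_eq_sum_of_inter_support_eq]
  rotate_left
  · exact Finset.univ.filter fun h : H => IsConj g (h : G)
  · ext h
    simp
  simp [Finset.sum_div, Finset.sum_filter, ite_div]

/-- Central characters induced from one block of a subgroup agree. -/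
theorem inducedCentralChar_congr (hM : IsPModular p M) {ξ ξ' : IrrCharacter H}
    (h : SameBlock M (ξ : H → ℂ) (ξ' : H → ℂ)) (g : G) :
    MemLocalIdeal M (inducedCentralChar H (ξ : H → ℂ) g - inducedCentralChar H (ξ' : H → ℂ) g) := by
  classical
  rw [inducedCentralChar_eq_sum, inducedCentralChar_eq_sum]
  refine omega_congr hM h (fun a b => ?_) (fun x => ?_)
  · simp only [Subgroup.coe_mul, Subgroup.coe_inv, CfsgLib.Blocks.isConj_conj_iff]
  · split_ifs
    · exact (lRing hM).one_mem
    · exact (lRing hM).zero_mem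

/-- A local class function of `G` sees only the induced central character. -/
theorem sum_mul_congr_induced (hM : IsPModular p M) (ξ : IrrCharacter H) (χ : IrrCharacter G)
    (h : ∀ g, MemLocalIdeal M
      (inducedCentralChar H (ξ : H → ℂ) g - centralChar (χ : G → ℂ) g))
    {f : G → ℂ} (hf : IsClassFunction G f) (hR : ∀ x, MemLocalRing M (f x)) :
    MemLocalIdeal M ((∑ x : H, f x * (ξ : H → ℂ) x) / (ξ : H → ℂ) 1 -
      (∑ x : G, f x * (χ : G → ℂ) x) / (χ : G → ℂ) 1) := by
  classical
  have key := congr_of_classes hM (X := H ⊕ G)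
    (Sum.elim (fun x => ConjClasses.mk (x : G)) ConjClasses.mk)
    (fun c => f c.out) (fun c => hR _)
    (Sum.elim (fun x => (ξ : H → ℂ) x / (ξ : H → ℂ) 1)
      (fun x => -((χ : G → ℂ) x / (χ : G → ℂ) 1))) fun c => by
    have hc := h c.out
    rw [inducedCentralChar_eq_sum, ← CfsgLib.Blocks.omega_classSum (irr_isClassFunction χ) c.out,
      CfsgLib.Blocks.omega_apply] at hc
    simp only [CfsgLib.Blocks.coeff_classSum] at hc
    have hmk : ∀ x : G, ConjClasses.mk x = c ↔ IsConj c.out x := fun x => by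
      rw [← Quotient.out_eq c]
      exact ConjClasses.mk_eq_mk_iff_isConj.trans isConj_comm |>.trans (by rw [Quotient.out_eq c])
    rw [Finset.sum_filter, Fintype.sum_sum_type]
    convert hc using 1
    simp only [Sum.elim_inl, Sum.elim_inr, hmk, Finset.sum_div, ite_mul, one_mul, zero_mul,
      ite_div, zero_div, sub_eq_add_neg, ← Finset.sum_neg_distrib]
    congr 1
    exact Finset.sum_congr rfl fun x _ => by split_ifs <;> simp
  have hout : ∀ x : G, f (ConjClasses.mk x).out = f x := fun x =>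
    classFunction_eq_of_isConj hf (ConjClasses.mk_eq_mk_iff_isConj.1 (Quotient.out_eq _))
  simpa [Fintype.sum_sum_type, hout, Finset.sum_div, mul_div_assoc, ← sub_eq_add_neg] using key

end Sub

section Normal

variable {G : Type*} [Group G] [Fintype G] (N : Subgroup G) [hN : N.Normal] [Fintype N]

theorem conjIrr_comp (a c : G) (θ : IrrCharacter N) :
    conjIrr N a (conjIrr N c θ) = conjIrr N (c * a) θ := by
  apply Subtype.ext
  funext n
  simp only [conjIrr_apply]
  exact congrArg _ (Subtype.ext (by simp [mul_assoc]))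

theorem conjIrr_one (θ : IrrCharacter N) : conjIrr N 1 θ = θ := by
  apply Subtype.ext
  funext n
  rw [conjIrr_apply]
  simp

theorem sameBlock_conjIrr {θ ψ : IrrCharacter N} (h : SameBlock M (θ : N → ℂ) (ψ : N → ℂ))
    (g : G) : SameBlock M (conjIrr N g θ : N → ℂ) (conjIrr N g ψ : N → ℂ) :=
  sameBlock_twistIrr _ h

/-- The union of the conjugates of a block of the normal subgroup. -/
def orbitSet (b : Set (IrrCharacter N)) : Set (IrrCharacter N) :=
  {ψ | ∃ g : G, ∃ θ ∈ b, conjIrr N g θ = ψ}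

theorem subset_orbitSet (b : Set (IrrCharacter N)) : b ⊆ orbitSet N b :=
  fun θ hθ => ⟨1, θ, hθ, conjIrr_one N θ⟩

theorem conjIrr_mem_orbitSet_iff {b : Set (IrrCharacter N)} (a : G) (ψ : IrrCharacter N) :
    conjIrr N a ψ ∈ orbitSet N b ↔ ψ ∈ orbitSet N b := by
  constructor
  · rintro ⟨g, θ, hθ, h⟩
    refine ⟨g * a⁻¹, θ, hθ, ?_⟩
    rw [← conjIrr_comp, h, conjIrr_comp]
    simp [conjIrr_one]
  · rintro ⟨g, θ, hθ, rfl⟩
    exact ⟨g * a, θ, hθ, (conjIrr_comp N a g θ).symm⟩

theorem orbitSet_closed (hM : IsPModular p M) {b : Set (IrrCharacter N)} (hb : IsPBlock M b) :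
    ∀ χ ∈ orbitSet N b, blockOf M (χ : N → ℂ) ⊆ orbitSet N b := by
  rintro _ ⟨g, θ, hθ, rfl⟩ ψ hψ
  refine ⟨g, conjIrr N g⁻¹ ψ, ?_, by rw [conjIrr_comp]; simp [conjIrr_one]⟩
  rw [CfsgLib.Blocks.IsPBlock.mem_iff hM hb hθ]
  have := sameBlock_conjIrr N (M := M) hψ g⁻¹
  rwa [conjIrr_comp, mul_inv_cancel, conjIrr_one] at this

theorem blockCoeff_orbitSet_conj (b : Set (IrrCharacter N)) (a : G) (n : N) :
    blockCoeff (orbitSet N b) ⟨a * n * a⁻¹, hN.conj_mem n n.2 a⟩ =
      blockCoeff (orbitSet N b) n := by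
  classical
  rw [CfsgLib.Blocks.blockCoeff_eq_sum, CfsgLib.Blocks.blockCoeff_eq_sum]
  congr 1
  refine Finset.sum_bij (fun ψ _ => conjIrr N a ψ) (fun ψ hψ => ?_) (fun ψ _ ψ' _ h => ?_)
    (fun ψ hψ => ⟨conjIrr N a⁻¹ ψ, ?_, ?_⟩) (fun ψ _ => ?_)
  · simp only [Finset.mem_filter, Finset.mem_univ, true_and] at hψ ⊢
    rwa [conjIrr_mem_orbitSet_iff]
  · have := congrArg (conjIrr N a⁻¹) h
    simpa [conjIrr_comp, conjIrr_one] using this
  · simp only [Finset.mem_filter, Finset.mem_univ, true_and] at hψ ⊢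
    rwa [conjIrr_mem_orbitSet_iff]
  · simp [conjIrr_comp, conjIrr_one]
  · rw [conjIrr_apply, conjIrr_apply]
    congr 2
    exact congrArg _ (Subtype.ext (by simp))

/-- Congruent class totals inside `N` force conjugate blocks. -/
theorem mem_orbitSet_of_congr (hM : IsPModular p M) {b : Set (IrrCharacter N)}
    (hb : IsPBlock M b) {θ ψ : IrrCharacter N} (hθ : θ ∈ b)
    (h : ∀ n : N, MemLocalIdeal M (inducedCentralChar N (ψ : N → ℂ) (n : G) -
      inducedCentralChar N (θ : N → ℂ) (n : G))) : ψ ∈ orbitSet N b := by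
  classical
  by_contra hψ
  set O := orbitSet N b
  let f : G → ℂ := fun x => if hx : x ∈ N then blockCoeff O ⟨x, hx⟩ else 0
  have hf : IsClassFunction G f := fun x a => by
    by_cases hx : x ∈ N
    · simp only [f, dif_pos hx, dif_pos (hN.conj_mem x hx a)]
      exact blockCoeff_orbitSet_conj N b a ⟨x, hx⟩
    · have : a * x * a⁻¹ ∉ N := fun hc => hx (by simpa [mul_assoc] using hN.conj_mem _ hc a⁻¹)
      simp only [f, dif_neg hx, dif_neg this]
  have hR : ∀ x, MemLocalRing M (f x) := fun x => by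
    simp only [f]
    split_ifs
    · exact memLocalRing_blockCoeff_union hM (orbitSet_closed N hM hb) _
    · exact (lRing hM).zero_mem
  have hfn : ∀ n : N, f n = blockCoeff O n := fun n => by simp [f]
  have hout : ∀ n : N, f (ConjClasses.mk (n : G)).out = f n := fun n =>
    classFunction_eq_of_isConj hf (ConjClasses.mk_eq_mk_iff_isConj.1 (Quotient.out_eq _))
  have key := congr_of_classes hM (G := G) (X := N) (fun n => ConjClasses.mk (n : G))
    (fun c => f c.out) (fun c => hR _)
    (fun n => (θ : N → ℂ) n / (θ : N → ℂ) 1 - (ψ : N → ℂ) n / (ψ : N → ℂ) 1) fun c => by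
    by_cases hc : ∃ n : N, ConjClasses.mk (n : G) = c
    · obtain ⟨m, rfl⟩ := hc
      have := CfsgLib.Blocks.MemLocalIdeal.neg hM (h m)
      rw [inducedCentralChar_eq_sum, inducedCentralChar_eq_sum, neg_sub] at this
      convert this using 1
      simp only [Finset.sum_filter, ConjClasses.mk_eq_mk_iff_isConj, isConj_comm (g := (_ : G))]
      simp only [Finset.sum_div, ← Finset.sum_sub_distrib]
      refine Finset.sum_congr rfl fun x _ => ?_
      by_cases hx : IsConj (m : G) (x : G) <;> rw [isConj_iff] at hx <;> simp [hx]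
    · rw [Finset.filter_false_of_mem (fun n _ hn => hc ⟨n, hn⟩), Finset.sum_empty]
      exact CfsgLib.Blocks.memLocalIdeal_zero hM
  simp only [hout, hfn, mul_sub, Finset.sum_sub_distrib, ← mul_div_assoc, ← Finset.sum_div,
    sum_blockCoeff_mul] at key
  rw [if_pos (show θ ∈ O from subset_orbitSet N b hθ), if_neg hψ, sub_zero] at key
  exact CfsgLib.Blocks.not_memLocalIdeal_one hM key

theorem exists_constituent (χ : IrrCharacter G) :
    ∃ ψ : IrrCharacter N, classInner (fun n : N => (χ : G → ℂ) n) (ψ : N → ℂ) ≠ 0 := by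
  by_contra h
  push Not at h
  have h1 := irr_res_one χ N.subtype
  rw [Finset.sum_eq_zero fun η _ => by
    rw [show ((χ : G → ℂ) ∘ N.subtype) = fun n : N => (χ : G → ℂ) n from rfl, h η, zero_mul]] at h1
  exact irr_one_ne_zero χ h1

/-- Passman's criterion: the congruence on the classes inside `N` gives a covering. -/
theorem covers_of_congr (hM : IsPModular p M) {b : Set (IrrCharacter N)} (hb : IsPBlock M b)
    (χ : IrrCharacter G) {θ : IrrCharacter N} (hθ : θ ∈ b)
    (h : ∀ n : N, MemLocalIdeal M (centralChar (χ : G → ℂ) (n : G) -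
      inducedCentralChar N (θ : N → ℂ) (n : G))) :
    ∃ θ' ∈ b, classInner (fun n : N => (χ : G → ℂ) n) (θ' : N → ℂ) ≠ 0 := by
  obtain ⟨ψ, hψ⟩ := exists_constituent N χ
  have := mem_orbitSet_of_congr N hM hb hθ (ψ := ψ) fun n => by
    rw [← (constituent_iff_centralChar N χ ψ).1 hψ n]
    exact h n
  obtain ⟨g, θ', hθ', rfl⟩ := this
  refine ⟨θ', hθ', ?_⟩
  have he : classInner (fun n : N => (χ : G → ℂ) n) (conjIrr N g θ' : N → ℂ) =
      classInner (fun n : N => (χ : G → ℂ) n) (θ' : N → ℂ) := by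
    rw [← classInner_comp_equiv (MulAut.conjNormal g) (fun n : N => (χ : G → ℂ) n) (θ' : N → ℂ)]
    congr 1
    funext n
    simp only [Function.comp_apply, MulAut.conjNormal_apply]
    exact (irr_isClassFunction χ (n : G) g).symm
  rwa [he] at hψ

/-- Constituents under one block of `G` agree on the classes inside `N`. -/
theorem induced_congr_of_cover (hM : IsPModular p M) {χ χ' : IrrCharacter G}
    (hχ : SameBlock M (χ : G → ℂ) (χ' : G → ℂ)) {θ ψ : IrrCharacter N}
    (hθ : classInner (fun n : N => (χ : G → ℂ) n) (θ : N → ℂ) ≠ 0)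
    (hψ : classInner (fun n : N => (χ' : G → ℂ) n) (ψ : N → ℂ) ≠ 0) (n : N) :
    MemLocalIdeal M (inducedCentralChar N (ψ : N → ℂ) (n : G) -
      inducedCentralChar N (θ : N → ℂ) (n : G)) := by
  rw [← (constituent_iff_centralChar N χ θ).1 hθ n, ← (constituent_iff_centralChar N χ' ψ).1 hψ n]
  exact CfsgLib.Blocks.SameBlock.symm hM hχ n

/-- Passman's criterion, the congruence for all members. -/
theorem congr_of_covers (hM : IsPModular p M) {B : Set (IrrCharacter G)} (hB : IsPBlock M B)
    {b : Set (IrrCharacter N)} (hb : IsPBlock M b) {χ₀ : IrrCharacter G} (hχ₀ : χ₀ ∈ B)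
    {θ₀ : IrrCharacter N} (hθ₀ : θ₀ ∈ b)
    (hcov : classInner (fun n : N => (χ₀ : G → ℂ) n) (θ₀ : N → ℂ) ≠ 0)
    {χ : IrrCharacter G} (hχ : χ ∈ B) {θ : IrrCharacter N} (hθ : θ ∈ b) (n : N) :
    MemLocalIdeal M (centralChar (χ : G → ℂ) (n : G) -
      inducedCentralChar N (θ : N → ℂ) (n : G)) := by
  have h1 := ((CfsgLib.Blocks.IsPBlock.mem_iff hM hB hχ χ₀).1 hχ₀) (n : G)
  rw [(constituent_iff_centralChar N χ₀ θ₀).1 hcov n] at h1
  have h2 := inducedCentralChar_congr N hM ((CfsgLib.Blocks.IsPBlock.mem_iff hM hb hθ₀ θ).1 hθ)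
    (n : G)
  simpa using CfsgLib.Blocks.MemLocalIdeal.add hM h1 h2

end Normal

end CfsgLib.BlockCover
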