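import Cfsg.Agent.Lib.Blocks.LocalRing
import Cfsg.Agent.Lib.Characters.Values

/-!
# Character values at elements with a `p`-part
-/

set_option autoImplicit false
set_option linter.style.haveILetI false

namespace CfsgLib.BlockCover

open Cfsg
open CfsgLib.Characters

variable {p : ℕ} {M : Ideal AlgInt} {G : Type*} [Group G] [Finite G]

/-- `χ (x * y) ≡ χ y` for a `p`-element `x` commuting with `y`. -/
theorem irr_mul_pElement_congr (hM : IsPModular p M) (χ : IrrCharacter G) {x y : G}
    (hx : ∃ n : ℕ, orderOf x = p ^ n) (hc : Commute x y) :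
    MemLocalIdeal M ((χ : G → ℂ) (x * y) - (χ : G → ℂ) y) := by
  obtain ⟨_, d, ρ, -, rfl⟩ := χ
  haveI := hM.2.1
  haveI := Fact.mk hM.1
  haveI : CharP (AlgInt ⧸ M) p := Blocks.charP_residue hM
  haveI : IsDomain (AlgInt ⧸ M) := Ideal.Quotient.isDomain M
  obtain ⟨n, hn⟩ := hx
  have key : ∀ g : G, ∃ a b : AlgInt, (a : ℂ) = ρ.character g ∧
      (b : ℂ) = ρ.character (g ^ p ^ n) ∧
      Ideal.Quotient.mk M a ^ p ^ n = Ideal.Quotient.mk M b := by
    intro g
    obtain ⟨v, ω, h1, h2⟩ := exists_eigenbasis ρ g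
    have hint : ∀ i, IsIntegral ℤ (ω i) := fun i =>
      IsIntegral.of_pow (orderOf_pos g) (by rw [h1 i]; exact isIntegral_one)
    let w : Fin (Module.finrank ℂ (Fin d → ℂ)) → AlgInt := fun i => ⟨ω i, hint i⟩
    refine ⟨∑ i, w i, ∑ i, w i ^ p ^ n, ?_, ?_, ?_⟩
    · rw [character_eq_sum_of_eigenbasis ρ g v ω h2]
      simp [w]
    · rw [character_eq_sum_of_eigenbasis ρ (g ^ p ^ n) v (fun i => ω i ^ p ^ n) fun i => ?_]
      · simp [w]
      · rw [map_pow]
        generalize p ^ n = k
        induction k with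
        | zero => simp
        | succ k ih =>
          rw [pow_succ', Module.End.mul_apply, ih, map_smul, h2, smul_smul, pow_succ]
    · rw [map_sum, map_sum, sum_pow_char_pow (p := p)]
      simp only [map_pow]
  obtain ⟨a, b, ha, hb, hab⟩ := key (x * y)
  obtain ⟨a', b', ha', hb', hab'⟩ := key y
  have hpow : (x * y) ^ p ^ n = y ^ p ^ n := by
    rw [hc.mul_pow, ← hn, pow_orderOf_eq_one, one_mul]
  have hbb : b = b' := Subtype.ext (by rw [hb, hb', hpow])
  have h0 : (Ideal.Quotient.mk M a - Ideal.Quotient.mk M a') ^ p ^ n = 0 := by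
    rw [sub_pow_char_pow (p := p), hab, hab', hbb, sub_self]
  have h1 := eq_zero_of_pow_eq_zero h0
  rw [← map_sub, Ideal.Quotient.eq_zero_iff_mem] at h1
  show MemLocalIdeal M (ρ.character (x * y) - ρ.character y)
  rw [← ha, ← ha', ← AddSubgroupClass.coe_sub]
  exact Blocks.memLocalIdeal_coe hM h1

end CfsgLib.BlockCover
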