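import Cfsg.Agent.Lib.BlockCover.FongReynolds

/-! # The Fong–Reynolds correspondence on blocks -/

set_option autoImplicit false
open Cfsg MonoidAlgebra
open CfsgLib.Characters CfsgLib.CharCorr

namespace CfsgLib.BlockCover

variable {p : ℕ} {M : Ideal AlgInt} {G : Type*} [Group G] [Fintype G]
  (N : Subgroup G) [hN : N.Normal] [Fintype N]
  (b : Set (IrrCharacter N)) (T : Subgroup G) [Fintype T] (hNT : N ≤ T)
  (hT : ∀ g : G, g ∈ T ↔ ∀ θ ∈ b, conjIrr N g θ ∈ b)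

include hT in
/-- Lying over the block is a property of the block of the stabiliser. -/
theorem over_of_sameBlock (hM : IsPModular p M) (hb : IsPBlock M b) {ψ φ : IrrCharacter T}
    (hψ : ∃ θ ∈ b, classInner (fun n : N => (ψ : T → ℂ) ⟨(n : G), hNT n.2⟩) (θ : N → ℂ) ≠ 0)
    (h : SameBlock M (ψ : T → ℂ) (φ : T → ℂ)) :
    ∃ θ ∈ b, classInner (fun n : N => (φ : T → ℂ) ⟨(n : G), hNT n.2⟩) (θ : N → ℂ) ≠ 0 := by
  by_contra! hall
  have h1 := omega_stabIdem N b T hNT φ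
  obtain ⟨s, hs, hs0⟩ := exists_bDeg_nat N b (isCharacter_resN N T hNT φ)
  rw [hs, hs0.2 hall, Nat.cast_zero, mul_eq_zero] at h1
  have h2 := h1.resolve_right (irr_one_ne_zero φ)
  have h3 := Blocks.omega_congr_of_sameBlock hM h (stabIdem_mem_center N b T hT) fun x => by
    rw [stabIdem, BrauerPairs.coeff_restrA]
    by_cases hx : (x : G) ∈ N
    · rw [subIdem_coe N b ⟨_, hx⟩]; exact Blocks.memLocalRing_blockCoeff hM hb _
    · rw [subIdem_notMem N b hx]; exact (Blocks.lRing hM).zero_mem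
  rw [omega_stabIdem_eq_one N b T hT hNT hψ, h2, sub_zero] at h3
  exact Blocks.not_memLocalIdeal_one hM h3

include hT in
/-- Fong–Reynolds, the induced block. -/
theorem fongReynolds_induced (hM : IsPModular p M) (hb : IsPBlock M b)
    {B' : Set (IrrCharacter T)} (hB' : IsPBlock M B') {ψ₀ : IrrCharacter T} (hψ₀ : ψ₀ ∈ B')
    (hcov : ∃ θ ∈ b, classInner (fun n : N => (ψ₀ : T → ℂ) ⟨(n : G), hNT n.2⟩) (θ : N → ℂ) ≠ 0) :
    ∃ B : Set (IrrCharacter G), IsInducedBlock M T B' B ∧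
      (∃ χ ∈ B, ∃ θ ∈ b, classInner (fun n : N => (χ : G → ℂ) n) (θ : N → ℂ) ≠ 0) ∧
      (∀ ψ ∈ B', IsIrrCharacter G (indFun T (ψ : T → ℂ))) ∧
      ∀ χ : IrrCharacter G, χ ∈ B ↔ ∃ ψ ∈ B', (χ : G → ℂ) = indFun T (ψ : T → ℂ) := by
  classical
  have hover : ∀ ψ ∈ B',
      ∃ θ ∈ b, classInner (fun n : N => (ψ : T → ℂ) ⟨(n : G), hNT n.2⟩) (θ : N → ℂ) ≠ 0 :=
    fun ψ hψ => over_of_sameBlock N b T hNT hT hM hb hcov
      ((Blocks.IsPBlock.mem_iff hM hB' hψ₀ ψ).1 hψ)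
  obtain ⟨χ₀, hχ₀, θ₀, hθ₀, hθ₀ne⟩ := exists_indFun_eq N b T hT hNT hM hb hcov
  have hirr : IsIrrCharacter G (indFun T (ψ₀ : T → ℂ)) := hχ₀ ▸ χ₀.2
  have hind := Blocks.isInducedBlock_indFun hM T ψ₀ hirr
  rw [← Blocks.IsPBlock.eq_blockOf hM hB' hψ₀, ← hχ₀] at hind
  refine ⟨_, hind, ⟨χ₀, Blocks.mem_blockOf_self hM χ₀, θ₀, hθ₀, hθ₀ne⟩, fun ψ hψ => ?_, fun χ => ?_⟩
  · obtain ⟨η, hη, -⟩ := exists_indFun_eq N b T hT hNT hM hb (hover ψ hψ)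
    exact hη ▸ η.2
  constructor
  · intro hχ
    have hχcov := covers_of_congr N hM hb χ hθ₀
      (congr_of_covers N hM hind.2.1 hb (Blocks.mem_blockOf_self hM χ₀) hθ₀ hθ₀ne hχ hθ₀)
    obtain ⟨φ, hφ, hφχ⟩ := exists_of_covers N b T hT hNT hM hb hχcov
    refine ⟨φ, ?_, hφχ⟩
    exact (Blocks.IsPBlock.mem_iff hM hB' hψ₀ φ).2
      (sameBlock_of_indFun N b T hT hNT hM hb hcov hφ hχ₀ hφχ
        ((Blocks.IsPBlock.mem_iff hM hind.2.1 (Blocks.mem_blockOf_self hM χ₀) χ).1 hχ))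
  · rintro ⟨ψ, hψ, hχ⟩
    refine (Blocks.IsPBlock.mem_iff hM hind.2.1 (Blocks.mem_blockOf_self hM χ₀) χ).2 fun g => ?_
    have h1 := inducedCentralChar_congr T hM ((Blocks.IsPBlock.mem_iff hM hB' hψ₀ ψ).1 hψ) g
    rwa [Blocks.inducedCentralChar_eq_centralChar_indFun,
      Blocks.inducedCentralChar_eq_centralChar_indFun, ← hχ₀, ← hχ] at h1

include hT in
/-- Fong–Reynolds, injectivity. -/
theorem fongReynolds_injective (hM : IsPModular p M) (hb : IsPBlock M b)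
    {B₁ B₂ : Set (IrrCharacter T)} (h₁ : IsPBlock M B₁) (h₂ : IsPBlock M B₂) {ψ₁ ψ₂ : IrrCharacter T}
    (hψ₁ : ψ₁ ∈ B₁) (hψ₂ : ψ₂ ∈ B₂)
    (hc₁ : ∃ θ ∈ b, classInner (fun n : N => (ψ₁ : T → ℂ) ⟨(n : G), hNT n.2⟩) (θ : N → ℂ) ≠ 0)
    (hc₂ : ∃ θ ∈ b, classInner (fun n : N => (ψ₂ : T → ℂ) ⟨(n : G), hNT n.2⟩) (θ : N → ℂ) ≠ 0)
    {B : Set (IrrCharacter G)} (hi₁ : IsInducedBlock M T B₁ B) (hi₂ : IsInducedBlock M T B₂ B) :
    B₁ = B₂ := by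
  obtain ⟨χ₁, hχ₁, -⟩ := exists_indFun_eq N b T hT hNT hM hb hc₁
  obtain ⟨χ₂, hχ₂, -⟩ := exists_indFun_eq N b T hT hNT hM hb hc₂
  obtain ⟨χ, hχ⟩ := Blocks.IsPBlock.nonempty hM hi₁.2.1
  have h : SameBlock M (χ₁ : G → ℂ) (χ₂ : G → ℂ) := fun g => by
    have h1 := hi₁.2.2 ψ₁ hψ₁ χ hχ g
    have h2 := hi₂.2.2 ψ₂ hψ₂ χ hχ g
    rw [Blocks.inducedCentralChar_eq_centralChar_indFun, ← hχ₁] at h1
    rw [Blocks.inducedCentralChar_eq_centralChar_indFun, ← hχ₂] at h2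
    simpa using Blocks.MemLocalIdeal.sub hM h1 h2
  have h3 := sameBlock_of_indFun N b T hT hNT hM hb hc₁ hc₂ hχ₁ hχ₂ h
  rw [Blocks.IsPBlock.eq_blockOf hM h₁ hψ₁, Blocks.IsPBlock.eq_blockOf hM h₂ hψ₂,
    Blocks.blockOf_eq_of_sameBlock hM h3]

include hT in
/-- Fong–Reynolds, defect groups and heights. -/
theorem fongReynolds_defect [hp : Fact p.Prime] (hM : IsPModular p M) (hb : IsPBlock M b)
    {B' : Set (IrrCharacter T)} (hB' : IsPBlock M B') {ψ₀ : IrrCharacter T} (hψ₀ : ψ₀ ∈ B')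
    (hcov : ∃ θ ∈ b, classInner (fun n : N => (ψ₀ : T → ℂ) ⟨(n : G), hNT n.2⟩) (θ : N → ℂ) ≠ 0)
    {B : Set (IrrCharacter G)} (hind : IsInducedBlock M T B' B) :
    (∀ D : Subgroup T, IsDefectGroup p M B' D → IsDefectGroup p M B (D.map T.subtype)) ∧
      ∀ ψ ∈ B', ∃ χ ∈ B, (χ : G → ℂ) = indFun T (ψ : T → ℂ) ∧
        blockHeight p B (χ : G → ℂ) = blockHeight p B' (ψ : T → ℂ) := by
  classical
  obtain ⟨B₂, hind₂, -, hirr, hmem⟩ := fongReynolds_induced N b T hNT hT hM hb hB' hψ₀ hcov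
  have hB : B = B₂ := by
    obtain ⟨χ, hχ⟩ := Blocks.IsPBlock.nonempty hM hind.2.1
    obtain ⟨η, hη⟩ := Blocks.IsPBlock.nonempty hM hind₂.2.1
    rw [Blocks.IsPBlock.eq_blockOf hM hind.2.1 hχ, Blocks.IsPBlock.eq_blockOf hM hind₂.2.1 hη]
    refine Blocks.blockOf_eq_of_sameBlock hM fun g => ?_
    have h1 := hind.2.2 ψ₀ hψ₀ χ hχ g
    have h2 := hind₂.2.2 ψ₀ hψ₀ η hη g
    simpa using Blocks.MemLocalIdeal.sub hM h2 h1
  subst hB
  have hdeg : ∀ χ : IrrCharacter G, ∀ ψ : IrrCharacter T, (χ : G → ℂ) = indFun T (ψ : T → ℂ) →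
      (charDegree (χ : G → ℂ)).factorization p =
        T.index.factorization p + (charDegree (ψ : T → ℂ)).factorization p := fun χ ψ h => by
    rw [h, charDegree_indFun, Nat.factorization_mul Subgroup.index_ne_zero_of_finite
      (charDegree_ne_zero ψ), Finsupp.add_apply]
  obtain ⟨η, hη, hmin⟩ := exists_height_zero hM hB'
  obtain ⟨χη, hχηB, hχη⟩ : ∃ χ ∈ B, (χ : G → ℂ) = indFun T (η : T → ℂ) :=
    ⟨⟨_, hirr η hη⟩, (hmem _).2 ⟨η, hη, rfl⟩, rfl⟩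
  have hmin' : ∀ χ ∈ B, (charDegree (χη : G → ℂ)).factorization p ≤
      (charDegree (χ : G → ℂ)).factorization p := fun χ hχ => by
    obtain ⟨ψ, hψ, h⟩ := (hmem χ).1 hχ
    rw [hdeg χη η hχη, hdeg χ ψ h]
    exact Nat.add_le_add_left (hmin ψ hψ) _
  have hd : blockDefect p B = blockDefect p B' := by
    rw [blockDefect_eq hχηB hmin', blockDefect_eq hη hmin, hdeg χη η hχη,
      factorization_card_eq (p := p) T]
    omega
  refine ⟨fun D hD => ?_, fun ψ hψ => ?_⟩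
  · obtain ⟨E, hE, hle⟩ := Blocks.exists_defectGroup_map_le hM hind hD
    have heq := Subgroup.eq_of_le_of_card_ge hle (by
      rw [natCard_map_subtype, natCard_defect hM hB' hD, natCard_defect hM hind.2.1 hE, hd])
    exact heq.symm ▸ hE
  · refine ⟨⟨_, hirr ψ hψ⟩, (hmem _).2 ⟨ψ, hψ, rfl⟩, rfl, ?_⟩
    rw [blockHeight, blockHeight, sInf_degree_eq hχηB hmin', sInf_degree_eq hη hmin,
      hdeg χη η hχη, hdeg ⟨_, hirr ψ hψ⟩ ψ rfl]
    omega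

end CfsgLib.BlockCover
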