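import Cfsg.Agent.Lib.Blocks.Reduced
import Cfsg.Agent.Lib.Blocks.PairsAlgebra

/-!
# Central characters and a normal `p`-subgroup
-/

set_option autoImplicit false
set_option linter.style.haveILetI false
set_option linter.unusedSectionVars false

namespace CfsgLib.BlockCover

open Cfsg MonoidAlgebra

variable {p : ℕ} {M : Ideal AlgInt} {G : Type*} [Group G] [Fintype G]

/-- Classes outside the centraliser of a normal `p`-subgroup have central character in `M`. -/
theorem centralChar_mem_ideal_of_not_centralizes (hM : IsPModular p M) (Q : Subgroup G) [Q.Normal]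
    (hQ : IsPGroup p Q) (χ : IrrCharacter G) {g : G}
    (hg : g ∉ Subgroup.centralizer (Q : Set G)) :
    MemLocalIdeal M (centralChar (χ : G → ℂ) g) := by
  classical
  haveI := hM.2.1
  haveI := Fact.mk hM.1
  letI : Field (AlgInt ⧸ M) := Ideal.Quotient.field M
  have hpk : (p : AlgInt ⧸ M) = 0 := by
    rw [← map_natCast (Ideal.Quotient.mk M), Ideal.Quotient.eq_zero_iff_mem]
    exact hM.2.2
  have hnil : IsNilpotent (Blocks.classSum (AlgInt ⧸ M) g) := by
    refine BlockAlg.isNilpotent_of_br_eq_zero hpk hQ (fun y hy => absurd ?_ hy) (fun u _ y => ?_) ?_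
    · rw [Subgroup.normalizer_eq_top]
      exact Subgroup.mem_top y
    · simp only [Blocks.coeff_classSum, Blocks.isConj_conj_iff]
      congr
    · ext y
      rw [BlockAlg.coeff_br, coeff_zero, Finsupp.zero_apply]
      split_ifs with hy
      · rw [Blocks.coeff_classSum, if_neg]
        intro hc
        obtain ⟨t, rfl⟩ := isConj_iff.1 hc
        apply hg
        intro q hq
        have h1 := hy (t * q * t⁻¹) ((inferInstance : Q.Normal).conj_mem q hq t)
        have h2 := congrArg (fun w => t⁻¹ * w * t) h1
        simpa [mul_assoc] using h2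
      · rfl
  obtain ⟨n, hn⟩ := hnil
  have hz : IsNilpotent (⟨Blocks.classSum (AlgInt ⧸ M) g, Blocks.classSum_mem_center g⟩ :
      Subalgebra.center (AlgInt ⧸ M) (MonoidAlgebra (AlgInt ⧸ M) G)) := ⟨n, Subtype.ext hn⟩
  have h0 := (hz.map (Blocks.lamB hM χ)).eq_zero
  rw [Blocks.lamB_classSum, Blocks.lResD_eq_zero_iff hM (Blocks.centralChar_mem_lRing hM χ g)] at h0
  exact h0

end CfsgLib.BlockCover
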