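import Cfsg.Agent.Lib.BlockCover.DefectGroup
import Cfsg.Agent.Lib.BlockCover.NormalP
import Cfsg.Agent.Lib.Chars17.IrrBasic

/-!
# Blocks of a quotient group
-/

set_option autoImplicit false
set_option linter.style.haveILetI false
set_option linter.unusedSectionVars false

namespace CfsgLib.BlockCover

open Cfsg
open CfsgLib.Characters CfsgLib.CharCorr
open scoped ComplexConjugate

variable {p : ℕ} {M : Ideal AlgInt} {G : Type*} [Group G] [Fintype G]

variable (N : Subgroup G) [hN : N.Normal]

theorem centralizer_le_comap_quotient (g : G) :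
    Subgroup.centralizer ({g} : Set G) ≤
      (Subgroup.centralizer ({(g : G ⧸ N)} : Set (G ⧸ N))).comap (QuotientGroup.mk' N) := by
  intro y hy
  rw [Subgroup.mem_comap, Subgroup.mem_centralizer_singleton_iff, QuotientGroup.mk'_apply,
    ← QuotientGroup.mk_mul, ← QuotientGroup.mk_mul, Subgroup.mem_centralizer_singleton_iff.1 hy]

/-- The central character of an inflated character. -/
theorem centralChar_infl (η : IrrCharacter (G ⧸ N)) (g : G) :
    centralChar (Chars17.infl N η : G → ℂ) g =
      (((Subgroup.centralizer ({g} : Set G)).relIndex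
        ((Subgroup.centralizer ({(g : G ⧸ N)} : Set (G ⧸ N))).comap (QuotientGroup.mk' N)) : ℕ) : ℂ) *
        centralChar (η : G ⧸ N → ℂ) (g : G ⧸ N) := by
  have h := Subgroup.relIndex_mul_index (centralizer_le_comap_quotient N g)
  rw [Subgroup.index_comap_of_surjective _ (QuotientGroup.mk'_surjective N)] at h
  rw [centralChar, centralChar, ← h, Chars17.infl_apply, Chars17.infl_apply, QuotientGroup.mk_one,
    Nat.cast_mul]
  ring

/-- Inflation respects blocks. -/
theorem sameBlock_infl (hM : IsPModular p M) {η η' : IrrCharacter (G ⧸ N)}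
    (h : SameBlock M (η : G ⧸ N → ℂ) (η' : G ⧸ N → ℂ)) :
    SameBlock M (Chars17.infl N η : G → ℂ) (Chars17.infl N η' : G → ℂ) := fun g => by
  rw [centralChar_infl, centralChar_infl, ← mul_sub]
  exact Blocks.MemLocalIdeal.mul_left hM (natCast_mem (Blocks.lRing hM) _) (h _)

variable [Fact p.Prime]

/-- A defect group of a block of the quotient lies in the image of one of the block above it. -/
theorem defect_le_map (hM : IsPModular p M) {Bbar : Set (IrrCharacter (G ⧸ N))}
    (hBbar : IsPBlock M Bbar) {B : Set (IrrCharacter G)} (hB : IsPBlock M B)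
    (hsub : ∀ η ∈ Bbar, Chars17.infl N η ∈ B) {Dbar : Subgroup (G ⧸ N)}
    (hDbar : IsDefectGroup p M Bbar Dbar) :
    ∃ P : Subgroup G, IsDefectGroup p M B P ∧ Dbar ≤ P.map (QuotientGroup.mk' N) := by
  classical
  letI : Fintype (G ⧸ N) := Fintype.ofFinite _
  obtain ⟨η, hη⟩ := Blocks.IsPBlock.nonempty hM hBbar
  obtain ⟨D, hD⟩ : ∃ D, IsDefectGroup p M B D := by
    haveI := hM.2.1
    exact BrauerPairs.exists_defectGroup hM hB
  obtain ⟨x, -, hx, S, hS⟩ := exists_regular_sylow hM hB hD
  set Cb := Subgroup.centralizer ({(x : G ⧸ N)} : Set (G ⧸ N)) with hCb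
  set C' := Cb.comap (QuotientGroup.mk' N) with hC'
  have hu := hx _ (hsub η hη)
  rw [centralChar_infl] at hu
  have hidx : ¬ p ∣ (Subgroup.centralizer ({x} : Set G)).relIndex C' := fun h => hu (Blocks.MemLocalIdeal.mul_right hM
    ((Blocks.memLocalIdeal_natCast_iff hM _).2 h) (Blocks.centralChar_mem_lRing hM η _))
  have hω : ¬ MemLocalIdeal M (centralChar (η : G ⧸ N → ℂ) (x : G ⧸ N)) := fun h =>
    hu (Blocks.MemLocalIdeal.mul_left hM (natCast_mem (Blocks.lRing hM) _) h)
  have hDC : D ≤ (Subgroup.centralizer ({x} : Set G)) := hS ▸ Subgroup.map_subtype_le _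
  have hCC' : (Subgroup.centralizer ({x} : Set G)) ≤ C' := centralizer_le_comap_quotient N x
  set T := D.map (QuotientGroup.mk' N) with hT
  have hTC : T ≤ Cb := Subgroup.map_le_iff_le_comap.2 (hDC.trans hCC')
  have hnd : ¬ p ∣ (T.subgroupOf Cb).index := by
    have h1 : (T.subgroupOf Cb).index ∣ D.relIndex C' := by
      rw [← Subgroup.relIndex]
      have : T.relIndex Cb = (D.map (QuotientGroup.mk' N)).relIndex (C'.map (QuotientGroup.mk' N)) := by
        rw [hC', Subgroup.map_comap_eq_self_of_surjective (QuotientGroup.mk'_surjective N)]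
      rw [this, Subgroup.relIndex_map_map, QuotientGroup.ker_mk']
      have hN' : N ≤ C' := fun n hn => by
        rw [hC', Subgroup.mem_comap, QuotientGroup.mk'_apply, (QuotientGroup.eq_one_iff n).2 hn]
        exact Subgroup.one_mem _
      rw [sup_eq_left.2 hN']
      exact Subgroup.relIndex_dvd_of_le_left _ le_sup_left
    have h2 : D.relIndex C' = D.relIndex (Subgroup.centralizer ({x} : Set G)) * (Subgroup.centralizer ({x} : Set G)).relIndex C' :=
      (Subgroup.relIndex_mul_relIndex D (Subgroup.centralizer ({x} : Set G)) C' hDC hCC').symm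
    have h3 : ¬ p ∣ D.relIndex (Subgroup.centralizer ({x} : Set G)) := by
      rw [← hS, Subgroup.relIndex, Subgroup.subgroupOf,
        Subgroup.comap_map_eq_self_of_injective (Subgroup.centralizer ({x} : Set G)).subtype_injective]
      exact S.not_dvd_index
    exact fun h => (hM.1.dvd_mul.1 (h2 ▸ h.trans h1)).elim h3 hidx
  have hTp : IsPGroup p (T.subgroupOf Cb) :=
    ((isPGroup_defect hM hD).map _).comap_of_injective _ Cb.subtype_injective
  obtain ⟨t, ht⟩ := defect_le_sylow hM hBbar hDbar hη hω (hTp.toSylow hnd)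
  rw [IsPGroup.toSylow_coe, Subgroup.map_subgroupOf_eq_of_le hTC] at ht
  obtain ⟨s, rfl⟩ := QuotientGroup.mk'_surjective N t
  refine ⟨D.map (MulAut.conj s).toMonoidHom, isDefectGroup_conj hM hB hD s, ht.trans (le_of_eq ?_)⟩
  rw [hT, Subgroup.map_map, Subgroup.map_map]
  congr 1

open scoped Classical in
/-- The sum over a coset of `N` of an irreducible character not trivial on `N` vanishes. -/
theorem sum_coset_eq [Fintype N] (χ : IrrCharacter G) (x : G) :
    ∑ n : N, (χ : G → ℂ) ((n : G) * x) =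
      if N ≤ Chars17.irrKer χ then (Nat.card N : ℂ) * (χ : G → ℂ) x else 0 := by
  classical
  let φ : G → ℂ := fun y => if y ∈ N then 1 else 0
  have hφ : IsClassFunction G φ := fun y a => by
    have : a * y * a⁻¹ ∈ N ↔ y ∈ N := ⟨fun h => by
      simpa [mul_assoc] using hN.conj_mem _ h a⁻¹, fun h => hN.conj_mem _ h a⟩
    simp only [φ, this]
  have hsum : ∀ F : G → ℂ, ∑ y : G, φ y * F y = ∑ n : N, F n := by
    intro F
    rw [← Finset.sum_subtype (Finset.univ.filter (· ∈ N)) (fun y => by simp) F, Finset.sum_filter]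
    exact Finset.sum_congr rfl fun y _ => by simp [φ, ite_mul]
  have h := sum_classFn_mul_irr χ hφ x
  rw [hsum (fun y => (χ : G → ℂ) (y * x)), hsum] at h
  rw [h]
  split_ifs with hk
  · rw [Finset.sum_congr rfl (fun n _ => Chars17.mem_irrKer.1 (hk n.2)), Finset.sum_const,
      Finset.card_univ, ← Nat.card_eq_fintype_card, nsmul_eq_mul,
      mul_div_cancel_right₀ _ (irr_one_ne_zero χ)]
  · suffices h0 : ∑ n : N, (χ : G → ℂ) n = 0 by rw [h0, zero_div, zero_mul]
    by_contra hne
    apply hk
    intro n hn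
    have hone : classInner (fun m : N => (χ : G → ℂ) m) (principalIrr N : N → ℂ) ≠ 0 := by
      rw [classInner]
      refine mul_ne_zero (inv_ne_zero (by simp)) ?_
      simpa using hne
    rw [Chars17.mem_irrKer, res_eq_avgConj N χ (principalIrr N) hone ⟨n, hn⟩, avgConj]
    simp [conjIrr_apply]

/-- For a normal `p`-subgroup, some block of the quotient below `B` is nonzero modulo `M` at the
image of each element at which `B` is. -/
theorem exists_quotient_block (hM : IsPModular p M) (hNp : IsPGroup p N)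
    {B : Set (IrrCharacter G)} (hB : IsPBlock M B) {x : G} (hx : ¬ p ∣ orderOf x)
    (hxN : x ∈ Subgroup.centralizer (N : Set G)) (hne : ¬ MemLocalIdeal M (blockCoeff B x)) :
    ∃ Bbar : Set (IrrCharacter (G ⧸ N)), IsPBlock M Bbar ∧
      (∀ η ∈ Bbar, Chars17.infl N η ∈ B) ∧ ¬ MemLocalIdeal M (blockCoeff Bbar (x : G ⧸ N)) := by
  classical
  letI : Fintype N := Fintype.ofFinite _
  letI : Fintype (G ⧸ N) := Fintype.ofFinite _
  letI : Fintype (IrrCharacter G) := Fintype.ofFinite _
  set A : Set (IrrCharacter (G ⧸ N)) := {η | Chars17.infl N η ∈ B} with hA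
  have hclosed : ∀ η ∈ A, blockOf M (η : G ⧸ N → ℂ) ⊆ A := fun η hη η' hη' =>
    (Blocks.IsPBlock.mem_iff hM hB hη _).2 (sameBlock_infl N hM hη')
  -- only the identity of `N` keeps `x * n` regular
  have hz : ∑ n : N, blockCoeff B ((n : G) * x) = blockCoeff B x := by
    rw [Finset.sum_eq_single (1 : N)]
    · simp
    · intro n _ hn
      refine Blocks.blockCoeff_eq_zero_of_singular hM hB ?_
      obtain ⟨j, hj⟩ := IsPGroup.iff_orderOf.1 hNp n
      have hc : Commute (n : G) x := hxN n n.2
      have hco : Nat.Coprime (orderOf (n : G)) (orderOf x) := by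
        rw [Subgroup.orderOf_coe, hj]
        exact Nat.Coprime.pow_left _ (hM.1.coprime_iff_not_dvd.2 hx)
      rw [hc.orderOf_mul_eq_mul_orderOf_of_coprime hco, Subgroup.orderOf_coe, hj]
      refine dvd_mul_of_dvd_left (dvd_pow_self p ?_) _
      rintro rfl
      exact hn (orderOf_eq_one_iff.1 (by rw [hj, pow_zero]))
    · simp
  have hval : ∑ n : N, blockCoeff B ((n : G) * x) = blockCoeff A (x : G ⧸ N) := by
    simp only [Blocks.blockCoeff_eq_sum]
    rw [← Finset.mul_sum, Finset.sum_comm]
    have h1 : ∀ χ : IrrCharacter G, ∑ n : N, (χ : G → ℂ) 1 * conj ((χ : G → ℂ) ((n : G) * x)) =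
        if N ≤ Chars17.irrKer χ then (Nat.card N : ℂ) * ((χ : G → ℂ) 1 * conj ((χ : G → ℂ) x))
        else 0 := by
      intro χ
      rw [← Finset.mul_sum, ← map_sum, sum_coset_eq]
      split_ifs <;> simp [mul_left_comm]
    rw [Finset.sum_congr rfl (fun χ _ => h1 χ), ← Finset.sum_filter, Finset.filter_filter]
    have h2 : Finset.univ.filter (fun χ : IrrCharacter G => χ ∈ B ∧ N ≤ Chars17.irrKer χ) =
        (Finset.univ.filter (fun χ : IrrCharacter G => N ≤ Chars17.irrKer χ)).filter (· ∈ B) := by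
      ext χ; simp [and_comm]
    rw [h2, Finset.sum_filter, Chars17.sum_filter_le_irrKer, ← Finset.sum_filter,
      ← N.card_mul_index]
    simp only [Chars17.infl_apply, QuotientGroup.mk_one, ← Finset.mul_sum]
    rw [Subgroup.index, Nat.cast_mul, ← mul_assoc, mul_inv, mul_comm (Nat.card N : ℂ)⁻¹,
      mul_assoc ((Nat.card (G ⧸ N) : ℂ)⁻¹), inv_mul_cancel₀ (by simp), mul_one]
    rfl
  rw [hz] at hval
  rw [hval] at hne
  by_contra hcon
  push Not at hcon
  apply hne
  rw [Blocks.blockCoeff_eq_sum,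
    ← Finset.sum_fiberwise_of_maps_to (t := (Finset.univ.filter (· ∈ A)).image
      fun η : IrrCharacter (G ⧸ N) => blockOf M (η : G ⧸ N → ℂ))
      (g := fun η : IrrCharacter (G ⧸ N) => blockOf M (η : G ⧸ N → ℂ))
      (fun η hη => Finset.mem_image_of_mem _ hη), Finset.mul_sum]
  refine Blocks.MemLocalIdeal.sum hM _ fun Bb hBb => ?_
  obtain ⟨η, hη, rfl⟩ := Finset.mem_image.1 hBb
  have hηA : η ∈ A := (Finset.mem_filter.1 hη).2
  have hfib : ((Finset.univ.filter (· ∈ A)).filter fun ψ : IrrCharacter (G ⧸ N) =>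
      blockOf M (ψ : G ⧸ N → ℂ) = blockOf M (η : G ⧸ N → ℂ)) =
      Finset.univ.filter (· ∈ blockOf M (η : G ⧸ N → ℂ)) := by
    ext ψ
    simp only [Finset.mem_filter, Finset.mem_univ, true_and]
    exact ⟨fun h => h.2 ▸ Blocks.mem_blockOf_self hM ψ, fun h => ⟨hclosed η hηA h,
      (Blocks.IsPBlock.eq_blockOf hM (Blocks.isPBlock_blockOf η) h).symm⟩⟩
  rw [hfib, ← Blocks.blockCoeff_eq_sum]
  exact hcon _ (Blocks.isPBlock_blockOf η) fun ψ hψ => hclosed η hηA hψ

end CfsgLib.BlockCover
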