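import Cfsg.Agent.Lib.BlockCover.CentralDefect
import Cfsg.Agent.Lib.BlockCover.Quotient

/-! # The block of a character of the greatest degree over a centralised normal `p`-subgroup -/

set_option autoImplicit false
open Cfsg
open CfsgLib.Characters CfsgLib.CharCorr CfsgLib.BlockCover
open scoped ComplexConjugate

namespace CfsgLib.CentralDefect

universe u

variable {G : Type u} [Group G] [Fintype G] {p : ℕ} [hp : Fact p.Prime] {M : Ideal AlgInt}

/-- The `p`-regular elements as a finite set. -/
noncomputable def regSet (G : Type u) [Group G] [Fintype G] (p : ℕ) : Finset G :=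
  Finset.univ.filter fun y : G => ¬ p ∣ orderOf y

omit hp in
theorem mem_regSet {y : G} : y ∈ regSet G p ↔ ¬ p ∣ orderOf y := by simp [regSet]

/-- The hypotheses: `P` normal, centralised by regular elements, `χ` of largest degree. -/
structure Setup (p : ℕ) (P : Subgroup G) (χ : IrrCharacter G) (b : ℕ) : Prop where
  normal : P.Normal
  pgroup : IsPGroup p P
  comm : ∀ y : G, ¬ p ∣ orderOf y → ∀ u ∈ P, Commute u y
  not_dvd : ¬ p ∣ b
  degree : charDegree (χ : G → ℂ) * b * Nat.card P = Nat.card G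
  norm : ∀ u ∈ P, ∀ y : G, ¬ p ∣ orderOf y →
    Complex.normSq ((χ : G → ℂ) (u * y)) = Complex.normSq ((χ : G → ℂ) y)

variable {P : Subgroup G} {χ : IrrCharacter G} {b : ℕ}

/-- The inner product of two extensions. -/
theorem classInner_pExt (h : Setup p P χ b) [Fintype P] (ζ ζ' : P → ℂ) :
    classInner (pExt P p ζ (χ : G → ℂ)) (pExt P p ζ' (χ : G → ℂ)) =
      (Nat.card G : ℂ)⁻¹ * (∑ u : P, ζ u * conj (ζ' u)) *
        ((∑ y ∈ regSet G p, Complex.normSq ((χ : G → ℂ) y) : ℝ) : ℂ) := by
  rw [classInner, mul_assoc]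
  congr 1
  rw [sum_eq_sum_prod h.pgroup h.comm _ fun g hg => by rw [pExt_eq_zero ζ _ hg, zero_mul],
    Finset.sum_mul]
  refine Finset.sum_congr rfl fun u _ => ?_
  push_cast
  rw [Finset.mul_sum]
  refine Finset.sum_congr rfl fun y hy => ?_
  rw [pExt_mul h.pgroup h.comm ζ _ u (Finset.mem_filter.1 hy).2,
    pExt_mul h.pgroup h.comm ζ' _ u (Finset.mem_filter.1 hy).2, map_mul, ← Complex.mul_conj]
  ring

/-- The sum of the squares on regular elements, and vanishing elsewhere. -/
theorem regular_sum_and_vanish (h : Setup p P χ b) :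
    (Nat.card P : ℝ) * ∑ y ∈ regSet G p, Complex.normSq ((χ : G → ℂ) y) = Nat.card G ∧
      ∀ g : G, (¬ ∃ u : P, HasPart P p g u) → (χ : G → ℂ) g = 0 := by
  classical
  have := h.normal
  let _ := Fintype.ofFinite P
  set R := ∑ y ∈ regSet G p, Complex.normSq ((χ : G → ℂ) y) with hR
  have hG0 : (0 : ℝ) < Nat.card G := Nat.cast_pos.2 Nat.card_pos
  have hall : ∑ x : G, Complex.normSq ((χ : G → ℂ) x) = (Nat.card G : ℝ) := by
    have h1 := classInner_irr_self χ.2
    rw [classInner, inv_mul_eq_iff_eq_mul₀ (Nat.cast_ne_zero.mpr Nat.card_pos.ne'), mul_one] at h1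
    have h2 := congrArg Complex.re h1
    simp only [Complex.re_sum, Complex.natCast_re] at h2
    rw [← h2]
    exact Finset.sum_congr rfl fun x _ => by rw [Complex.mul_conj, Complex.ofReal_re]
  set F : G → ℂ := fun g => if ∃ u : P, HasPart P p g u then
    (Complex.normSq ((χ : G → ℂ) g) : ℂ) else 0 with hF
  have hsum : ∑ g : G, F g = (((Nat.card P : ℝ) * R : ℝ) : ℂ) := by
    rw [sum_eq_sum_prod h.pgroup h.comm F fun g hg => if_neg hg,
      Finset.sum_congr rfl fun (u : P) _ => Finset.sum_congr rfl fun y hy => show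
        F (u * y) = (Complex.normSq ((χ : G → ℂ) y) : ℂ) by
        have hy' := (Finset.mem_filter.1 hy).2
        simp only [F]
        rw [if_pos ⟨u, by rwa [HasPart, inv_mul_cancel_left]⟩, h.norm u u.2 y hy'],
      Finset.sum_const, Finset.card_univ, ← Nat.card_eq_fintype_card, nsmul_eq_mul, hR]
    push_cast
    rfl
  have hsum' : ∑ g : G, (if ∃ u : P, HasPart P p g u then
      Complex.normSq ((χ : G → ℂ) g) else 0) = (Nat.card P : ℝ) * R := by
    apply Complex.ofReal_injective
    rw [Complex.ofReal_sum, ← hsum]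
    refine Finset.sum_congr rfl fun g _ => ?_
    simp only [F]
    split_ifs <;> simp
  -- integrality
  obtain ⟨z, hz⟩ : ∃ z : ℤ, (Nat.card P : ℝ) * R = z * Nat.card G := by
    have hgen := isGeneralized_pExt h.pgroup h.comm (ζ := fun _ : P => (1 : ℂ))
      (isCharacter_of_irr (principalIrr P).2) (fun _ _ => rfl) χ h.not_dvd h.degree
    obtain ⟨z, hz⟩ := classInner_generalized_int hgen hgen
    refine ⟨z, ?_⟩
    rw [classInner_pExt h, ← hR] at hz
    simp only [map_one, mul_one, Finset.sum_const, Finset.card_univ, ← Nat.card_eq_fintype_card,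
      nsmul_eq_mul] at hz
    rw [mul_assoc, inv_mul_eq_iff_eq_mul₀ (Nat.cast_ne_zero.mpr Nat.card_pos.ne')] at hz
    apply Complex.ofReal_injective
    push_cast
    linear_combination hz
  have hle : (Nat.card P : ℝ) * R ≤ Nat.card G := by
    rw [← hsum', ← hall]
    refine Finset.sum_le_sum fun g _ => ?_
    split_ifs
    · exact le_rfl
    · exact Complex.normSq_nonneg _
  have hpos : 0 < (Nat.card P : ℝ) * R := by
    refine mul_pos (Nat.cast_pos.2 Nat.card_pos) (Finset.sum_pos' (fun _ _ => Complex.normSq_nonneg _)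
      ⟨1, mem_regSet.2 (by rw [orderOf_one]; exact hp.out.not_dvd_one), ?_⟩)
    exact Complex.normSq_pos.2 (irr_one_ne_zero χ)
  have hz1 : z = 1 := by
    rw [hz] at hle hpos
    have h1 : (z : ℝ) ≤ 1 := le_of_mul_le_mul_right (by linarith) hG0
    have h2 : (0 : ℝ) < z := pos_of_mul_pos_left hpos hG0.le
    have h3 : z ≤ 1 := by exact_mod_cast h1
    have h4 : 0 < z := by exact_mod_cast h2
    omega
  rw [hz1, Int.cast_one, one_mul] at hz
  refine ⟨hz, fun g hg => ?_⟩
  have h0 : ∑ g : G, (Complex.normSq ((χ : G → ℂ) g) -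
      (if ∃ u : P, HasPart P p g u then Complex.normSq ((χ : G → ℂ) g) else 0)) = 0 := by
    rw [Finset.sum_sub_distrib, hall, hsum', hz, sub_self]
  have h1 := (Finset.sum_eq_zero_iff_of_nonneg fun x _ => by
    split_ifs <;> simp [Complex.normSq_nonneg]).1 h0 g (Finset.mem_univ g)
  rw [if_neg hg, sub_zero] at h1
  exact Complex.normSq_eq_zero.1 h1

/-- The regular truncation of the conjugate of `χ`, scaled: a local integral idempotent
modulo `M` belonging to the block of `χ`. -/
noncomputable def regIdem (p : ℕ) (χ : IrrCharacter G) (b : ℕ) (y : G) : ℂ :=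
  if p ∣ orderOf y then 0 else (b : ℂ)⁻¹ * conj ((χ : G → ℂ) y)

omit hp in
theorem isClassFunction_regIdem : IsClassFunction G (regIdem p χ b) := fun g t => by
  have : orderOf (t * g * t⁻¹) = orderOf g := (MulAut.conj t).orderOf_eq g
  simp only [regIdem, this, irr_isClassFunction χ g t]

theorem regIdem_mem (hM : IsPModular p M) (hb : ¬ p ∣ b) (y : G) :
    MemLocalRing M (regIdem p χ b y) := by
  rw [regIdem]
  split_ifs
  · exact (Blocks.lRing hM).zero_mem
  · rw [← irr_apply_inv χ y]
    exact (Blocks.lRing hM).mul_mem (Blocks.inv_natCast_mem_lRing hM hb) (irr_memLocalRing hM χ _)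

theorem sum_regIdem_self (h : Setup p P χ b) :
    (∑ y : G, regIdem p χ b y * (χ : G → ℂ) y) / (χ : G → ℂ) 1 = 1 := by
  obtain ⟨hR, -⟩ := regular_sum_and_vanish h
  have hb0 : (b : ℂ) ≠ 0 := Nat.cast_ne_zero.2 fun h0 => h.not_dvd (h0 ▸ dvd_zero p)
  have h1 : ∑ y : G, regIdem p χ b y * (χ : G → ℂ) y =
      (b : ℂ)⁻¹ * ((∑ y ∈ regSet G p, Complex.normSq ((χ : G → ℂ) y) : ℝ) : ℂ) := by
    push_cast
    rw [regSet, Finset.sum_filter, Finset.mul_sum]
    refine Finset.sum_congr rfl fun y _ => ?_
    rw [regIdem, ← Complex.mul_conj]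
    split_ifs <;> ring
  have hR' := congrArg (fun t : ℝ => (t : ℂ)) hR
  simp only [Complex.ofReal_mul, Complex.ofReal_natCast] at hR'
  have hdeg : (χ : G → ℂ) 1 * b * Nat.card P = Nat.card G := by
    rw [irr_one_eq_charDegree]; exact_mod_cast h.degree
  rw [h1, div_eq_one_iff_eq (irr_one_ne_zero χ), inv_mul_eq_iff_eq_mul₀ hb0]
  have hP0 : (Nat.card P : ℂ) ≠ 0 := Nat.cast_ne_zero.mpr Nat.card_pos.ne'
  apply mul_left_cancel₀ hP0
  linear_combination hR' - hdeg

/-- Members of the block are orthogonal to `χ` on regular elements only modulo nothing. -/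
theorem omega_regIdem_unit (hM : IsPModular p M) (h : Setup p P χ b) {ψ : IrrCharacter G}
    (hψ : SameBlock M (χ : G → ℂ) (ψ : G → ℂ)) :
    ¬ MemLocalIdeal M ((∑ y : G, regIdem p χ b y * (ψ : G → ℂ) y) / (ψ : G → ℂ) 1) := by
  intro hI
  apply Blocks.not_memLocalIdeal_one hM
  have h1 := omega_congr hM hψ (isClassFunction_regIdem (p := p) (χ := χ) (b := b)) (regIdem_mem hM h.not_dvd)
  rw [sum_regIdem_self h] at h1
  simpa using Blocks.MemLocalIdeal.add hM h1 hI

/-- No member of the block has smaller `p`-part of the degree. -/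
theorem degree_le_of_sameBlock (hM : IsPModular p M) (h : Setup p P χ b) {ψ : IrrCharacter G}
    (hψ : SameBlock M (χ : G → ℂ) (ψ : G → ℂ)) :
    (charDegree (χ : G → ℂ)).factorization p ≤ (charDegree (ψ : G → ℂ)).factorization p := by
  set u := (∑ y : G, regIdem p χ b y * (ψ : G → ℂ) y) / (ψ : G → ℂ) 1 with hu
  have huR : MemLocalRing M u := omega_mem hM ψ (isClassFunction_regIdem (p := p) (χ := χ) (b := b)) (regIdem_mem hM h.not_dvd)
  set w : G → ℂ := fun y => if p ∣ orderOf y then 0 else (b : ℂ)⁻¹ * (ψ : G → ℂ) y⁻¹ with hw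
  have hwc : IsClassFunction G w := fun g t => by
    have : orderOf (t * g * t⁻¹) = orderOf g := (MulAut.conj t).orderOf_eq g
    simp only [w, this, show (t * g * t⁻¹)⁻¹ = t * g⁻¹ * t⁻¹ by group, irr_isClassFunction ψ g⁻¹ t]
  have hwR : ∀ y, MemLocalRing M (w y) := fun y => by
    simp only [w]
    split_ifs
    · exact (Blocks.lRing hM).zero_mem
    · exact (Blocks.lRing hM).mul_mem (Blocks.inv_natCast_mem_lRing hM h.not_dvd)
        (irr_memLocalRing hM ψ _)
  have hwR' := omega_mem hM χ hwc hwR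
  refine factorization_le_of_mul_eq hM (charDegree_ne_zero χ) (charDegree_ne_zero ψ) huR
    (omega_regIdem_unit hM h hψ) hwR' ?_
  rw [← irr_one_eq_charDegree, ← irr_one_eq_charDegree, hu, mul_div_cancel₀ _ (irr_one_ne_zero ψ),
    mul_div_cancel₀ _ (irr_one_ne_zero χ)]
  refine Fintype.sum_equiv (Equiv.inv G) _ _ fun y => ?_
  simp only [regIdem, w, Equiv.inv_apply, orderOf_inv, inv_inv]
  split_ifs
  · ring
  · rw [irr_apply_inv χ y]; ring

/-- `P` is the defect group. -/
theorem isDefectGroup_of_setup (hM : IsPModular p M) (h : Setup p P χ b) :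
    IsDefectGroup p M (blockOf M (χ : G → ℂ)) P := by
  have := h.normal
  have hB := Blocks.isPBlock_blockOf (M := M) χ
  obtain ⟨E, hE⟩ := Blocks.exists_isDefectGroup hM hB
  have h1 := Blocks.normal_le_defect hM hB h.pgroup hE
  obtain ⟨k, hk⟩ := h.pgroup.exists_card_eq
  have hd := blockDefect_eq (Blocks.mem_blockOf_self hM χ) fun ψ hψ =>
    degree_le_of_sameBlock hM h ((Blocks.IsPBlock.mem_iff hM hB (Blocks.mem_blockOf_self hM χ) ψ).1 hψ)
  have hdeg := congrArg (fun n : ℕ => n.factorization p) h.degree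
  have hb0 : b ≠ 0 := fun h0 => h.not_dvd (h0 ▸ dvd_zero p)
  rw [Nat.factorization_mul (mul_ne_zero (charDegree_ne_zero χ) hb0) Nat.card_pos.ne',
    Nat.factorization_mul (charDegree_ne_zero χ) hb0] at hdeg
  simp only [Finsupp.add_apply, hk, hp.out.factorization_pow, Finsupp.single_eq_same,
    Nat.factorization_eq_zero_of_not_dvd h.not_dvd, add_zero] at hdeg
  have h2 : P = E := Subgroup.eq_of_le_of_card_ge h1 (by
    rw [natCard_defect hM hB hE, hk, hd]
    exact Nat.pow_le_pow_right hp.out.pos (by omega))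
  exact h2.symm ▸ hE

omit hp in
theorem apply_central_mul (χ : IrrCharacter G) {d : G} (hd : d ∈ Subgroup.center G) (y : G) :
    (χ : G → ℂ) (d * y) = (χ : G → ℂ) d / (χ : G → ℂ) 1 * (χ : G → ℂ) y := by
  classical
  have hφ : IsClassFunction G fun x : G => if x = d then (1 : ℂ) else 0 := fun g t => by
    have : t * g * t⁻¹ = d ↔ g = d := by
      constructor
      · intro hh
        have hc := Subgroup.mem_center_iff.1 hd t
        have : t * g = t * d := by rw [hc, ← hh]; group
        exact mul_left_cancel this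
      · rintro rfl
        rw [Subgroup.mem_center_iff.1 hd t, mul_inv_cancel_right]
    simp only [this]
  have h := sum_classFn_mul_irr χ hφ y
  simpa [ite_mul] using h

omit hp in
theorem normSq_central_mul (χ : IrrCharacter G) {d : G} (hd : d ∈ Subgroup.center G) (y : G) :
    Complex.normSq ((χ : G → ℂ) (d * y)) = Complex.normSq ((χ : G → ℂ) y) := by
  have h1 := apply_central_mul χ hd d⁻¹
  rw [mul_inv_cancel, irr_apply_inv χ d, div_mul_eq_mul_div,
    eq_div_iff (irr_one_ne_zero χ), Complex.mul_conj] at h1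
  have h2 := congrArg Complex.re h1
  rw [Complex.ofReal_re] at h2
  rw [apply_central_mul χ hd, Complex.normSq_mul, Complex.normSq_div,
    div_mul_eq_mul_div, div_eq_iff (by simp [irr_one_ne_zero χ])]
  rw [← h2, irr_one_eq_charDegree]
  simp [Complex.normSq_natCast]
  ring

/-- Laradji's setting: a central subgroup and a character of the greatest degree. -/
theorem setup_central {D : Subgroup G} (hD : IsPGroup p D) (hDZ : D ≤ Subgroup.center G)
    (χ : IrrCharacter G)
    (hdeg : (charDegree (χ : G → ℂ)).factorization p = D.index.factorization p) :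
    ∃ b, Setup p D χ b := by
  obtain ⟨k, hk⟩ := hD.exists_card_eq
  obtain ⟨m, hm⟩ := charDegree_irr_dvd_card χ
  have hm0 : m ≠ 0 := fun h0 => Nat.card_pos.ne' (by rw [hm, h0, mul_zero])
  have hv := factorization_card_eq (p := p) D
  rw [hk, hp.out.factorization_pow, Finsupp.single_eq_same] at hv
  have hv' : (Nat.card G).factorization p =
      (charDegree (χ : G → ℂ)).factorization p + m.factorization p := by
    rw [hm, Nat.factorization_mul (charDegree_ne_zero χ) hm0]; rfl
  have hmk : m.factorization p = k := by omega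
  refine ⟨m / p ^ k, ⟨?_⟩, hD, fun y _ u hu => (Subgroup.mem_center_iff.1 (hDZ hu) y).symm, ?_, ?_,
    fun u hu y _ => normSq_central_mul χ (hDZ hu) y⟩
  · intro d hd g
    rwa [Subgroup.mem_center_iff.1 (hDZ hd) g, mul_inv_cancel_right]
  · rw [← hmk]; exact Nat.not_dvd_ordCompl hp.out hm0
  · rw [hk, mul_assoc, Nat.div_mul_cancel (hmk ▸ Nat.ordProj_dvd m p), ← hm]

end CfsgLib.CentralDefect
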