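import Cfsg.Agent.Lib.BlockCover.CentralDefectBlock
import Cfsg.Agent.Lib.BlockCover.PIndex
import Cfsg.Agent.Lib.Characters.Decomp
import Cfsg.Agent.Lib.KGV.Ito

/-! # The block with defect group `P` when `G = P C(P)` -/

set_option autoImplicit false
set_option linter.unusedSectionVars false
open Cfsg
open CfsgLib.Characters CfsgLib.CharCorr CfsgLib.BlockCover
open scoped ComplexConjugate

namespace CfsgLib.CentralDefect

universe u

variable {G : Type u} [Group G] [Fintype G] {p : ℕ} [hp : Fact p.Prime] {M : Ideal AlgInt}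
  {P : Subgroup G}

theorem root_sub_one_mem (hM : IsPModular p M) {μ : ℂ} {k : ℕ} (hμ : μ ^ p ^ k = 1) :
    MemLocalIdeal M (μ - 1) := by
  haveI := hM.2.1
  haveI : CharP (AlgInt ⧸ M) p := Blocks.charP_residue hM
  haveI : IsDomain (AlgInt ⧸ M) := Ideal.Quotient.isDomain M
  have hint : IsIntegral ℤ μ :=
    IsIntegral.of_pow (pow_pos hp.out.pos k) (by rw [hμ]; exact isIntegral_one)
  let w : AlgInt := ⟨μ, hint⟩
  have hw : w ^ p ^ k = 1 := Subtype.ext (by simpa using hμ)
  have h0 : (Ideal.Quotient.mk M w - Ideal.Quotient.mk M 1) ^ p ^ k = 0 := by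
    rw [sub_pow_char_pow (p := p), ← map_pow, ← map_pow, hw, one_pow, sub_self]
  have h1 := eq_zero_of_pow_eq_zero h0
  rw [← map_sub, Ideal.Quotient.eq_zero_iff_mem] at h1
  exact Blocks.memLocalIdeal_coe hM h1

theorem normal_of_sup_centralizer (hG : P ⊔ Subgroup.centralizer (P : Set G) = ⊤) : P.Normal := by
  rw [← Subgroup.normalizer_eq_top_iff, eq_top_iff, ← hG]
  exact sup_le Subgroup.le_normalizer (Subgroup.centralizer_le_normalizer _)

theorem regular_centralizes [P.Normal] (hP : IsPGroup p P)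
    (hG : P ⊔ Subgroup.centralizer (P : Set G) = ⊤) (y : G) (hy : ¬ p ∣ orderOf y) (u : G)
    (hu : u ∈ P) : Commute u y := by
  set C := Subgroup.centralizer (P : Set G) with hC
  have h1 : C.index = C.relIndex P := by
    rw [← Subgroup.relIndex_sup_right, hG, Subgroup.relIndex_top_right]
  obtain ⟨k, hk⟩ := hP.index (C.subgroupOf P)
  exact (mem_of_regular hp.out (h1.trans hk) hy) u hu

/-- Conjugation fixes the class functions of `P`. -/
theorem conj_invariant [hPn : P.Normal] (hG : P ⊔ Subgroup.centralizer (P : Set G) = ⊤)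
    {ζ : P → ℂ} (hζ : IsClassFunction P ζ) (g : G) (u : P) :
    ζ ⟨g * u * g⁻¹, hPn.conj_mem u u.2 g⟩ = ζ u := by
  have hmem : g ∈ P ⊔ Subgroup.centralizer (P : Set G) := hG ▸ Subgroup.mem_top g
  obtain ⟨v, hv, c, hc, rfl⟩ := Subgroup.mem_sup_of_normal_left.1 hmem
  have h1 : (v * c) * (u : G) * (v * c)⁻¹ = v * u * v⁻¹ := by
    have := (Subgroup.mem_centralizer_iff.1 hc u u.2)
    calc (v * c) * (u : G) * (v * c)⁻¹ = v * (c * u) * c⁻¹ * v⁻¹ := by group
      _ = v * u * v⁻¹ := by rw [← this]; group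
  exact (congrArg ζ (Subtype.ext h1 : _ = (⟨v, hv⟩ * u * ⟨v, hv⟩⁻¹ : P))).trans (hζ u ⟨v, hv⟩)

/-- A member of the block trivial on `P`, of the largest degree. -/
theorem exists_trivial_member (hM : IsPModular p M) [hPn : P.Normal] (hP : IsPGroup p P)
    (hG : P ⊔ Subgroup.centralizer (P : Set G) = ⊤) {B : Set (IrrCharacter G)}
    (hB : IsPBlock M B) (hD : IsDefectGroup p M B P) :
    ∃ (χ : IrrCharacter G) (b : ℕ), χ ∈ B ∧ (∀ x ∈ P, (χ : G → ℂ) x = (χ : G → ℂ) 1) ∧
      (charDegree (χ : G → ℂ)).factorization p = P.index.factorization p ∧ Setup p P χ b := by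
  classical
  obtain ⟨x, hx, hne⟩ : ∃ x : G, ¬ p ∣ orderOf x ∧ ¬ MemLocalIdeal M (blockCoeff B x) := by
    obtain ⟨x, ⟨-, hne, -⟩, -⟩ := hD
    exact ⟨x, fun hd => hne ((Blocks.blockCoeff_eq_zero_of_singular hM hB hd).symm ▸
      Blocks.memLocalIdeal_zero hM), hne⟩
  have hxP : x ∈ Subgroup.centralizer (P : Set G) := fun u hu =>
    (regular_centralizes hP hG x hx u hu).eq
  obtain ⟨Bb, hBb, hsub, -⟩ := exists_quotient_block P hM hP hB hx hxP hne
  let _ := Fintype.ofFinite (G ⧸ P)
  obtain ⟨Db, hDb⟩ := Blocks.exists_isDefectGroup hM hBb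
  obtain ⟨P', hP', hle⟩ := defect_le_map P hM hBb hB hsub hDb
  obtain ⟨t, ht⟩ := defectGroup_conjugate hM hB hD hP'
  have hDb1 : Db = ⊥ := by
    rw [eq_bot_iff]
    refine hle.trans (Subgroup.map_le_iff_le_comap.2 ?_)
    rw [MonoidHom.comap_bot, QuotientGroup.ker_mk']
    rw [ht]
    rintro _ ⟨u, hu, rfl⟩
    exact hPn.conj_mem u hu t
  obtain ⟨η, hη⟩ := Blocks.IsPBlock.nonempty hM hBb
  have hd := natCard_defect hM hBb hDb
  rw [hDb1, Subgroup.card_bot] at hd
  have hd0 : blockDefect p Bb = 0 :=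
    (pow_eq_one_iff.1 hd.symm).resolve_left hp.out.ne_one
  set χ := Chars17.infl P η with hχ
  have hdeg : charDegree (χ : G → ℂ) = charDegree (η : G ⧸ P → ℂ) := by
    simp [charDegree, χ, Chars17.infl_apply]
  have hle1 : (charDegree (η : G ⧸ P → ℂ)).factorization p ≤ P.index.factorization p :=
    (Nat.factorization_le_iff_dvd (charDegree_ne_zero η) Subgroup.index_ne_zero_of_finite).2
      (Chars17.irrDegree_dvd_card η) p
  have hle2 : P.index.factorization p ≤ (charDegree (η : G ⧸ P → ℂ)).factorization p := by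
    rw [blockDefect, Nat.sub_eq_zero_iff_le] at hd0
    exact hd0.trans (Nat.sInf_le ⟨η, hη, rfl⟩)
  have heq : (charDegree (χ : G → ℂ)).factorization p = P.index.factorization p := by
    rw [hdeg]; exact le_antisymm hle1 hle2
  have htriv : ∀ x ∈ P, (χ : G → ℂ) x = (χ : G → ℂ) 1 := fun x hx =>
    Chars17.mem_irrKer.1 (Chars17.le_irrKer_infl (N := P) η hx)
  obtain ⟨b, hb⟩ : charDegree (χ : G → ℂ) ∣ P.index := hdeg ▸ Chars17.irrDegree_dvd_card η
  have hb0 : b ≠ 0 := fun h0 => Subgroup.index_ne_zero_of_finite (H := P) (by rw [hb, h0, mul_zero])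
  refine ⟨χ, b, hsub η hη, htriv, heq, ⟨hPn, hP, regular_centralizes hP hG, ?_, ?_, ?_⟩⟩
  · intro hd
    rw [hb, Nat.factorization_mul (charDegree_ne_zero χ) hb0] at heq
    have := hp.out.factorization_pos_of_dvd hb0 hd
    simp at heq
    omega
  · rw [← hb, mul_comm, Subgroup.card_mul_index]
  · intro u hu y _
    simp only [χ, Chars17.infl_apply]
    rw [show ((u * y : G) : G ⧸ P) = (y : G ⧸ P) by
      rw [QuotientGroup.mk_mul, (QuotientGroup.eq_one_iff u).2 hu, one_mul]]

variable {χ : IrrCharacter G} {b : ℕ}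

/-- The extension of an irreducible character of `P` is irreducible. -/
theorem isIrrCharacter_pExt [Fintype P] (h : Setup p P χ b)
    (hG : P ⊔ Subgroup.centralizer (P : Set G) = ⊤) (ζ : IrrCharacter P) :
    IsIrrCharacter G (pExt P p (ζ : P → ℂ) (χ : G → ℂ)) := by
  have := h.normal
  refine isIrrCharacter_of_generalized_norm_one (isGeneralized_pExt h.pgroup h.comm
    (isCharacter_of_irr ζ.2) (fun g u => conj_invariant hG (irr_isClassFunction ζ) g u) χ
    h.not_dvd h.degree) ?_ ?_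
  · have hP0 : (Nat.card P : ℂ) ≠ 0 := Nat.cast_ne_zero.mpr Nat.card_pos.ne'
    have hG0 : (Nat.card G : ℂ) ≠ 0 := Nat.cast_ne_zero.mpr Nat.card_pos.ne'
    have h1 := classInner_irr_self ζ.2
    rw [classInner, inv_mul_eq_iff_eq_mul₀ hP0, mul_one] at h1
    have h2 := congrArg (fun t : ℝ => (t : ℂ)) (regular_sum_and_vanish h).1
    simp only [Complex.ofReal_mul, Complex.ofReal_natCast] at h2
    rw [classInner_pExt h, h1, mul_assoc, h2, inv_mul_cancel₀ hG0]
  · have h1 := pExt_mul h.pgroup h.comm (ζ : P → ℂ) (χ : G → ℂ) (1 : P) (y := 1)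
      (by rw [orderOf_one]; exact hp.out.not_dvd_one)
    rw [OneMemClass.coe_one, one_mul, irr_one_eq_charDegree, irr_one_eq_charDegree, ← Nat.cast_mul]
      at h1
    rw [h1, Complex.natCast_re]
    exact Nat.cast_nonneg _

/-- The extension of `ζ` as an irreducible character. -/
noncomputable def ext [Fintype P] (h : Setup p P χ b)
    (hG : P ⊔ Subgroup.centralizer (P : Set G) = ⊤) (ζ : IrrCharacter P) : IrrCharacter G :=
  ⟨_, isIrrCharacter_pExt h hG ζ⟩

variable [Fintype P] (h : Setup p P χ b) (hG : P ⊔ Subgroup.centralizer (P : Set G) = ⊤)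

theorem ext_apply_mem (ζ : IrrCharacter P) (u : P) :
    (ext h hG ζ : G → ℂ) u = (ζ : P → ℂ) u * (χ : G → ℂ) 1 := by
  have h1 := pExt_mul h.pgroup h.comm (ζ : P → ℂ) (χ : G → ℂ) u (y := 1)
    (by rw [orderOf_one]; exact hp.out.not_dvd_one)
  rwa [mul_one] at h1

theorem charDegree_ext (ζ : IrrCharacter P) :
    charDegree (ext h hG ζ : G → ℂ) = charDegree (ζ : P → ℂ) * charDegree (χ : G → ℂ) := by
  have h1 := ext_apply_mem h hG ζ 1
  rw [OneMemClass.coe_one, irr_one_eq_charDegree, irr_one_eq_charDegree, irr_one_eq_charDegree] at h1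
  exact_mod_cast h1

theorem ext_injective : Function.Injective (ext h hG) := fun ζ ζ' he => by
  refine Subtype.ext (funext fun u => mul_right_cancel₀ (irr_one_ne_zero χ) ?_)
  rw [← ext_apply_mem h hG ζ u, he, ext_apply_mem]

/-- The extensions lie in the block of `χ`. -/
theorem sameBlock_ext (hM : IsPModular p M)
    (htriv : ∀ x ∈ P, (χ : G → ℂ) x = (χ : G → ℂ) 1) (ζ : IrrCharacter P) :
    SameBlock M (ext h hG ζ : G → ℂ) (χ : G → ℂ) := by
  intro g
  have := h.normal
  by_cases hg : g ∈ Subgroup.centralizer (P : Set G)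
  swap
  · exact Blocks.MemLocalIdeal.sub hM (centralChar_mem_ideal_of_not_centralizes hM P h.pgroup _ hg)
      (centralChar_mem_ideal_of_not_centralizes hM P h.pgroup _ hg)
  by_cases hpart : ∃ u : P, HasPart P p g u
  swap
  · have h1 : (χ : G → ℂ) g = 0 := (regular_sum_and_vanish h).2 g hpart
    have h2 : (ext h hG ζ : G → ℂ) g = 0 := pExt_eq_zero _ _ hpart
    simp only [centralChar, h1, h2, mul_zero, zero_div, sub_self]
    exact Blocks.memLocalIdeal_zero hM
  obtain ⟨u, hu⟩ := hpart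
  obtain ⟨k, hk⟩ := IsPGroup.iff_orderOf.1 h.pgroup u
  have hy := hu
  rw [HasPart] at hy
  set y := (u : G)⁻¹ * g with hy'
  have hgy : g = (u : G) * y := by rw [hy']; group
  have hcy : ∀ v ∈ P, Commute v y := h.comm y hy
  have huZ : u ∈ Subgroup.center P := by
    rw [Subgroup.mem_center_iff]
    intro v
    refine Subtype.ext ?_
    have h1 : Commute (v : G) g := hg v v.2
    have h2 := h1.mul_right (hcy v v.2).inv_right
    rw [hgy, mul_inv_cancel_right] at h2
    exact h2.eq
  -- `ζ u` is congruent to `ζ 1`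
  set lam := (ζ : P → ℂ) u / (ζ : P → ℂ) 1 with hlam
  have hpow : ∀ n : ℕ, (ζ : P → ℂ) (u ^ n) = lam ^ n * (ζ : P → ℂ) 1 := by
    intro n
    induction n with
    | zero => rw [pow_zero, pow_zero, one_mul]
    | succ n ih => rw [pow_succ', apply_central_mul ζ huZ, ih, hlam]; ring
  have hroot : lam ^ p ^ k = 1 := by
    have h1 := hpow (p ^ k)
    rw [← hk, pow_orderOf_eq_one, hk] at h1
    exact mul_right_cancel₀ (irr_one_ne_zero ζ) (by rw [one_mul]; exact h1.symm)
  have hlam1 : MemLocalIdeal M (lam - 1) :=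
    root_sub_one_mem hM hroot
  have he : (ext h hG ζ : G → ℂ) g = (ζ : P → ℂ) u * (χ : G → ℂ) y := by
    rw [hgy]; exact pExt_mul h.pgroup h.comm _ _ u hy
  have he1 : (ext h hG ζ : G → ℂ) 1 = (ζ : P → ℂ) 1 * (χ : G → ℂ) 1 := by
    simpa using ext_apply_mem h hG ζ 1
  have hχg : (χ : G → ℂ) g = (χ : G → ℂ) y := by
    obtain ⟨η, hη⟩ := Chars17.exists_infl_eq (N := P) (χ := χ)
      fun x hx => Chars17.mem_irrKer.2 (htriv x hx)
    rw [← hη, Chars17.infl_apply, Chars17.infl_apply, hgy, QuotientGroup.mk_mul,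
      (QuotientGroup.eq_one_iff (u : G)).2 u.2, one_mul]
  have : centralChar (ext h hG ζ : G → ℂ) g - centralChar (χ : G → ℂ) g =
      centralChar (χ : G → ℂ) g * (lam - 1) := by
    have := irr_one_ne_zero χ
    have := irr_one_ne_zero ζ
    simp only [centralChar, he, he1, hχg, hlam]
    field_simp
  rw [this]
  exact Blocks.MemLocalIdeal.mul_left hM (centralChar_memLocalRing hM χ g) hlam1

/-- Every member of the block of `χ` is an extension. -/
theorem exists_ext_eq (hM : IsPModular p M) {ψ : IrrCharacter G}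
    (hψ : SameBlock M (χ : G → ℂ) (ψ : G → ℂ)) : ∃ ζ : IrrCharacter P, ext h hG ζ = ψ := by
  classical
  by_contra hcon
  push Not at hcon
  let F : P → ℂ := fun u => conj (∑ y ∈ regSet G p, (χ : G → ℂ) y * conj ((ψ : G → ℂ) (u * y)))
  have hF : IsClassFunction P F := fun u v => by
    simp only [F]
    congr 1
    refine Finset.sum_congr rfl fun y hy => ?_
    have hvy := (h.comm y (mem_regSet.1 hy) v v.2).eq
    rw [show (((v * u * v⁻¹ : P)) : G) * y = (v : G) * ((u : G) * y) * (v : G)⁻¹ by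
      rw [Subgroup.coe_mul, Subgroup.coe_mul, Subgroup.coe_inv]
      have : (v : G)⁻¹ * y = y * (v : G)⁻¹ :=
        (h.comm y (mem_regSet.1 hy) v v.2).inv_left.eq
      rw [mul_assoc, this]; group, irr_isClassFunction ψ]
  have horth : ∀ ζ : IrrCharacter P, classInner F (ζ : P → ℂ) = 0 := by
    intro ζ
    have h1 := classInner_irr_ne (isIrrCharacter_pExt h hG ζ) ψ.2 fun he => hcon ζ (Subtype.ext he)
    rw [classInner, mul_eq_zero] at h1
    have h2 := h1.resolve_left (inv_ne_zero (Nat.cast_ne_zero.mpr Nat.card_pos.ne'))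
    rw [sum_eq_sum_prod h.pgroup h.comm _ fun g hg => by rw [pExt_eq_zero _ _ hg, zero_mul]] at h2
    have h3 : ∑ u : P, (ζ : P → ℂ) u * conj (F u) = 0 := by
      rw [← h2]
      refine Finset.sum_congr rfl fun u _ => ?_
      simp only [F, Complex.conj_conj, Finset.mul_sum]
      refine Finset.sum_congr rfl fun y hy => ?_
      rw [pExt_mul h.pgroup h.comm _ _ u (Finset.mem_filter.1 hy).2]
      ring
    rw [classInner]
    have h4 := congrArg conj h3
    simp only [map_sum, map_mul, Complex.conj_conj, map_zero] at h4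
    rw [Finset.sum_congr rfl fun u _ => mul_comm (F u) _, h4, mul_zero]
  have hzero := classFunction_ext (ψ := fun _ : P => (0 : ℂ)) hF (fun _ _ => rfl) fun ζ => by
    rw [horth ζ]; simp [classInner]
  have h5 := congrFun hzero (1 : P)
  apply omega_regIdem_unit hM h hψ
  suffices h6 : ∑ y : G, regIdem p χ b y * (ψ : G → ℂ) y = 0 by
    rw [h6, zero_div]; exact Blocks.memLocalIdeal_zero hM
  simp only [F, OneMemClass.coe_one, one_mul, map_sum, map_mul, Complex.conj_conj] at h5
  have h7 : ∑ y : G, regIdem p χ b y * (ψ : G → ℂ) y =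
      (b : ℂ)⁻¹ * ∑ y ∈ regSet G p, conj ((χ : G → ℂ) y) * (ψ : G → ℂ) y := by
    rw [regSet, Finset.sum_filter, Finset.mul_sum]
    refine Finset.sum_congr rfl fun y _ => ?_
    rw [regIdem]
    split_ifs <;> ring
  rw [h7, h5, mul_zero]

/-- An extension trivial on `P` is the extension of the principal character. -/
theorem eq_principal_of_trivial {ζ : IrrCharacter P}
    (ht : ∀ x ∈ P, (ext h hG ζ : G → ℂ) x = (ext h hG ζ : G → ℂ) 1) : ζ = principalIrr P := by
  by_contra hne
  have h1 := classInner_irr_ne ζ.2 (principalIrr P).2 fun he => hne (Subtype.ext he)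
  have hc : ∀ u : P, (ζ : P → ℂ) u = (ζ : P → ℂ) 1 := fun u => by
    refine mul_right_cancel₀ (irr_one_ne_zero χ) ?_
    rw [← ext_apply_mem h hG ζ u, ht u u.2, ← ext_apply_mem h hG ζ 1, OneMemClass.coe_one]
  rw [classInner] at h1
  simp [hc, irr_one_ne_zero ζ] at h1

end CfsgLib.CentralDefect
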