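import Cfsg.Agent.Lib.BlockCover.DefectGroup
import Cfsg.Agent.Lib.Blocks12.Basic

/-!
# Counting blocks with a given defect group by the rank of a matrix of pair counts
-/

set_option autoImplicit false
set_option linter.style.haveILetI false
set_option linter.unusedSectionVars false

namespace CfsgLib.BlockCover

open Cfsg
open CfsgLib.Characters CfsgLib.CharCorr
open CfsgLib.Blocks (lRing)
open CfsgLib.BrauerPairs (ResK resK resK_eq_iff resK_eq_zero_iff)
open scoped ComplexConjugate

variable {p : ℕ} {M : Ideal AlgInt} {G : Type*} [Group G] [Fintype G]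

/-- The number of pairs `(y, z)` in the classes of `g` and `h` with `z y⁻¹ ∈ S`. -/
noncomputable def pairCount (S : Subgroup G) (g h : G) : ℕ :=
  Nat.card {yz : G × G // IsConj g yz.1 ∧ IsConj h yz.2 ∧ yz.2 * yz.1⁻¹ ∈ S}

/-- The multiplicity of the trivial character in the restriction to `S`. -/
noncomputable def trivMult (S : Subgroup G) (χ : IrrCharacter G) : ℕ :=
  haveI := Fintype.ofFinite S
  (ClassCount.exists_mult χ S).choose

theorem sum_inv_eq_trivMult (S : Subgroup G) [Fintype S] (χ : IrrCharacter G) :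
    ∑ t : S, (χ : G → ℂ) ((t : G)⁻¹) = (Nat.card S : ℂ) * trivMult S χ := by
  have h := (@ClassCount.exists_mult G _ _ χ S (Fintype.ofFinite S)).choose_spec
  unfold trivMult
  convert h

/-- Burnside's formula for the pair counts. -/
theorem pairCount_mul (S : Subgroup G) (g h : G) :
    (pairCount S g h : ℂ) * Nat.card G = (Nat.card S : ℂ) * ∑ χ : IrrCharacter G,
      (trivMult S χ : ℂ) * ((χ : G → ℂ) 1 * centralChar (χ : G → ℂ) g⁻¹ *
        centralChar (χ : G → ℂ) h) := by
  classical
  letI : Fintype S := Fintype.ofFinite S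
  have hcard : pairCount S g h =
      (ClassCount.pairs h g⁻¹ (Finset.univ.filter (· ∈ S))).card := by
    rw [pairCount, Nat.card_eq_fintype_card, Fintype.card_subtype]
    refine Finset.card_bij (fun yz _ => (yz.2, yz.1⁻¹)) (fun yz hyz => ?_) (fun a _ b _ he => ?_)
      (fun ab hab => ?_)
    · obtain ⟨h1, h2, h3⟩ := (Finset.mem_filter.1 hyz).2
      refine Finset.mem_filter.2 ⟨Finset.mem_product.2 ⟨ClassCount.mem_cls.2 h2,
        ClassCount.mem_cls.2 ?_⟩, by simpa using h3⟩
      obtain ⟨c, hc⟩ := isConj_iff.1 h1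
      exact isConj_iff.2 ⟨c, by rw [← hc]; group⟩
    · simp only [Prod.mk.injEq, inv_inj] at he
      exact Prod.ext he.2 he.1
    · obtain ⟨hm, h3⟩ := Finset.mem_filter.1 hab
      obtain ⟨h1, h2⟩ := Finset.mem_product.1 hm
      obtain ⟨c, hc⟩ := isConj_iff.1 (ClassCount.mem_cls.1 h2)
      refine ⟨(ab.2⁻¹, ab.1), Finset.mem_filter.2 ⟨Finset.mem_univ _, isConj_iff.2 ⟨c, ?_⟩,
        ClassCount.mem_cls.1 h1, by simpa using h3⟩, by simp⟩
      rw [← hc]; group
  rw [hcard, ClassCount.card_pairs_mul, Finset.mul_sum]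
  refine Finset.sum_congr rfl fun χ _ => ?_
  have hs : ∑ t ∈ Finset.univ.filter (· ∈ S), (χ : G → ℂ) t⁻¹ =
      (Nat.card S : ℂ) * trivMult S χ := by
    rw [← sum_inv_eq_trivMult]
    exact Finset.sum_subtype _ (fun x => by simp) fun t : G => (χ : G → ℂ) t⁻¹
  rw [hs]
  ring

variable [Fact p.Prime]

theorem card_sylow_ne_zero (S : Sylow p G) : (Nat.card (S : Subgroup G) : ℂ) ≠ 0 :=
  Nat.cast_ne_zero.2 Nat.card_pos.ne'

/-- The index of the centraliser with its `p`-part removed. -/
noncomputable def classUnit (p : ℕ) (g : G) : ℕ :=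
  (Subgroup.centralizer ({g} : Set G)).index /
    p ^ (Subgroup.centralizer ({g} : Set G)).index.factorization p

theorem classUnit_not_dvd (g : G) : ¬ p ∣ classUnit p g :=
  Nat.not_dvd_ordCompl Fact.out Subgroup.index_ne_zero_of_finite

theorem index_eq_classUnit (g : G) :
    (Subgroup.centralizer ({g} : Set G)).index =
      p ^ ((Nat.card G).factorization p -
        (Nat.card (Subgroup.centralizer ({g} : Set G))).factorization p) * classUnit p g := by
  have h := factorization_card_eq (p := p) (Subgroup.centralizer ({g} : Set G))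
  rw [h, Nat.add_sub_cancel_left, classUnit, Nat.ordProj_mul_ordCompl_eq_self]

theorem centralizer_singleton_inv (g : G) :
    Subgroup.centralizer ({g⁻¹} : Set G) = Subgroup.centralizer ({g} : Set G) := by
  ext z
  simp only [Subgroup.mem_centralizer_singleton_iff]
  exact ⟨fun H => (inv_inv g ▸ (Commute.inv_right (show Commute z g⁻¹ from H)) : Commute z g),
    fun H => Commute.inv_right (show Commute z g from H)⟩

/-- The inverse of the `p′`-part of the order. -/
noncomputable def cofInv (p : ℕ) (G : Type*) [Group G] : ℂ :=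
  ((Nat.card G / p ^ (Nat.card G).factorization p : ℕ) : ℂ)⁻¹

theorem cofInv_mem (hM : IsPModular p M) : MemLocalRing M (cofInv p G) :=
  CfsgLib.Blocks.inv_natCast_mem_lRing hM (Nat.not_dvd_ordCompl hM.1 Nat.card_pos.ne')

/-- The pair count divided by the `p`-part of the class size of `h`. -/
noncomputable def redCount (S : Sylow p G) (g h : G) : ℂ :=
  cofInv p G * ∑ χ : IrrCharacter G, (trivMult (S : Subgroup G) χ : ℂ) *
    (centralChar (χ : G → ℂ) g⁻¹ * ((classUnit p h : ℂ) * (χ : G → ℂ) h))

theorem redCount_mem (hM : IsPModular p M) (S : Sylow p G) (g h : G) :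
    MemLocalRing M (redCount S g h) :=
  (lRing hM).mul_mem (cofInv_mem hM) ((lRing hM).sum_mem fun χ _ =>
    (lRing hM).mul_mem (natCast_mem _ _) ((lRing hM).mul_mem (centralChar_memLocalRing hM χ _)
      ((lRing hM).mul_mem (natCast_mem _ _) (irr_memLocalRing hM χ _))))

theorem pairCount_eq (S : Sylow p G) (g h : G) :
    (pairCount (S : Subgroup G) g h : ℂ) = (p : ℂ) ^ ((Nat.card G).factorization p -
      (Nat.card (Subgroup.centralizer ({h} : Set G))).factorization p) * redCount S g h := by
  have hp : p.Prime := Fact.out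
  have h1 := pairCount_mul (S : Subgroup G) g h
  set a := (Nat.card G).factorization p
  have hS : (Nat.card (S : Subgroup G) : ℂ) = (p : ℂ) ^ a := by
    rw [S.card_eq_multiplicity]; push_cast; rfl
  have hu : (((Nat.card G / p ^ a : ℕ)) : ℂ) ≠ 0 :=
    Nat.cast_ne_zero.2 fun h0 => Nat.not_dvd_ordCompl hp Nat.card_pos.ne' (h0 ▸ dvd_zero p)
  have hG : (Nat.card G : ℂ) = (p : ℂ) ^ a * ((Nat.card G / p ^ a : ℕ) : ℂ) := by
    exact_mod_cast (Nat.ordProj_mul_ordCompl_eq_self (Nat.card G) p).symm
  have hpa : (p : ℂ) ^ a ≠ 0 := pow_ne_zero _ (Nat.cast_ne_zero.2 hp.ne_zero)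
  apply mul_right_cancel₀ (mul_ne_zero hpa hu)
  rw [← hG, h1, hS, redCount, cofInv, hG]
  simp only [Finset.mul_sum, Finset.sum_mul]
  refine Finset.sum_congr rfl fun χ _ => ?_
  have hd : (χ : G → ℂ) 1 * centralChar (χ : G → ℂ) h =
      (p : ℂ) ^ (a - (Nat.card (Subgroup.centralizer ({h} : Set G))).factorization p) *
        ((classUnit p h : ℂ) * (χ : G → ℂ) h) := by
    have h1' := irr_one_ne_zero χ
    rw [centralChar, mul_div_cancel₀ _ h1', index_eq_classUnit (p := p) h]
    push_cast
    ring
  calc (p : ℂ) ^ a * ((trivMult (S : Subgroup G) χ : ℂ) *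
        ((χ : G → ℂ) 1 * centralChar (χ : G → ℂ) g⁻¹ * centralChar (χ : G → ℂ) h))
      = (p : ℂ) ^ a * ((trivMult (S : Subgroup G) χ : ℂ) * centralChar (χ : G → ℂ) g⁻¹ *
          ((χ : G → ℂ) 1 * centralChar (χ : G → ℂ) h)) := by ring
    _ = _ := by rw [hd]; simp only [a] at hu ⊢; field_simp

/-- Reduced counts vanish when the first class has smaller defect. -/
theorem redCount_mem_ideal (hM : IsPModular p M) (S : Sylow p G) {g h : G}
    (hlt : (Nat.card (Subgroup.centralizer ({g} : Set G))).factorization p <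
      (Nat.card (Subgroup.centralizer ({h} : Set G))).factorization p) :
    MemLocalIdeal M (redCount S g h) := by
  have hp : p.Prime := Fact.out
  set a := (Nat.card G).factorization p with ha
  set dg := (Nat.card (Subgroup.centralizer ({g} : Set G))).factorization p with hdg
  set dh := (Nat.card (Subgroup.centralizer ({h} : Set G))).factorization p with hdh
  have hle : dh ≤ a := by
    have := factorization_card_eq (p := p) (Subgroup.centralizer ({h} : Set G))
    omega
  have h0 := pairCount_eq S g h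
  -- the count is divisible by the `p`-part of the class of `g`
  obtain ⟨w, hw, hw'⟩ : ∃ w : ℂ, MemLocalRing M w ∧
      (pairCount (S : Subgroup G) g h : ℂ) = (p : ℂ) ^ (a - dg) * w := by
    refine ⟨cofInv p G * ∑ χ : IrrCharacter G, (trivMult (S : Subgroup G) χ : ℂ) *
      (centralChar (χ : G → ℂ) h * ((classUnit p g : ℂ) * (χ : G → ℂ) g⁻¹)),
      (lRing hM).mul_mem (cofInv_mem hM) ((lRing hM).sum_mem fun χ _ =>
        (lRing hM).mul_mem (natCast_mem _ _) ((lRing hM).mul_mem (centralChar_memLocalRing hM χ _)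
          ((lRing hM).mul_mem (natCast_mem _ _) (irr_memLocalRing hM χ _)))), ?_⟩
    have hpa : (p : ℂ) ^ a ≠ 0 := pow_ne_zero _ (Nat.cast_ne_zero.2 hp.ne_zero)
    have hu : (((Nat.card G / p ^ a : ℕ)) : ℂ) ≠ 0 :=
      Nat.cast_ne_zero.2 fun h0 => Nat.not_dvd_ordCompl hp Nat.card_pos.ne' (h0 ▸ dvd_zero p)
    have hS : (Nat.card (S : Subgroup G) : ℂ) = (p : ℂ) ^ a := by
      rw [S.card_eq_multiplicity]; push_cast; rfl
    have hG : (Nat.card G : ℂ) = (p : ℂ) ^ a * ((Nat.card G / p ^ a : ℕ) : ℂ) := by
      exact_mod_cast (Nat.ordProj_mul_ordCompl_eq_self (Nat.card G) p).symm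
    apply mul_right_cancel₀ (mul_ne_zero hpa hu)
    rw [← hG, pairCount_mul, hS, cofInv, hG]
    simp only [Finset.mul_sum, Finset.sum_mul]
    refine Finset.sum_congr rfl fun χ _ => ?_
    have hd : (χ : G → ℂ) 1 * centralChar (χ : G → ℂ) g⁻¹ =
        (p : ℂ) ^ (a - dg) * ((classUnit p g : ℂ) * (χ : G → ℂ) g⁻¹) := by
      have h1' := irr_one_ne_zero χ
      rw [centralChar, centralizer_singleton_inv, mul_div_cancel₀ _ h1',
        index_eq_classUnit (p := p) g]
      push_cast
      ring
    rw [hd]
    simp only [a] at hu ⊢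
    field_simp
  have heq : redCount S g h = (p : ℂ) ^ (dh - dg) * w := by
    apply mul_left_cancel₀ (pow_ne_zero (a - dh) (Nat.cast_ne_zero.2 hp.ne_zero : (p : ℂ) ≠ 0))
    rw [← h0, hw', ← mul_assoc, ← pow_add]
    congr 2
    omega
  rw [heq]
  refine CfsgLib.Blocks.MemLocalIdeal.mul_right hM ?_ hw
  obtain ⟨j, hj⟩ := Nat.exists_eq_add_of_lt hlt
  rw [show dh - dg = j + 1 by omega, pow_succ']
  exact CfsgLib.Blocks.MemLocalIdeal.mul_right hM (CfsgLib.Blocks.memLocalIdeal_p hM)
    ((lRing hM).pow_mem (natCast_mem _ p) j)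

/-- The column relation between pair counts and block idempotent coefficients. -/
theorem sum_blockCoeff_mul_redCount [Fintype (ConjClasses G)] (hM : IsPModular p M)
    (S : Sylow p G) {B : Set (IrrCharacter G)} (hB : IsPBlock M B) {h : G}
    (hh : ¬ p ∣ orderOf h) :
    ∑ c : ConjClasses G, blockCoeff B c.out⁻¹ * redCount S c.out h =
      (classUnit p h : ℂ) * blockCoeff B h⁻¹ := by
  classical
  letI : Fintype (S : Subgroup G) := Fintype.ofFinite _
  have hω : ∀ χ : IrrCharacter G,
      ∑ c : ConjClasses G, blockCoeff B c.out⁻¹ * centralChar (χ : G → ℂ) c.out⁻¹ =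
        if χ ∈ B then 1 else 0 := by
    intro χ
    let e : ConjClasses G → ConjClasses G := fun c => ConjClasses.mk c.out⁻¹
    have hout : ∀ y : G, IsConj (ConjClasses.mk y).out y := fun y =>
      ConjClasses.mk_eq_mk_iff_isConj.1 (Quotient.out_eq _)
    have hinvconj : ∀ y z : G, IsConj y z → IsConj y⁻¹ z⁻¹ := fun y z hyz => by
      obtain ⟨c, hc⟩ := isConj_iff.1 hyz
      exact isConj_iff.2 ⟨c, by rw [← hc]; group⟩
    have hinv : Function.Involutive e := fun c => by
      simp only [e]
      conv_rhs => rw [← Quotient.out_eq c]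
      refine ConjClasses.mk_eq_mk_iff_isConj.2 ?_
      have := hinvconj _ _ (hout c.out⁻¹)
      rwa [inv_inv] at this
    have h1 := CfsgLib.Blocks.omega_eq_sum_classes χ (CfsgLib.Blocks.blockIdem_mem_center B)
    rw [CfsgLib.Blocks.omega_blockIdem] at h1
    refine (Fintype.sum_equiv (hinv.toPerm e) _
      (fun c : ConjClasses G => (CfsgLib.Blocks.blockIdem B).coeff c.out *
        centralChar (χ : G → ℂ) c.out) fun c => ?_).trans ?_
    swap
    · convert h1.symm
    simp only [Function.Involutive.coe_toPerm, CfsgLib.Blocks.coeff_blockIdem, e]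
    rw [CfsgLib.Blocks.blockCoeff_of_isConj B (hout c.out⁻¹),
      CfsgLib.Blocks.centralChar_of_isConj χ (hout c.out⁻¹)]
  simp only [redCount, Finset.mul_sum]
  rw [Finset.sum_comm]
  have step : ∀ χ : IrrCharacter G,
      ∑ c : ConjClasses G, blockCoeff B c.out⁻¹ * (cofInv p G * ((trivMult (S : Subgroup G) χ : ℂ) *
        (centralChar (χ : G → ℂ) c.out⁻¹ * ((classUnit p h : ℂ) * (χ : G → ℂ) h)))) =
      if χ ∈ B then cofInv p G * (classUnit p h : ℂ) *
        ((trivMult (S : Subgroup G) χ : ℂ) * (χ : G → ℂ) h) else 0 := by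
    intro χ
    rw [Finset.sum_congr rfl (fun c _ => show _ = (cofInv p G * (classUnit p h : ℂ) *
      ((trivMult (S : Subgroup G) χ : ℂ) * (χ : G → ℂ) h)) *
        (blockCoeff B c.out⁻¹ * centralChar (χ : G → ℂ) c.out⁻¹) by ring), ← Finset.mul_sum, hω]
    split_ifs <;> simp
  rw [Finset.sum_congr rfl (fun χ _ => step χ), ← Finset.sum_filter, ← Finset.mul_sum]
  have horth : ∑ χ ∈ Finset.univ.filter (· ∈ B),
      (trivMult (S : Subgroup G) χ : ℂ) * (χ : G → ℂ) h =
      (Nat.card (S : Subgroup G) : ℂ)⁻¹ *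
        ∑ χ ∈ Finset.univ.filter (· ∈ B), (χ : G → ℂ) 1 * (χ : G → ℂ) h := by
    rw [eq_inv_mul_iff_mul_eq₀ (card_sylow_ne_zero S), Finset.mul_sum]
    have : ∀ χ : IrrCharacter G, (Nat.card (S : Subgroup G) : ℂ) *
        ((trivMult (S : Subgroup G) χ : ℂ) * (χ : G → ℂ) h) =
          ∑ t : (S : Subgroup G), (χ : G → ℂ) h * conj ((χ : G → ℂ) t) := by
      intro χ
      rw [← mul_assoc, ← sum_inv_eq_trivMult, Finset.sum_mul]
      exact Finset.sum_congr rfl fun t _ => by rw [irr_apply_inv]; ring
    rw [Finset.sum_congr rfl (fun χ _ => this χ), Finset.sum_comm,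
      Finset.sum_eq_single (1 : (S : Subgroup G))]
    · refine Finset.sum_congr rfl fun χ _ => ?_
      rw [OneMemClass.coe_one, ← irr_apply_inv, inv_one]
      ring
    · intro t _ ht
      obtain ⟨j, hj⟩ := IsPGroup.iff_orderOf.1 S.isPGroup' t
      refine CfsgLib.Blocks.weak_orth hM hB hh ?_
      rw [Subgroup.orderOf_coe, hj]
      refine dvd_pow_self p ?_
      rintro rfl
      exact ht (orderOf_eq_one_iff.1 (by rw [hj, pow_zero]))
    · simp
  rw [horth, CfsgLib.Blocks.blockCoeff_eq_sum, cofInv, S.card_eq_multiplicity]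
  have hterm : ∀ χ : IrrCharacter G, conj ((χ : G → ℂ) h⁻¹) = (χ : G → ℂ) h := fun χ => by
    rw [irr_apply_inv, Complex.conj_conj]
  simp only [hterm]
  have hG : (Nat.card G : ℂ) = ((p ^ (Nat.card G).factorization p : ℕ) : ℂ) *
      ((Nat.card G / p ^ (Nat.card G).factorization p : ℕ) : ℂ) := by
    exact_mod_cast (Nat.ordProj_mul_ordCompl_eq_self (Nat.card G) p).symm
  rw [hG, mul_inv]
  ring

/-- The rank of a square matrix does not change along a map of fields. -/
theorem rank_map_field {F E m : Type*} [Field F] [Field E] [Fintype m] [DecidableEq m] (f : F →+* E)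
    (A : Matrix m m F) : (A.map f).rank = A.rank := by
  classical
  obtain ⟨V, U, e, hV, hU, h⟩ := Matrix.exists_rank_normal_form A
  have hfull : ∀ (K : Type _) [Field K],
      ((Matrix.diagonal (Sum.elim (fun _ : Fin A.rank => (1 : K))
        (fun _ : Fin (Fintype.card m - A.rank) => 0))).submatrix e e).rank = A.rank := by
    intro K _
    rw [Matrix.rank_submatrix, Matrix.rank_diagonal]
    rw [Fintype.card_subtype]
    have : (Finset.univ.filter fun i : Fin A.rank ⊕ Fin (Fintype.card m - A.rank) =>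
        Sum.elim (fun _ => (1 : K)) (fun _ => 0) i ≠ 0) = Finset.univ.map Function.Embedding.inl := by
      ext i; cases i <;> simp
    rw [this, Finset.card_map, Finset.card_univ, Fintype.card_fin]
  have hblk : (Matrix.fromBlocks 1 0 0 0 : Matrix (Fin A.rank ⊕ Fin (Fintype.card m - A.rank)) _ F) =
      Matrix.diagonal (Sum.elim (fun _ : Fin A.rank => (1 : F))
        (fun _ : Fin (Fintype.card m - A.rank) => 0)) := by
    rw [← Matrix.fromBlocks_diagonal, Matrix.diagonal_one, Matrix.diagonal_zero]
  have h' := congrArg (fun B : Matrix m m F => B.map f) h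
  simp only [Matrix.map_mul, hblk, ← Matrix.submatrix_map, Matrix.diagonal_map (map_zero f)] at h'
  have hdet : ∀ B : Matrix m m F, IsUnit B → IsUnit (B.map f).det := fun B hB => by
    rw [← RingHom.mapMatrix_apply, ← RingHom.map_det]
    exact ((Matrix.isUnit_iff_isUnit_det _).1 hB).map f
  rw [← Matrix.rank_mul_eq_right_of_isUnit_det (V.map f) (A.map f) (hdet V hV),
    ← Matrix.rank_mul_eq_left_of_isUnit_det (U.map f) (V.map f * A.map f) (hdet U hU), h']
  have hfun : (fun i : Fin A.rank ⊕ Fin (Fintype.card m - A.rank) =>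
      f (Sum.elim (fun _ => (1 : F)) (fun _ => 0) i)) =
        Sum.elim (fun _ => (1 : E)) (fun _ => 0) := by
    funext i; cases i <;> simp
  rw [hfun]
  exact hfull E

theorem exists_sylow_of_eq {C C' : Subgroup G} {D : Subgroup G} (hC : C = C')
    (h : ∃ Q : Sylow p C, (Q : Subgroup C).map C.subtype = D) :
    ∃ Q : Sylow p C', (Q : Subgroup C').map C'.subtype = D := by
  subst hC; exact h

theorem centralizer_of_sylow_eq {g : G} {D : Subgroup G}
    (h : ∃ Q : Sylow p (Subgroup.centralizer ({g} : Set G)),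
      (Q : Subgroup _).map (Subgroup.centralizer ({g} : Set G)).subtype = D) :
    (Nat.card (Subgroup.centralizer ({g} : Set G))).factorization p =
      (Nat.card D).factorization p := by
  obtain ⟨Q, rfl⟩ := h
  rw [natCard_sylow_centralizer, (Fact.out : p.Prime).factorization_pow, Finsupp.single_eq_same]

theorem blockDefect_eq_factorization (hM : IsPModular p M) {B : Set (IrrCharacter G)}
    (hB : IsPBlock M B) {D : Subgroup G} (hD : IsDefectGroup p M B D) :
    blockDefect p B = (Nat.card D).factorization p := by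
  rw [natCard_defect hM hB hD, hM.1.factorization_pow, Finsupp.single_eq_same]

/-- Blocks with a given defect group are counted by the rank of the reduced pair counts. -/
theorem rank_pairCount (hM : IsPModular p M) (D : Subgroup G) (S : Sylow p G) {ι : Type*}
    [Fintype ι] [DecidableEq ι] (x : ι → G) (hinj : ∀ i j, IsConj (x i) (x j) → i = j)
    (hreg : ∀ i, ¬ p ∣ orderOf (x i))
    (hS : ∀ i, ∃ Q : Sylow p (Subgroup.centralizer ({x i} : Set G)),
      (Q : Subgroup _).map (Subgroup.centralizer ({x i} : Set G)).subtype = D)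
    (hall : ∀ g : G, ¬ p ∣ orderOf g → (∃ Q : Sylow p (Subgroup.centralizer ({g} : Set G)),
      (Q : Subgroup _).map (Subgroup.centralizer ({g} : Set G)).subtype = D) →
        ∃ i, IsConj (x i) g) :
    Nat.card {B : Set (IrrCharacter G) // IsPBlock M B ∧ IsDefectGroup p M B D} =
      (Matrix.of fun i j : ι => ((pairCount (S : Subgroup G) (x i) (x j) /
        p ^ ((Nat.card G).factorization p - (Nat.card D).factorization p) : ℕ) : ZMod p)).rank := by
  classical
  haveI := hM.2.1
  haveI := BrauerPairs.charP_res hM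
  have hp : p.Prime := Fact.out
  letI : Fintype (ConjClasses G) := Fintype.ofFinite _
  set a := (Nat.card G).factorization p with ha
  set e := (Nat.card D).factorization p with he
  have hxe : ∀ i, (Nat.card (Subgroup.centralizer ({x i} : Set G))).factorization p = e :=
    fun i => centralizer_of_sylow_eq (hS i)
  have hRmem : ∀ g h : G, redCount S g h ∈ lRing hM := fun g h => redCount_mem hM S g h
  set f : ZMod p →+* ResK M := ZMod.castHom dvd_rfl (ResK M)
  let Abar : Matrix ι ι (ResK M) := Matrix.of fun i j => resK hM ⟨_, hRmem (x i) (x j)⟩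
  have hA : (Matrix.of fun i j : ι => ((pairCount (S : Subgroup G) (x i) (x j) /
      p ^ (a - e) : ℕ) : ZMod p)).map f = Abar := by
    ext i j
    have h1 : (pairCount (S : Subgroup G) (x i) (x j) : ℂ) =
        (p : ℂ) ^ (a - e) * redCount S (x i) (x j) := by
      rw [pairCount_eq, hxe]
    have hdvd : p ^ (a - e) ∣ pairCount (S : Subgroup G) (x i) (x j) := by
      have := Contribution.int_pow_dvd hM (z := (pairCount (S : Subgroup G) (x i) (x j) : ℤ))
        (hRmem _ _) (k := a - e) (by exact_mod_cast h1)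
      exact_mod_cast this
    obtain ⟨q, hq⟩ := hdvd
    simp only [Matrix.map_apply, Matrix.of_apply, map_natCast, Abar]
    rw [hq, Nat.mul_div_cancel_left _ (pow_pos hp.pos _)]
    rw [← map_natCast (resK hM)]
    congr 1
    apply Subtype.ext
    rw [hq] at h1
    push_cast at h1
    show ((q : lRing hM) : ℂ) = _
    rw [show ((q : lRing hM) : ℂ) = (q : ℂ) from map_natCast (lRing hM).subtype q]
    exact mul_left_cancel₀ (pow_ne_zero _ (Nat.cast_ne_zero.2 hp.ne_zero)) h1
  rw [← rank_map_field f, hA]
  let BD := {B : Set (IrrCharacter G) // IsPBlock M B ∧ IsDefectGroup p M B D}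
  letI : Fintype BD := Fintype.ofFinite _
  choose χB hχB using fun B : BD => Blocks.IsPBlock.nonempty hM B.2.1
  have hdef : ∀ B : BD, blockDefect p B.1 = e := fun B =>
    blockDefect_eq_factorization hM B.2.1 B.2.2
  have huniq : ∀ (χ : IrrCharacter G) (B₁ B₂ : BD), χ ∈ B₁.1 → χ ∈ B₂.1 → B₁ = B₂ :=
    fun χ B₁ B₂ h1 h2 => Subtype.ext ((Blocks.IsPBlock.eq_blockOf hM B₁.2.1 h1).trans
      (Blocks.IsPBlock.eq_blockOf hM B₂.2.1 h2).symm)
  have hcR : ∀ (B : BD) (g : G), blockCoeff B.1 g ∈ lRing hM := fun B g =>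
    BrauerPairs.blockCoeff_mem hM B.2.1 g
  -- classes at which some block is a unit and whose defect is at least `e`
  have hfind : ∀ (B : BD) (g : G), ¬ MemLocalIdeal M (blockCoeff B.1 g⁻¹) →
      e ≤ (Nat.card (Subgroup.centralizer ({g} : Set G))).factorization p →
        ∃ i, IsConj (x i) g := by
    intro B g hne hle
    have hgreg : ¬ p ∣ orderOf g := fun h => hne (by
      rw [Blocks.blockCoeff_eq_zero_of_singular hM B.2.1 (by rwa [orderOf_inv])]
      exact Blocks.memLocalIdeal_zero hM)
    obtain ⟨T⟩ : Nonempty (Sylow p (Subgroup.centralizer ({g} : Set G))) := inferInstance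
    obtain ⟨t, ht⟩ := exists_conj_le_defect_of_coeff hM B.2.1 B.2.2 hne
      (P := (T : Subgroup _).map (Subgroup.centralizer ({g} : Set G)).subtype) (T.2.map _)
      (by rw [centralizer_singleton_inv]; exact Subgroup.map_subtype_le _)
    obtain ⟨T', hT'⟩ := exists_conj_sylow T t
    have hTD : (T' : Subgroup _).map (Subgroup.centralizer ({t * g * t⁻¹} : Set G)).subtype = D := by
      rw [hT']
      refine Subgroup.eq_of_le_of_card_ge ht ?_
      rw [Subgroup.card_map_of_injective (MulAut.conj t).injective, natCard_sylow_centralizer,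
        natCard_defect hM B.2.1 B.2.2, hdef]
      exact Nat.pow_le_pow_right hp.pos hle
    obtain ⟨i, hi⟩ := hall (t * g * t⁻¹)
      (by rwa [show orderOf (t * g * t⁻¹) = orderOf g from (MulAut.conj t).orderOf_eq g]) ⟨T', hTD⟩
    exact ⟨i, hi.trans (isConj_iff.2 ⟨t, rfl⟩).symm⟩
  have hle_of : ∀ (B : BD) (g : G), ¬ MemLocalIdeal M (blockCoeff B.1 g⁻¹) →
      (Nat.card (Subgroup.centralizer ({g} : Set G))).factorization p ≤ e := by
    intro B g hne
    obtain ⟨T⟩ : Nonempty (Sylow p (Subgroup.centralizer ({g} : Set G))) := inferInstance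
    obtain ⟨t, ht⟩ := exists_conj_le_defect_of_coeff hM B.2.1 B.2.2 hne
      (P := (T : Subgroup _).map (Subgroup.centralizer ({g} : Set G)).subtype) (T.2.map _)
      (by rw [centralizer_singleton_inv]; exact Subgroup.map_subtype_le _)
    have h := Subgroup.card_le_of_le ht
    rw [Subgroup.card_map_of_injective (MulAut.conj t).injective, natCard_sylow_centralizer,
      natCard_defect hM B.2.1 B.2.2, hdef] at h
    exact (Nat.pow_le_pow_iff_right hp.one_lt).1 h
  -- the class of `x i`
  let cl : ι → ConjClasses G := fun i => ConjClasses.mk (x i)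
  have hclinj : Function.Injective cl := fun i j h =>
    hinj i j (ConjClasses.mk_eq_mk_iff_isConj.1 h)
  have hout : ∀ i, IsConj (x i) (cl i).out := fun i =>
    (ConjClasses.mk_eq_mk_iff_isConj.1 (Quotient.out_eq (cl i))).symm
  have hrestrict : ∀ (F : ConjClasses G → ℂ),
      (∀ c, (∀ i, cl i ≠ c) → MemLocalIdeal M (F c)) →
      MemLocalIdeal M ((∑ c, F c) - ∑ i, F (cl i)) := by
    intro F hF
    have h : ∑ i, F (cl i) = ∑ c ∈ Finset.univ.image cl, F c :=
      (Finset.sum_image (fun i _ j _ h => hclinj h)).symm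
    rw [h, ← Finset.sum_sdiff (Finset.subset_univ (Finset.univ.image cl)), add_sub_cancel_right]
    exact Blocks.MemLocalIdeal.sum hM _ fun c hc => hF c fun i hi =>
      (Finset.mem_sdiff.1 hc).2 (Finset.mem_image.2 ⟨i, Finset.mem_univ i, hi⟩)
  have hconjinv : ∀ y z : G, IsConj y z → IsConj y⁻¹ z⁻¹ := fun y z hyz => by
    obtain ⟨c, hc⟩ := isConj_iff.1 hyz
    exact isConj_iff.2 ⟨c, by rw [← hc]; group⟩
  have hωR : ∀ (B : BD) (g : G), centralChar (χB B : G → ℂ) g ∈ lRing hM :=
    fun B g => Blocks.centralChar_mem_lRing hM _ g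
  let W : Matrix ι BD (ResK M) := Matrix.of fun i B => resK hM ⟨_, hωR B (x i)⁻¹⟩
  let C : Matrix ι BD (ResK M) := Matrix.of fun i B => resK hM ⟨_, hcR B (x i)⁻¹⟩
  -- the coefficient vectors are independent
  have hWC : W.transpose * C = 1 := by
    ext B₁ B₂
    rw [Matrix.mul_apply, Matrix.one_apply]
    simp only [W, C, Matrix.transpose_apply, Matrix.of_apply, ← map_mul, ← map_sum]
    have hsum : (∑ c : ConjClasses G, centralChar (χB B₁ : G → ℂ) c.out⁻¹ *
        blockCoeff B₂.1 c.out⁻¹) = if χB B₁ ∈ B₂.1 then 1 else 0 := by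
      have h1 := Blocks.omega_eq_sum_classes (χB B₁) (Blocks.blockIdem_mem_center B₂.1)
      rw [Blocks.omega_blockIdem] at h1
      let ee : ConjClasses G → ConjClasses G := fun c => ConjClasses.mk c.out⁻¹
      have houty : ∀ y : G, IsConj (ConjClasses.mk y).out y := fun y =>
        ConjClasses.mk_eq_mk_iff_isConj.1 (Quotient.out_eq _)
      have hinv : Function.Involutive ee := fun c => by
        simp only [ee]
        conv_rhs => rw [← Quotient.out_eq c]
        refine ConjClasses.mk_eq_mk_iff_isConj.2 ?_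
        have := hconjinv _ _ (houty c.out⁻¹)
        rwa [inv_inv] at this
      refine (Fintype.sum_equiv (hinv.toPerm ee) _
        (fun c : ConjClasses G => (Blocks.blockIdem B₂.1).coeff c.out *
          centralChar (χB B₁ : G → ℂ) c.out) fun c => ?_).trans ?_
      · simp only [Function.Involutive.coe_toPerm, Blocks.coeff_blockIdem, ee]
        rw [Blocks.blockCoeff_of_isConj B₂.1 (houty c.out⁻¹),
          Blocks.centralChar_of_isConj (χB B₁) (houty c.out⁻¹), mul_comm]
      · convert h1.symm
    have hkey : MemLocalIdeal M ((∑ i, centralChar (χB B₁ : G → ℂ) (x i)⁻¹ *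
        blockCoeff B₂.1 (x i)⁻¹) - if χB B₁ ∈ B₂.1 then 1 else 0) := by
      have h2 := hrestrict (fun c => centralChar (χB B₁ : G → ℂ) c.out⁻¹ *
        blockCoeff B₂.1 c.out⁻¹) fun c hc => by
        by_contra hne
        have hn1 : ¬ MemLocalIdeal M (blockCoeff B₂.1 c.out⁻¹) := fun h =>
          hne (Blocks.MemLocalIdeal.mul_left hM (hωR B₁ _) h)
        have hn2 : ¬ MemLocalIdeal M (centralChar (χB B₁ : G → ℂ) c.out⁻¹) := fun h =>
          hne (Blocks.MemLocalIdeal.mul_right hM h (hcR B₂ _))
        have hge := blockDefect_le hM B₁.2.1 fun ψ hψ =>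
          centralChar_unit_iff hM B₁.2.1 (hχB B₁) hψ _ hn2
        rw [hdef, centralizer_singleton_inv] at hge
        obtain ⟨i, hi⟩ := hfind B₂ c.out hn1 hge
        exact hc i ((ConjClasses.mk_eq_mk_iff_isConj.2 hi).trans (Quotient.out_eq c))
      rw [hsum] at h2
      have hi : ∀ i, centralChar (χB B₁ : G → ℂ) (cl i).out⁻¹ * blockCoeff B₂.1 (cl i).out⁻¹ =
          centralChar (χB B₁ : G → ℂ) (x i)⁻¹ * blockCoeff B₂.1 (x i)⁻¹ := fun i => by
        rw [Blocks.centralChar_of_isConj (χB B₁) (hconjinv _ _ (hout i)),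
          Blocks.blockCoeff_of_isConj B₂.1 (hconjinv _ _ (hout i))]
      rw [Finset.sum_congr rfl (fun i _ => hi i)] at h2
      simpa using Blocks.MemLocalIdeal.neg hM h2
    by_cases hB : B₁ = B₂
    · rw [if_pos hB]
      rw [if_pos (hB ▸ hχB B₁)] at hkey
      rw [← map_one (resK hM), resK_eq_iff]
      simpa only [AddSubmonoidClass.coe_finsetSum, MulMemClass.coe_mul, OneMemClass.coe_one]
        using hkey
    · rw [if_neg hB]
      rw [if_neg (fun h => hB (huniq _ B₁ B₂ (hχB B₁) h)), sub_zero] at hkey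
      refine (resK_eq_zero_iff hM _).2 ?_
      simpa only [AddSubmonoidClass.coe_finsetSum, MulMemClass.coe_mul] using hkey
  -- the transpose acts on them by units
  let u : ι → ResK M := fun j => resK hM ⟨(classUnit p (x j) : ℂ), natCast_mem _ _⟩
  have hu : ∀ j, u j ≠ 0 := fun j h => classUnit_not_dvd (x j)
    ((Blocks.memLocalIdeal_natCast_iff hM _).1 ((resK_eq_zero_iff hM _).1 h))
  have hAC : Abar.transpose * C = Matrix.diagonal u * C := by
    ext j B
    rw [Matrix.mul_apply, show (Matrix.diagonal u * C) j B = u j * C j B by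
      simp [Matrix.mul_apply, Matrix.diagonal_apply, ite_mul]]
    simp only [Abar, C, u, Matrix.transpose_apply, Matrix.of_apply, ← map_mul, ← map_sum,
      resK_eq_iff]
    simp only [AddSubmonoidClass.coe_finsetSum, MulMemClass.coe_mul]
    have h2 := hrestrict (fun c => blockCoeff B.1 c.out⁻¹ * redCount S c.out (x j)) fun c hc => by
      by_contra hne
      have hn1 : ¬ MemLocalIdeal M (blockCoeff B.1 c.out⁻¹) := fun h =>
        hne (Blocks.MemLocalIdeal.mul_right hM h (hRmem _ _))
      rcases (hle_of B c.out hn1).lt_or_eq with hlt | heq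
      · exact hne (Blocks.MemLocalIdeal.mul_left hM (hcR B _)
          (redCount_mem_ideal hM S (by rwa [hxe j])))
      · obtain ⟨i, hi⟩ := hfind B c.out hn1 heq.ge
        exact hc i ((ConjClasses.mk_eq_mk_iff_isConj.2 hi).trans (Quotient.out_eq c))
    rw [sum_blockCoeff_mul_redCount hM S B.2.1 (hreg j)] at h2
    have hi : ∀ i, blockCoeff B.1 (cl i).out⁻¹ * redCount S (cl i).out (x j) =
        redCount S (x i) (x j) * blockCoeff B.1 (x i)⁻¹ := fun i => by
      rw [Blocks.blockCoeff_of_isConj B.1 (hconjinv _ _ (hout i)), mul_comm]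
      congr 1
      simp only [redCount, Blocks.centralChar_of_isConj _ (hconjinv _ _ (hout i))]
    rw [Finset.sum_congr rfl (fun i _ => hi i)] at h2
    simpa using Blocks.MemLocalIdeal.neg hM h2
  have hCrank : Fintype.card BD ≤ C.rank := by
    calc Fintype.card BD = (W.transpose * C).rank := by rw [hWC, Matrix.rank_one]
      _ ≤ C.rank := Matrix.rank_mul_le_right _ _
  have hlower : Fintype.card BD ≤ Abar.rank := by
    refine hCrank.trans ?_
    rw [← Matrix.rank_mul_eq_right_of_isUnit_det (Matrix.diagonal u) C, ← hAC,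
      ← Matrix.rank_transpose Abar]
    · exact Matrix.rank_mul_le_left _ _
    · rw [Matrix.det_diagonal]
      exact IsUnit.mk0 _ (Finset.prod_ne_zero_iff.2 fun j _ => hu j)
  -- only blocks with defect group `D` contribute
  let red : IrrCharacter G → ℕ := fun χ => charDegree (χ : G → ℂ) / p ^ (a - e)
  let term : IrrCharacter G → BD → ι → ι → ℂ := fun χ B i j =>
    if χ ∈ B.1 then cofInv p G * ((trivMult (S : Subgroup G) χ : ℂ) * ((red χ : ℂ) *
      (centralChar (χB B : G → ℂ) (x i)⁻¹ * centralChar (χB B : G → ℂ) (x j)))) else 0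
  let coefB : BD → ℂ := fun B => ∑ χ : IrrCharacter G, if χ ∈ B.1 then
    cofInv p G * ((trivMult (S : Subgroup G) χ : ℂ) * (red χ : ℂ)) else 0
  have hcoefB : ∀ B, coefB B ∈ lRing hM := fun B => (lRing hM).sum_mem fun χ _ => by
    split_ifs
    · exact (lRing hM).mul_mem (cofInv_mem hM) ((lRing hM).mul_mem (natCast_mem _ _) (natCast_mem _ _))
    · exact (lRing hM).zero_mem
  let V : Matrix BD ι (ResK M) := Matrix.of fun B j =>
    resK hM ⟨_, (lRing hM).mul_mem (hcoefB B) (hωR B (x j))⟩
  have hAWV : Abar = W * V := by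
    ext i j
    rw [Matrix.mul_apply]
    simp only [Abar, W, V, Matrix.of_apply, ← map_mul, ← map_sum, resK_eq_iff]
    simp only [AddSubmonoidClass.coe_finsetSum, MulMemClass.coe_mul]
    have hterm : ∀ B, centralChar (χB B : G → ℂ) (x i)⁻¹ *
        (coefB B * centralChar (χB B : G → ℂ) (x j)) = ∑ χ : IrrCharacter G, term χ B i j := by
      intro B
      simp only [coefB, term, Finset.sum_mul, Finset.mul_sum]
      refine Finset.sum_congr rfl fun χ _ => ?_
      split_ifs <;> ring
    simp only [hterm, redCount, Finset.mul_sum]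
    rw [show (∑ B : BD, ∑ χ : IrrCharacter G, term χ B i j) =
        ∑ χ : IrrCharacter G, ∑ B : BD, term χ B i j from Finset.sum_comm, ← Finset.sum_sub_distrib]
    refine Blocks.MemLocalIdeal.sum hM _ fun χ _ => ?_
    set B₀ := blockOf M (χ : G → ℂ) with hB₀def
    have hB₀ : IsPBlock M B₀ := Blocks.isPBlock_blockOf χ
    have hχ₀ : χ ∈ B₀ := Blocks.mem_blockOf_self hM χ
    have hRcl : ∀ g, MemLocalRing M ((classUnit p g : ℂ) * (χ : G → ℂ) g) := fun g =>
      (lRing hM).mul_mem (natCast_mem _ _) (irr_memLocalRing hM χ g)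
    by_cases hu0 : MemLocalIdeal M (centralChar (χ : G → ℂ) (x i)⁻¹)
    · refine Blocks.MemLocalIdeal.sub hM (Blocks.MemLocalIdeal.mul_left hM (cofInv_mem hM)
        (Blocks.MemLocalIdeal.mul_left hM (natCast_mem (lRing hM) _)
          (Blocks.MemLocalIdeal.mul_right hM hu0 (hRcl _)))) ?_
      refine Blocks.MemLocalIdeal.sum hM _ fun B _ => ?_
      simp only [term]
      split_ifs with hχB'
      · refine Blocks.MemLocalIdeal.mul_left hM (cofInv_mem hM) (Blocks.MemLocalIdeal.mul_left hM
          (natCast_mem (lRing hM) _) (Blocks.MemLocalIdeal.mul_left hM (natCast_mem (lRing hM) _)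
            (Blocks.MemLocalIdeal.mul_right hM ?_ (hωR B _))))
        by_contra h
        exact centralChar_unit_iff hM B.2.1 (hχB B) hχB' _ h hu0
      · exact Blocks.memLocalIdeal_zero hM
    · obtain ⟨D', hD'⟩ := BrauerPairs.exists_defectGroup hM hB₀
      obtain ⟨T, hT⟩ := exists_sylow_of_eq (centralizer_singleton_inv (x i)).symm (hS i)
      obtain ⟨t, ht⟩ := defect_le_sylow hM hB₀ hD' hχ₀ hu0 T
      rw [hT] at ht
      have hcard := Subgroup.card_le_of_le ht
      rw [Subgroup.card_map_of_injective (MulAut.conj t).injective] at hcard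
      have hDpow : Nat.card D = p ^ e := by
        rw [← hT, natCard_sylow_centralizer, centralizer_singleton_inv, hxe]
      rw [natCard_defect hM hB₀ hD', hDpow, Nat.pow_le_pow_iff_right hp.one_lt] at hcard
      obtain ⟨η, hη, hmin⟩ := exists_height_zero hM hB₀
      have hbd := blockDefect_eq hη hmin
      have hbχ := hmin χ hχ₀
      rw [← ha] at hbd
      have hva : (charDegree (η : G → ℂ)).factorization p ≤ a := by
        rw [ha, ← hp.pow_dvd_iff_le_factorization Nat.card_pos.ne']
        exact (Nat.ordProj_dvd _ p).trans (charDegree_irr_dvd_card η)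
      have hdvd : p ^ (a - e) ∣ charDegree (χ : G → ℂ) :=
        (pow_dvd_pow p (by omega)).trans (Nat.ordProj_dvd _ p)
      have hval : (classUnit p (x j) : ℂ) * (χ : G → ℂ) (x j) =
          (red χ : ℂ) * centralChar (χ : G → ℂ) (x j) := by
        apply mul_left_cancel₀ (pow_ne_zero (a - e) (Nat.cast_ne_zero.2 hp.ne_zero : (p : ℂ) ≠ 0))
        rw [← mul_assoc, ← mul_assoc, ← Nat.cast_pow, ← Nat.cast_mul, ← Nat.cast_mul]
        rw [Nat.mul_div_cancel' hdvd]
        have h1 := degree_mul_centralChar χ (x j)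
        rw [index_eq_classUnit (p := p) (x j), hxe, ← ha] at h1
        exact h1.symm
      rw [hval]
      have hea : e ≤ a := by
        have := factorization_card_eq (p := p) (Subgroup.centralizer ({x i} : Set G))
        rw [hxe, ← ha] at this
        omega
      rcases hcard.lt_or_eq with hlt | heq
      · have hred : MemLocalIdeal M (red χ : ℂ) := by
          refine (Blocks.memLocalIdeal_natCast_iff hM _).2 ?_
          have h1 : p ^ (a - e + 1) ∣ charDegree (χ : G → ℂ) :=
            (pow_dvd_pow p (by omega)).trans (Nat.ordProj_dvd _ p)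
          rw [pow_succ] at h1
          exact (Nat.dvd_div_iff_mul_dvd hdvd).2 h1
        refine Blocks.MemLocalIdeal.sub hM (Blocks.MemLocalIdeal.mul_left hM (cofInv_mem hM)
          (Blocks.MemLocalIdeal.mul_left hM (natCast_mem (lRing hM) _)
            (Blocks.MemLocalIdeal.mul_left hM (centralChar_memLocalRing hM χ _)
              (Blocks.MemLocalIdeal.mul_right hM hred (centralChar_memLocalRing hM χ _))))) ?_
        rw [Finset.sum_eq_zero fun B _ => ?_]
        · exact Blocks.memLocalIdeal_zero hM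
        · simp only [term]
          rw [if_neg]
          intro h
          have hBB : B.1 = B₀ := Blocks.IsPBlock.eq_blockOf hM B.2.1 h
          have := hdef B
          rw [hBB] at this
          omega
      · have hD'eq : D' = D.map (MulAut.conj t).toMonoidHom := Subgroup.eq_of_le_of_card_ge ht (by
          rw [Subgroup.card_map_of_injective (MulAut.conj t).injective, natCard_defect hM hB₀ hD',
            hDpow, heq])
        have hDB₀ : IsDefectGroup p M B₀ D := by
          have := isDefectGroup_conj hM hB₀ hD' t⁻¹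
          rw [hD'eq, Subgroup.map_map] at this
          convert this
          ext y
          simp [Subgroup.mem_map, MulAut.conj_apply, mul_assoc]
        set B : BD := ⟨B₀, hB₀, hDB₀⟩
        rw [Finset.sum_eq_single B (fun B' _ hne => ?_) (fun h => absurd (Finset.mem_univ _) h)]
        · simp only [term]
          rw [if_pos (show χ ∈ B.1 from hχ₀)]
          have hs := (Blocks.IsPBlock.mem_iff hM hB₀ hχ₀ (χB B)).1 (hχB B)
          have hc := Blocks.MemLocalIdeal.add hM
            (Blocks.MemLocalIdeal.mul_right hM (hs (x i)⁻¹) (centralChar_memLocalRing hM χ (x j)))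
            (Blocks.MemLocalIdeal.mul_left hM (hωR B (x i)⁻¹) (hs (x j)))
          have := Blocks.MemLocalIdeal.mul_left hM (cofInv_mem (G := G) hM)
            (Blocks.MemLocalIdeal.mul_left hM (natCast_mem (lRing hM) (trivMult (S : Subgroup G) χ))
              (Blocks.MemLocalIdeal.mul_left hM (natCast_mem (lRing hM) (red χ)) hc))
          convert this using 1
          ring
        · simp only [term]
          exact if_neg fun h => hne (huniq χ B' B h hχ₀)
  have hupper : Abar.rank ≤ Fintype.card BD := by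
    rw [hAWV]
    exact (Matrix.rank_mul_le_left _ _).trans (Matrix.rank_le_card_width _)
  rw [Nat.card_eq_fintype_card]
  exact le_antisymm hlower hupper

end CfsgLib.BlockCover
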