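import Cfsg.Agent.Lib.BlockCover.NormalP
import Cfsg.Agent.Lib.BlockCover.Basic
import Cfsg.Agent.Lib.BrauerPairs.Transport

/-!
# Induced blocks from `H` with `P C(P) ≤ H ≤ N(P)`
-/

set_option autoImplicit false
set_option linter.style.haveILetI false
set_option linter.unusedSectionVars false

namespace CfsgLib.BlockCover

open Cfsg MonoidAlgebra CfsgLib.Characters
open CfsgLib.BrauerPairs (brMap fixAlg suppAlg restrA inclA cz)

variable {p : ℕ} {M : Ideal AlgInt} {G : Type*} [Group G] [Fintype G]

variable {P H : Subgroup G} [Fintype H]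

/-- Central characters of `H` vanish modulo `M` off the centraliser of `P`. -/
theorem centralChar_off_centralizer (hM : IsPModular p M) (hP : IsPGroup p P) (hPH : P ≤ H)
    (hHN : H ≤ Subgroup.normalizer (P : Set G)) (ξ : IrrCharacter H) {h : H}
    (hh : (h : G) ∉ Subgroup.centralizer (P : Set G)) :
    MemLocalIdeal M (centralChar (ξ : H → ℂ) h) := by
  haveI : (P.subgroupOf H).Normal := (Subgroup.normal_subgroupOf_iff_le_normalizer hPH).2 hHN
  refine centralChar_mem_ideal_of_not_centralizes hM (P.subgroupOf H)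
    (hP.comap_of_injective _ H.subtype_injective) ξ fun hc => hh fun y hy => ?_
  exact congrArg Subtype.val (hc ⟨y, hPH hy⟩ hy)

/-- Every irreducible character of `H` induces a central character of `G` modulo `M`. -/
theorem exists_induced_char (hM : IsPModular p M) (hP : IsPGroup p P) (hPH : P ≤ H)
    (hCH : Subgroup.centralizer (P : Set G) ≤ H) (hHN : H ≤ Subgroup.normalizer (P : Set G))
    (ξ : IrrCharacter H) :
    ∃ χ : IrrCharacter G, ∀ g : G,
      MemLocalIdeal M (inducedCentralChar H (ξ : H → ℂ) g - centralChar (χ : G → ℂ) g) := by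
  classical
  haveI := hM.2.1
  haveI := Fact.mk hM.1
  letI : Field (AlgInt ⧸ M) := Ideal.Quotient.field M
  haveI : CharP (AlgInt ⧸ M) p := Blocks.charP_residue hM
  let k := AlgInt ⧸ M
  let T : MonoidAlgebra k G → MonoidAlgebra k H := fun z => restrA k H (brMap k P z)
  have hsupp : ∀ z : MonoidAlgebra k G, brMap k P z ∈ suppAlg k H := fun z =>
    BrauerPairs.suppAlg_mono hCH (BrauerPairs.brMap_mem_suppAlg P z)
  have hfix : ∀ z : Subalgebra.center k (MonoidAlgebra k G), ∀ L : Subgroup G,
      (z : MonoidAlgebra k G) ∈ fixAlg k L := fun z L =>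
    BrauerPairs.mem_fixAlg_iff_coeff.2 fun g _ x => (Blocks.mem_center_iff_coeff _).1 z.2 x g
  have hcen : ∀ z : Subalgebra.center k (MonoidAlgebra k G),
      T z ∈ Subalgebra.center k (MonoidAlgebra k H) := by
    intro z
    rw [Blocks.mem_center_iff_coeff]
    intro a b
    simp only [T, BrauerPairs.coeff_restrA]
    exact BrauerPairs.mem_fixAlg_iff_coeff.1
      (BrauerPairs.brMap_mem_fixAlg hHN (hfix z H)) b b.2 a
  have hmul : ∀ a b : Subalgebra.center k (MonoidAlgebra k G),
      T ((a : MonoidAlgebra k G) * b) = T a * T b := by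
    intro a b
    apply BrauerPairs.inclA_injective H
    simp only [T]
    rw [map_mul (inclA k H), BrauerPairs.inclA_restrA (hsupp _), BrauerPairs.inclA_restrA (hsupp _),
      BrauerPairs.inclA_restrA (hsupp _), BrauerPairs.brMap_mul hP (hfix a P) (hfix b P)]
  have hone : T 1 = 1 := by
    apply BrauerPairs.inclA_injective H
    simp only [T]
    rw [BrauerPairs.inclA_restrA (hsupp _), map_one (inclA k H), BrauerPairs.brMap_one]
  have hlin : ∀ (r : k) (z : MonoidAlgebra k G), T (r • z) = r • T z := by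
    intro r z
    ext x
    simp [T, map_smul, BrauerPairs.coeff_restrA]
  let ψ : Subalgebra.center k (MonoidAlgebra k G) →ₐ[k] Subalgebra.center k (MonoidAlgebra k H) :=
    { toFun := fun z => ⟨T z, hcen z⟩
      map_one' := Subtype.ext hone
      map_mul' := fun a b => Subtype.ext (hmul a b)
      map_zero' := Subtype.ext (by ext x; simp [T, BrauerPairs.coeff_restrA])
      map_add' := fun a b => Subtype.ext (by ext x; simp [T, BrauerPairs.coeff_restrA])
      commutes' := fun r => Subtype.ext (by
        change T (algebraMap k (MonoidAlgebra k G) r) = algebraMap k (MonoidAlgebra k H) r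
        rw [Algebra.algebraMap_eq_smul_one, Algebra.algebraMap_eq_smul_one, hlin, hone]) }
  obtain ⟨χ, hχ⟩ := Blocks.exists_eq_lamB hM ((Blocks.lamB hM ξ).comp ψ)
  refine ⟨χ, fun g => ?_⟩
  let f : H → ℂ := fun h => if IsConj g (h : G) then 1 else 0
  have hf : IsClassFunction H f := fun a b => by
    simp only [f, Subgroup.coe_mul, Subgroup.coe_inv, Blocks.isConj_conj_iff]
  have hfR : ∀ h, MemLocalRing M (f h) := fun h => by
    simp only [f]; split_ifs
    · exact (Blocks.lRing hM).one_mem
    · exact (Blocks.lRing hM).zero_mem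
  have hw : MemLocalRing M (inducedCentralChar H (ξ : H → ℂ) g) := by
    rw [inducedCentralChar_eq_sum]
    exact omega_mem hM ξ hf hfR
  rw [← Blocks.lResD_eq_iff hM hw (Blocks.centralChar_mem_lRing hM χ g), ← Blocks.lamB_classSum,
    ← hχ, AlgHom.comp_apply, Blocks.lamB_apply, Blocks.lamFun, inducedCentralChar_eq_sum]
  have h1 := Blocks.omega_eq_sum_classes ξ (ofFun_mem_center hf)
  rw [Blocks.omega_ofFun] at h1
  simp only [Blocks.coeff_ofFun] at h1
  rw [show (∑ h : H, (if IsConj g (h : G) then (1 : ℂ) else 0) * (ξ : H → ℂ) h) /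
    (ξ : H → ℂ) 1 = _ from h1]
  refine (Blocks.lResD_sum hM (f := fun c : ConjClasses H =>
    f c.out * centralChar (ξ : H → ℂ) c.out) _ fun c _ =>
      (Blocks.lRing hM).mul_mem (hfR _) (Blocks.centralChar_mem_lRing hM ξ _)).trans ?_
  refine Finset.sum_congr rfl fun c _ => ?_
  beta_reduce
  rw [Blocks.lResD_mul hM (hfR _) (Blocks.centralChar_mem_lRing hM ξ _)]
  change _ = (restrA k H (brMap k P (Blocks.classSum k g))).coeff c.out * _
  rw [BrauerPairs.coeff_restrA]
  by_cases hc : ((c.out : H) : G) ∈ cz P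
  · rw [BrauerPairs.coeff_brMap_of_mem _ hc, Blocks.coeff_classSum]
    simp only [f]
    congr 1
    by_cases hg : IsConj g ((c.out : H) : G)
    · rw [if_pos hg, if_pos hg, Blocks.lResD_one]
    · rw [if_neg hg, if_neg hg, Blocks.lResD_zero]
  · rw [BrauerPairs.coeff_brMap_of_notMem _ hc,
      (Blocks.lResD_eq_zero_iff hM (Blocks.centralChar_mem_lRing hM ξ _)).2
        (centralChar_off_centralizer hM hP hPH hHN ξ hc), mul_zero, zero_mul]

/-- A block of `H` induces `B` exactly when `B` is not killed by the Brauer map at `P`. -/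
theorem exists_induced_iff (hM : IsPModular p M) (hP : IsPGroup p P) (hPH : P ≤ H)
    (hCH : Subgroup.centralizer (P : Set G) ≤ H) (hHN : H ≤ Subgroup.normalizer (P : Set G))
    {B : Set (IrrCharacter G)} (hB : IsPBlock M B) :
    (∃ b : Set (IrrCharacter H), IsInducedBlock M H b B) ↔
      ∃ g ∈ Subgroup.centralizer (P : Set G), ¬ MemLocalIdeal M (blockCoeff B g) := by
  classical
  have hcl : IsClassFunction H fun h : H => blockCoeff B (h : G) := fun a b => by
    simp only [Subgroup.coe_mul, Subgroup.coe_inv]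
    exact isClassFunction_blockCoeff B _ _
  have hR := fun x => Blocks.memLocalRing_blockCoeff hM hB x
  constructor
  · rintro ⟨b, hb, -, hind⟩
    by_contra hcon
    push Not at hcon
    obtain ⟨ξ, hξ⟩ := Blocks.IsPBlock.nonempty hM hb
    obtain ⟨χ, hχ⟩ := Blocks.IsPBlock.nonempty hM hB
    apply Blocks.not_memLocalIdeal_one hM
    have h := sum_mul_congr_induced H hM ξ χ (hind ξ hξ χ hχ) (isClassFunction_blockCoeff B) hR
    rw [sum_blockCoeff_mul, if_pos hχ] at h
    have h1 := Blocks.omega_eq_sum_classes ξ (ofFun_mem_center hcl)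
    rw [Blocks.omega_ofFun] at h1
    simp only [Blocks.coeff_ofFun] at h1
    rw [h1] at h
    have h2 : MemLocalIdeal M (∑ c : ConjClasses H,
        blockCoeff B ((c.out : H) : G) * centralChar (ξ : H → ℂ) c.out) := by
      refine Blocks.MemLocalIdeal.sum hM _ fun c _ => ?_
      by_cases hc : ((c.out : H) : G) ∈ Subgroup.centralizer (P : Set G)
      · exact Blocks.MemLocalIdeal.mul_right hM (hcon _ hc) (Blocks.centralChar_mem_lRing hM ξ _)
      · exact Blocks.MemLocalIdeal.mul_left hM (hR _)
          (centralChar_off_centralizer hM hP hPH hHN ξ hc)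
    have h5 := Blocks.MemLocalIdeal.sub hM h2 h
    convert h5 using 1
    refine eq_sub_of_add_eq ?_
    rw [← eq_sub_iff_add_eq']
    congr 1
    congr!
  · rintro ⟨g, hg, hne⟩
    haveI := hM.2.1
    haveI := Fact.mk hM.1
    letI : Field (AlgInt ⧸ M) := Ideal.Quotient.field M
    haveI : CharP (AlgInt ⧸ M) p := Blocks.charP_residue hM
    let k := AlgInt ⧸ M
    set e := Blocks.blockIdemRes hM B
    have he := (Blocks.isIdempotentElem_blockIdemRes hM hB)
    have hfixP : e ∈ fixAlg k P := BrauerPairs.mem_fixAlg_iff_coeff.2 fun u _ x =>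
      (Blocks.mem_center_iff_coeff _).1 (Blocks.blockIdemRes_mem_center hM B) x u
    have hfixH : e ∈ fixAlg k H := BrauerPairs.mem_fixAlg_iff_coeff.2 fun u _ x =>
      (Blocks.mem_center_iff_coeff _).1 (Blocks.blockIdemRes_mem_center hM B) x u
    set a := restrA k H (brMap k P e) with ha
    have hs : brMap k P e ∈ suppAlg k H :=
      BrauerPairs.suppAlg_mono hCH (BrauerPairs.brMap_mem_suppAlg P e)
    have hac : a ∈ Subalgebra.center k (MonoidAlgebra k H) := by
      rw [Blocks.mem_center_iff_coeff]
      intro x y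
      simp only [a, BrauerPairs.coeff_restrA]
      exact BrauerPairs.mem_fixAlg_iff_coeff.1 (BrauerPairs.brMap_mem_fixAlg hHN hfixH) y y.2 x
    have haa : IsIdempotentElem (⟨a, hac⟩ : Subalgebra.center k (MonoidAlgebra k H)) := by
      refine Subtype.ext (BrauerPairs.inclA_injective H ?_)
      change inclA k H (a * a) = inclA k H a
      rw [map_mul, ha, BrauerPairs.inclA_restrA hs, ← BrauerPairs.brMap_mul hP hfixP hfixP, he]
    have hne' : ∃ ξ : IrrCharacter H, Blocks.lamB hM ξ ⟨a, hac⟩ ≠ 0 := by
      by_contra hall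
      push Not at hall
      obtain ⟨n, hn⟩ := Blocks.isNilpotent_of_lamB_eq_zero hM hall
      have h0 : a = 0 := by
        have hz : (⟨a, hac⟩ : Subalgebra.center k (MonoidAlgebra k H)) = 0 := by
          rcases Nat.eq_zero_or_pos n with h | h
          · rw [h, pow_zero] at hn
            rw [← mul_one (⟨a, hac⟩ : Subalgebra.center k (MonoidAlgebra k H)), hn, mul_zero]
          · rwa [← Nat.succ_pred_eq_of_pos h, haa.pow_succ_eq] at hn
        exact congrArg Subtype.val hz
      have h3 : a.coeff ⟨g, hCH hg⟩ = Blocks.lResD hM (blockCoeff B g) := by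
        rw [ha, BrauerPairs.coeff_restrA, BrauerPairs.coeff_brMap_of_mem _ hg,
          Blocks.coeff_blockIdemRes]
      rw [h0, MonoidAlgebra.coeff_zero, Finsupp.zero_apply] at h3
      exact hne ((Blocks.lResD_eq_zero_iff hM (hR g)).1 h3.symm)
    obtain ⟨ξ, hξ⟩ := hne'
    obtain ⟨χ, hχ⟩ := exists_induced_char hM hP hPH hCH hHN ξ
    refine ⟨blockOf M (ξ : H → ℂ), Blocks.isPBlock_blockOf ξ, hB, fun ξ' hξ' χ' hχ' x => ?_⟩
    have hχB : χ ∈ B := by
      by_contra hn
      apply hξ
      have h := sum_mul_congr_induced H hM ξ χ hχ (isClassFunction_blockCoeff B) hR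
      rw [sum_blockCoeff_mul, if_neg hn, sub_zero] at h
      have h1 := Blocks.omega_eq_sum_classes ξ (ofFun_mem_center hcl)
      rw [Blocks.omega_ofFun] at h1
      simp only [Blocks.coeff_ofFun] at h1
      rw [h1] at h
      rw [← (Blocks.lResD_eq_zero_iff hM (Blocks.MemLocalIdeal.memLocalRing h)).2 h,
        Blocks.lamB_apply, Blocks.lamFun]
      refine Eq.trans ?_ (Blocks.lResD_sum hM (f := fun c : ConjClasses H =>
        blockCoeff B ((c.out : H) : G) * centralChar (ξ : H → ℂ) c.out) _ fun c _ =>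
          (Blocks.lRing hM).mul_mem (hR _) (Blocks.centralChar_mem_lRing hM ξ _)).symm
      refine Finset.sum_congr rfl fun c _ => ?_
      beta_reduce
      rw [Blocks.lResD_mul hM (hR _) (Blocks.centralChar_mem_lRing hM ξ _)]
      change a.coeff c.out * _ = _
      rw [ha, BrauerPairs.coeff_restrA]
      by_cases hc : ((c.out : H) : G) ∈ cz P
      · rw [BrauerPairs.coeff_brMap_of_mem _ hc, Blocks.coeff_blockIdemRes]
      · rw [BrauerPairs.coeff_brMap_of_notMem _ hc,
          (Blocks.lResD_eq_zero_iff hM (Blocks.centralChar_mem_lRing hM ξ _)).2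
            (centralChar_off_centralizer hM hP hPH hHN ξ hc), mul_zero, mul_zero]
    have h1 := inducedCentralChar_congr H hM hξ' x
    have h2 := (Blocks.IsPBlock.mem_iff hM hB hχB χ').1 hχ' x
    have h3 := Blocks.MemLocalIdeal.sub hM (hχ x) h1
    have h4 := Blocks.MemLocalIdeal.add hM h3 h2
    simpa using h4

end CfsgLib.BlockCover
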