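import Cfsg.Agent.Lib.BlockCover.DefectGroup
import Cfsg.Agent.Lib.Blocks.DefectZeroVanish
import Cfsg.Agent.Lib.Blocks.FirstMain
import Cfsg.Agent.Lib.Characters.Generalized
import Cfsg.Agent.Lib.BlockCover.NormalP

/-! # Characters of the greatest degree allowed by a centralised normal `p`-subgroup

`P` is a normal `p`-subgroup centralised by the `p`-regular elements and `χ` is an irreducible
character with `χ(1) · b · |P| = |G|` for some `b` prime to `p`.
-/

set_option autoImplicit false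
open Cfsg
open CfsgLib.Characters CfsgLib.CharCorr
open scoped ComplexConjugate

namespace CfsgLib.CentralDefect

universe u

variable {G : Type u} [Group G] {p : ℕ} (P : Subgroup G)

/-- The `p`-part in `P`, if there is one. -/
def HasPart (p : ℕ) (g : G) (u : P) : Prop := ¬ p ∣ orderOf ((u : G)⁻¹ * g)

variable {P}

theorem mem_zpowers_of_hasPart [Finite G] [hp : Fact p.Prime] (hP : IsPGroup p P)
    (hc : ∀ y : G, ¬ p ∣ orderOf y → ∀ u ∈ P, Commute u y) {g : G} {u : P} (h : HasPart P p g u) :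
    (u : G) ∈ Subgroup.zpowers g := by
  set y := (u : G)⁻¹ * g with hy
  have huy : Commute (u : G) y := hc y h u u.2
  have hg : g = (u : G) * y := by rw [hy]; group
  obtain ⟨k, hk⟩ := IsPGroup.iff_orderOf.1 hP u
  rw [← Subgroup.orderOf_coe] at hk
  have hcop : Nat.Coprime (orderOf y) (orderOf (u : G)) := by
    rw [hk]
    exact Nat.Coprime.pow_right k (hp.out.coprime_iff_not_dvd.2 h).symm
  obtain ⟨m, hm⟩ := exists_pow_eq_self_of_coprime (x := (u : G)) hcop
  rw [← hm, show (u : G) ^ orderOf y = g ^ orderOf y by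
    rw [hg, huy.mul_pow, pow_orderOf_eq_one, mul_one]]
  exact Subgroup.pow_mem _ (Subgroup.pow_mem _ (Subgroup.mem_zpowers g) _) _

theorem hasPart_unique [Finite G] [hp : Fact p.Prime] (hP : IsPGroup p P)
    (hc : ∀ y : G, ¬ p ∣ orderOf y → ∀ u ∈ P, Commute u y) {g : G} {u v : P}
    (hu : HasPart P p g u) (hv : HasPart P p g v) : u = v := by
  obtain ⟨i, hi⟩ := Subgroup.mem_zpowers_iff.1 (mem_zpowers_of_hasPart hP hc hu)
  obtain ⟨j, hj⟩ := Subgroup.mem_zpowers_iff.1 (mem_zpowers_of_hasPart hP hc hv)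
  have hcomm : Commute ((v : G)⁻¹ * g) ((u : G)⁻¹ * g)⁻¹ := by
    rw [← hi, ← hj]
    exact ((((Commute.zpow_zpow_self g j i).inv_inv).mul_right
      ((Commute.zpow_self g j).inv_left)).mul_left
      (((Commute.self_zpow g i).inv_right).mul_right (Commute.refl g))).inv_right
  have hw : ((v⁻¹ * u : P) : G) = ((v : G)⁻¹ * g) * ((u : G)⁻¹ * g)⁻¹ := by
    simp only [Subgroup.coe_mul, Subgroup.coe_inv]; group
  obtain ⟨k, hk⟩ := IsPGroup.iff_orderOf.1 hP (v⁻¹ * u)
  rw [← Subgroup.orderOf_coe, hw] at hk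
  have hnd : ¬ p ∣ orderOf (((v : G)⁻¹ * g) * ((u : G)⁻¹ * g)⁻¹) := fun hd => by
    rcases hp.out.dvd_mul.1 (hd.trans (hcomm.orderOf_mul_dvd_mul_orderOf)) with h | h
    · exact hv h
    · exact hu (by rwa [orderOf_inv] at h)
  have h0 : k = 0 := by
    by_contra h0
    exact hnd (hk ▸ dvd_pow_self p h0)
  rw [h0, pow_zero, orderOf_eq_one_iff, ← hw] at hk
  have : v⁻¹ * u = 1 := Subtype.ext hk
  exact (inv_mul_eq_one.1 this).symm

variable (P)

open scoped Classical in
/-- `ζ` on `P` times `f` on the `p`-regular elements, zero elsewhere. -/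
noncomputable def pExt (p : ℕ) (ζ : P → ℂ) (f : G → ℂ) (g : G) : ℂ :=
  if h : ∃ u : P, HasPart P p g u then ζ h.choose * f ((h.choose : G)⁻¹ * g) else 0

variable {P}

theorem pExt_mul [Finite G] [hp : Fact p.Prime] (hP : IsPGroup p P)
    (hc : ∀ y : G, ¬ p ∣ orderOf y → ∀ u ∈ P, Commute u y) (ζ : P → ℂ) (f : G → ℂ) (u : P) {y : G}
    (hy : ¬ p ∣ orderOf y) : pExt P p ζ f ((u : G) * y) = ζ u * f y := by
  have hu : HasPart P p ((u : G) * y) u := by rwa [HasPart, inv_mul_cancel_left]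
  have h : ∃ v : P, HasPart P p ((u : G) * y) v := ⟨u, hu⟩
  rw [pExt, dif_pos h, hasPart_unique hP hc h.choose_spec hu, inv_mul_cancel_left]

theorem pExt_eq_zero (ζ : P → ℂ) (f : G → ℂ) {g : G} (h : ¬ ∃ u : P, HasPart P p g u) :
    pExt P p ζ f g = 0 := by
  rw [pExt, dif_neg h]

theorem isClassFunction_pExt [Finite G] [hp : Fact p.Prime] [hPn : P.Normal] (hP : IsPGroup p P)
    (hc : ∀ y : G, ¬ p ∣ orderOf y → ∀ u ∈ P, Commute u y) {ζ : P → ℂ} {f : G → ℂ}
    (hζ : ∀ (g : G) (u : P), ζ ⟨g * u * g⁻¹, hPn.conj_mem u u.2 g⟩ = ζ u)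
    (hf : IsClassFunction G f) : IsClassFunction G (pExt P p ζ f) := by
  intro g t
  by_cases h : ∃ u : P, HasPart P p g u
  · obtain ⟨u, hu⟩ := h
    have hy : ¬ p ∣ orderOf (t * ((u : G)⁻¹ * g) * t⁻¹) := by
      rwa [show orderOf (t * ((u : G)⁻¹ * g) * t⁻¹) = orderOf ((u : G)⁻¹ * g) from
        (MulAut.conj t).orderOf_eq _]
    have h1 := pExt_mul hP hc ζ f u hu
    rw [mul_inv_cancel_left] at h1
    have h2 := pExt_mul hP hc ζ f ⟨t * u * t⁻¹, hPn.conj_mem u u.2 t⟩ hy
    rw [show (t * (u : G) * t⁻¹) * (t * ((u : G)⁻¹ * g) * t⁻¹) = t * g * t⁻¹ by group] at h2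
    rw [h1, h2, hζ, hf]
  · rw [pExt_eq_zero ζ f h, pExt_eq_zero]
    rintro ⟨u, hu⟩
    refine h ⟨⟨t⁻¹ * u * t, by simpa using hPn.conj_mem u u.2 t⁻¹⟩, ?_⟩
    have : (t⁻¹ * (u : G) * t)⁻¹ * g = t⁻¹ * ((u : G)⁻¹ * (t * g * t⁻¹)) * (t⁻¹)⁻¹ := by group
    rw [HasPart, this,
      show orderOf (t⁻¹ * ((u : G)⁻¹ * (t * g * t⁻¹)) * (t⁻¹)⁻¹) = orderOf ((u : G)⁻¹ * (t * g * t⁻¹))
        from (MulAut.conj t⁻¹).orderOf_eq _]
    exact hu

/-- Sums supported on the elements with a `p`-part in `P`. -/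
theorem sum_eq_sum_prod [Fintype G] [hp : Fact p.Prime] (hP : IsPGroup p P) [Fintype P]
    (hc : ∀ y : G, ¬ p ∣ orderOf y → ∀ u ∈ P, Commute u y) (F : G → ℂ)
    (hF : ∀ g, (¬ ∃ u : P, HasPart P p g u) → F g = 0) :
    ∑ g : G, F g = ∑ u : P, ∑ y ∈ Finset.univ.filter (fun y : G => ¬ p ∣ orderOf y), F (u * y) := by
  classical
  have h1 : ∀ g : G, F g = ∑ u : P, if HasPart P p g u then F g else 0 := fun g => by
    by_cases h : ∃ u : P, HasPart P p g u
    · obtain ⟨u, hu⟩ := h
      rw [Finset.sum_eq_single u (fun v _ hv => if_neg fun hv' => hv (hasPart_unique hP hc hv' hu))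
        (fun h' => absurd (Finset.mem_univ _) h'), if_pos hu]
    · rw [hF g h, Finset.sum_eq_zero fun u _ => by split_ifs <;> rfl]
  rw [Finset.sum_congr rfl fun g _ => h1 g, Finset.sum_comm]
  refine Finset.sum_congr rfl fun u _ => ?_
  rw [Finset.sum_filter, ← Equiv.sum_comp (Equiv.mulLeft (u : G))]
  refine Finset.sum_congr rfl fun y _ => ?_
  simp [HasPart]

variable [Fintype G] [hp : Fact p.Prime]

/-- The inner product with a linear character of an elementary subgroup is integral. -/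
theorem exists_int_inner_pExt [hPn : P.Normal] (hP : IsPGroup p P)
    (hc : ∀ y : G, ¬ p ∣ orderOf y → ∀ u ∈ P, Commute u y) {ζ : P → ℂ} (hζ : IsCharacter P ζ)
    (χ : IrrCharacter G) {b : ℕ} (hb : ¬ p ∣ b)
    (hχb : charDegree (χ : G → ℂ) * b * Nat.card P = Nat.card G) (E : Subgroup G) [Fintype E]
    {q : ℕ} (hq : q.Prime) (hE : IsElementary q E) (l : E →* ℂˣ) :
    ∃ z : ℤ, classInner (fun e : E => pExt P p ζ (χ : G → ℂ) e) (fun e => (l e : ℂ)) = (z : ℂ) := by
  classical
  obtain ⟨S, hScard, hmem, ⟨a, ha⟩, hcent⟩ := DefectZeroVanish.elementary_split (p := p) hq hE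
  let _ := Fintype.ofFinite S
  let _ := Fintype.ofFinite P
  set D := P.subgroupOf E with hD
  let _ := Fintype.ofFinite D
  let ι : D →* P :=
    { toFun := fun d => ⟨((d : E) : G), d.2⟩
      map_one' := rfl
      map_mul' := fun _ _ => rfl }
  obtain ⟨n, hn⟩ := classInner_char_nat
    (CfsgLib.Clifford.isCharacter_subtype (CfsgLib.Clifford.isCharacter_subtype (irr_isCharacter χ) E) S)
    (isCharacter_of_irr (isIrrCharacter_of_hom (l.comp S.subtype)))
  obtain ⟨m, hm⟩ := classInner_char_nat (CfsgLib.Clifford.isCharacter_pullback hζ ι)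
    (isCharacter_of_irr (isIrrCharacter_of_hom (l.comp D.subtype)))
  set Q := S.index with hQ
  have hQ0 : (Q : ℂ) ≠ 0 := Nat.cast_ne_zero.mpr Subgroup.index_ne_zero_of_finite
  have hS0 : (Nat.card S : ℂ) ≠ 0 := Nat.cast_ne_zero.mpr Nat.card_pos.ne'
  have hD0 : (Nat.card D : ℂ) ≠ 0 := Nat.cast_ne_zero.mpr Nat.card_pos.ne'
  rw [classInner, inv_mul_eq_iff_eq_mul₀ hS0] at hn
  rw [classInner, inv_mul_eq_iff_eq_mul₀ hD0] at hm
  have hDp : IsPGroup p D := hP.comap_of_injective E.subtype E.subtype_injective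
  have hcE : ∀ y : E, ¬ p ∣ orderOf y → ∀ d ∈ D, Commute d y := fun y hy d hd =>
    Subtype.ext (hc (y : G) (by rwa [Subgroup.orderOf_coe]) (d : G) hd)
  -- the sum factors
  have hsum : ∑ e : E, pExt P p ζ (χ : G → ℂ) e * conj (l e : ℂ) =
      (∑ d : D, ζ (ι d) * conj (l d : ℂ)) *
        ∑ s : S, (χ : G → ℂ) ((s : E) : G) * conj (l s : ℂ) := by
    have hpart : ∀ e : E, (∃ u : P, HasPart P p (e : G) u) → ∃ d : D, HasPart D p e d := by
      rintro e ⟨u, hu⟩
      have hz := mem_zpowers_of_hasPart hP hc hu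
      have huE : (u : G) ∈ E := (Subgroup.zpowers_le.2 e.2) hz
      refine ⟨⟨⟨u, huE⟩, u.2⟩, ?_⟩
      rw [HasPart, ← Subgroup.orderOf_coe]
      exact hu
    rw [sum_eq_sum_prod (P := D) (p := p) hDp hcE _ fun e he => ?_, Finset.sum_mul]
    swap
    · rw [pExt_eq_zero ζ _ fun h => he (hpart e h), zero_mul]
    refine Finset.sum_congr rfl fun d _ => ?_
    rw [Finset.mul_sum]
    refine (Finset.sum_subtype _ (fun e => by simp [hmem e]) (fun y : E =>
      pExt P p ζ (χ : G → ℂ) ((d : E) * y : E) * conj (l ((d : E) * y) : ℂ))).trans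
      (Finset.sum_congr rfl fun s _ => ?_)
    have hs : ¬ p ∣ orderOf ((s : E) : G) := by
      rw [Subgroup.orderOf_coe]; exact (hmem s).1 s.2
    rw [show (((d : E) * (s : E) : E) : G) = ((ι d : P) : G) * ((s : E) : G) from rfl,
      pExt_mul hP hc ζ _ (ι d) hs, map_mul, Units.val_mul, map_mul]
    ring
  -- integrality
  have hint : IsIntegral ℤ (((b * Nat.card S * (Nat.card D * n) : ℕ) : ℂ) / (Q : ℕ)) := by
    have hterm : ∀ s : S, IsIntegral ℤ
        ((χ : G → ℂ) ((s : E) : G) * (b * Nat.card D) / Q * conj (l s : ℂ)) := by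
      intro s
      refine IsIntegral.mul ?_ ?_
      · set C := Subgroup.centralizer ({((s : E) : G)} : Set G) with hC
        obtain ⟨c, hcc⟩ : Q * Nat.card P ∣ Nat.card C * Nat.card D := by
          set K := (Subgroup.centralizer ({(s : E)} : Set E)).map E.subtype with hK
          have hKC : K ≤ C := by
            rintro _ ⟨z, hz, rfl⟩
            exact Subgroup.mem_centralizer_singleton_iff.2
              (congrArg Subtype.val (Subgroup.mem_centralizer_singleton_iff.mp hz))
          have hs : ¬ p ∣ orderOf ((s : E) : G) := by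
            rw [Subgroup.orderOf_coe]; exact (hmem s).1 s.2
          have hPC : P ≤ C := fun u hu =>
            Subgroup.mem_centralizer_singleton_iff.2 (hc _ hs u hu).eq
          have hDK : Nat.card D = Nat.card (K ⊓ P : Subgroup G) := by
            rw [hD, ← CfsgLib.BlockCover.natCard_map_subtype]
            refine congrArg (fun H : Subgroup G => Nat.card H) ?_
            ext g
            constructor
            · rintro ⟨d, hd, rfl⟩
              exact ⟨⟨d, Subgroup.mem_centralizer_singleton_iff.2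
                (Subtype.ext (hc _ hs (d : G) hd).eq), rfl⟩, hd⟩
            · rintro ⟨⟨z, -, rfl⟩, hz2⟩
              exact ⟨z, hz2, rfl⟩
          have h1 : Q ∣ Nat.card K := by
            rw [hK, Subgroup.card_map_of_injective E.subtype_injective]
            exact hcent s s.2
          -- `|K| |P| ∣ |C| |K ⊓ P|`
          have h2 : Nat.card K * Nat.card P ∣ Nat.card C * Nat.card (K ⊓ P : Subgroup G) := by
            have hPn : (P.subgroupOf (K ⊔ P)).index = P.relIndex K := by
              rw [← Subgroup.relIndex, Subgroup.relIndex_sup_right]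
            have h3 := Subgroup.card_mul_index (P.subgroupOf (K ⊔ P))
            rw [hPn, Nat.card_congr (Subgroup.subgroupOfEquivOfLe (le_sup_right : P ≤ K ⊔ P)).toEquiv]
              at h3
            have h4 := Subgroup.card_mul_index (P.subgroupOf K)
            rw [← Subgroup.inf_subgroupOf_right, Nat.card_congr
              (Subgroup.subgroupOfEquivOfLe (inf_le_right : P ⊓ K ≤ K)).toEquiv] at h4
            rw [Subgroup.inf_subgroupOf_right, ← Subgroup.relIndex, inf_comm] at h4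
            obtain ⟨t, ht⟩ := Subgroup.card_dvd_of_le (sup_le hKC hPC)
            exact ⟨t, by rw [ht, ← h3, ← h4]; ring⟩
          rw [hDK]
          exact dvd_trans (Nat.mul_dvd_mul_right h1 _) h2
        have hω := CfsgLib.ClassCount.centralChar_isIntegral χ ((s : E) : G)
        rw [centralChar, ← hC] at hω
        obtain ⟨d, hd0, hd⟩ := irr_exists_degree χ.2
        have hd' : charDegree (χ : G → ℂ) = d := by simp [charDegree, hd]
        rw [hd', ← Subgroup.index_mul_card C] at hχb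
        rw [hd] at hω
        have hnat : Nat.card P * (d * (b * Nat.card D)) = Nat.card P * (C.index * (Q * c)) := by
          calc Nat.card P * (d * (b * Nat.card D)) = (d * b * Nat.card P) * Nat.card D := by ring
            _ = C.index * (Nat.card C * Nat.card D) := by rw [hχb]; ring
            _ = _ := by rw [hcc]; ring
        have hcast : (d : ℂ) * (b * Nat.card D) = (C.index : ℂ) * ((Q : ℂ) * c) := by
          exact_mod_cast Nat.eq_of_mul_eq_mul_left Nat.card_pos hnat
        have hd0' : (d : ℂ) ≠ 0 := by exact_mod_cast hd0.ne'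
        have heq : (χ : G → ℂ) ((s : E) : G) * (b * Nat.card D) / Q =
            (C.index : ℂ) * (χ : G → ℂ) ((s : E) : G) / d * c := by
          field_simp
          linear_combination ((χ : G → ℂ) ((s : E) : G)) * hcast
        rw [heq]
        exact hω.mul (by simpa using (isIntegral_algebraMap (R := ℤ) (A := ℂ) (x := (c : ℤ))))
      · have h1 : conj (l s : ℂ) = (l (s : E)⁻¹ : ℂ) :=
          (irr_apply_inv ⟨_, isIrrCharacter_of_hom l⟩ (s : E)).symm
        rw [h1]
        refine IsIntegral.of_pow (orderOf_pos ((s : E)⁻¹)) ?_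
        rw [← Units.val_pow_eq_pow_val, ← map_pow, pow_orderOf_eq_one, map_one, Units.val_one]
        exact isIntegral_one
    have hall : ∑ s : S, (χ : G → ℂ) ((s : E) : G) * (b * Nat.card D) / Q * conj (l s : ℂ) =
        ((b * Nat.card S * (Nat.card D * n) : ℕ) : ℂ) / (Q : ℕ) := by
      rw [Finset.sum_congr rfl fun (s : S) _ =>
        show (χ : G → ℂ) ((s : E) : G) * (b * Nat.card D) / Q * conj (l s : ℂ) =
          ((b : ℂ) * Nat.card D) / Q * ((χ : G → ℂ) ((s : E) : G) * conj (l s : ℂ)) by ring,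
        ← Finset.mul_sum]
      rw [show ∑ s : S, (χ : G → ℂ) ((s : E) : G) * conj (l s : ℂ) = (Nat.card S : ℂ) * n from hn]
      push_cast
      ring
    rw [← hall]
    exact IsIntegral.sum _ fun s _ => hterm s
  have hdvd : Q ∣ b * Nat.card S * (Nat.card D * n) :=
    CfsgLib.CharScalar.dvd_of_isIntegral_div Subgroup.index_ne_zero_of_finite hint
  have hQn : Q ∣ Nat.card D * n := by
    refine Nat.Coprime.dvd_of_dvd_mul_left ?_ hdvd
    rw [ha]
    exact Nat.Coprime.pow_left a (hp.out.coprime_iff_not_dvd.mpr fun h =>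
      (hp.out.dvd_mul.mp h).elim hb hScard)
  obtain ⟨r, hr⟩ := hQn
  refine ⟨(m * r : ℕ), ?_⟩
  rw [classInner, hsum,
    show ∑ s : S, (χ : G → ℂ) ((s : E) : G) * conj (l s : ℂ) = (Nat.card S : ℂ) * n from hn,
    show ∑ d : D, ζ (ι d) * conj (l d : ℂ) = (Nat.card D : ℂ) * m from hm,
    ← Subgroup.card_mul_index S, ← hQ]
  have hr' : (Nat.card D : ℂ) * n = (Q : ℂ) * r := by exact_mod_cast hr
  push_cast
  field_simp
  linear_combination (m : ℂ) * hr'

/-- The extension is a generalized character. -/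
theorem isGeneralized_pExt [hPn : P.Normal] (hP : IsPGroup p P)
    (hc : ∀ y : G, ¬ p ∣ orderOf y → ∀ u ∈ P, Commute u y) {ζ : P → ℂ} (hζ : IsCharacter P ζ)
    (hζc : ∀ (g : G) (u : P), ζ ⟨g * u * g⁻¹, hPn.conj_mem u u.2 g⟩ = ζ u)
    (χ : IrrCharacter G) {b : ℕ} (hb : ¬ p ∣ b)
    (hχb : charDegree (χ : G → ℂ) * b * Nat.card P = Nat.card G) :
    IsGeneralizedCharacter G (pExt P p ζ (χ : G → ℂ)) := by
  classical
  have hfc := isClassFunction_pExt hP hc hζc (irr_isClassFunction χ)
  refine isGeneralizedCharacter_iff.2 ⟨hfc, fun ψ => ?_⟩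
  have hint : ∀ F ∈ CfsgLib.Brauer.brauerSpan G,
      ∃ z : ℤ, classInner (pExt P p ζ (χ : G → ℂ)) F = (z : ℂ) := by
    intro F hF
    induction hF using AddSubgroup.closure_induction with
    | mem x hx =>
      obtain ⟨E, q, l, hq, hE, rfl⟩ := hx
      let _ := Fintype.ofFinite E
      rw [CfsgLib.Induction.classInner_indFun_right E _ hfc]
      exact exists_int_inner_pExt hP hc hζ χ hb hχb E hq hE l
    | zero => exact ⟨0, by simp [classInner]⟩
    | add x y _ _ hx hy =>
      obtain ⟨a, ha⟩ := hx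
      obtain ⟨c, hc⟩ := hy
      exact ⟨a + c, by rw [classInner_add_right, ha, hc]; push_cast; ring⟩
    | neg x _ hx =>
      obtain ⟨a, ha⟩ := hx
      exact ⟨-a, by rw [classInner_neg_right, ha]; push_cast; ring⟩
  exact hint _ (CfsgLib.Brauer.irr_mem_brauerSpan G _ ψ.2)

end CfsgLib.CentralDefect
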