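import Cfsg.Agent.Lib.BlockCover.CoverUnit

/-! # A covering block lies over every member of the covered block -/

set_option autoImplicit false
open Cfsg MonoidAlgebra
open CfsgLib.Characters CfsgLib.CharCorr
open scoped ComplexConjugate

namespace CfsgLib.BlockCover

variable {p : ℕ} {M : Ideal AlgInt} {G : Type*} [Group G] [Fintype G]
  (N : Subgroup G) [hN : N.Normal] [Fintype N]

omit hN in
/-- If `θ` is no constituent of `χ_N`, it is orthogonal to every translate of `χ` on `N`. -/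
theorem sum_mul_translate_eq_zero (χ : IrrCharacter G) (θ : IrrCharacter N)
    (h : classInner (fun n : N => (χ : G → ℂ) n) (θ : N → ℂ) = 0) (x : G) :
    ∑ n : N, (θ : N → ℂ) n * (χ : G → ℂ) (x * (n : G)⁻¹) = 0 := by
  classical
  set T : G → ℂ := fun y => ∑ n : N, (θ : N → ℂ) n * (χ : G → ℂ) (y * (n : G)⁻¹) with hT
  have hχθ : ∑ n : N, (χ : G → ℂ) (n : G)⁻¹ * (θ : N → ℂ) n = 0 := by
    rw [classInner, mul_eq_zero] at h
    have h' := h.resolve_left (by simp)
    have h2 := congrArg conj h'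
    rw [map_sum, map_zero] at h2
    rw [← h2]
    refine Finset.sum_congr rfl fun n _ => ?_
    rw [map_mul, Complex.conj_conj, irr_apply_inv χ (n : G)]
  have hin : ∀ m : N, ∑ n : N, (θ : N → ℂ) n * (χ : G → ℂ) ((m : G) * (n : G)⁻¹) = 0 := by
    intro m
    have hcl : IsClassFunction N fun y : N => (χ : G → ℂ) (y : G)⁻¹ := fun a c => by
      simp only [Subgroup.coe_mul, Subgroup.coe_inv]
      rw [show ((c : G) * (a : G) * (c : G)⁻¹)⁻¹ = (c : G) * (a : G)⁻¹ * (c : G)⁻¹ by group]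
      exact irr_isClassFunction χ _ _
    have h1 := sum_classFn_mul_irr θ hcl m
    rw [hχθ, zero_div, zero_mul] at h1
    rw [← h1]
    refine Fintype.sum_equiv (Equiv.mulRight m⁻¹) _ _ fun n => ?_
    simp [mul_comm]
  have hmod : ∑ y : G, T y * conj (T y) = 0 := by
    simp only [hT, map_sum, map_mul, Finset.sum_mul, Finset.mul_sum]
    rw [Finset.sum_comm]
    refine (Finset.sum_congr rfl fun m _ => Finset.sum_comm).trans ?_
    refine Finset.sum_eq_zero fun m _ => ?_
    have hfac : ∀ n : N, ∑ y : G, (θ : N → ℂ) n * (χ : G → ℂ) (y * (n : G)⁻¹) *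
        (conj ((θ : N → ℂ) m) * conj ((χ : G → ℂ) (y * (m : G)⁻¹))) =
        conj ((θ : N → ℂ) m) * ((Nat.card G : ℂ) / (χ : G → ℂ) 1) *
          ((θ : N → ℂ) n * (χ : G → ℂ) ((m : G) * (n : G)⁻¹)) := by
      intro n
      have h3 : ∑ y : G, (χ : G → ℂ) (y * (n : G)⁻¹) * conj ((χ : G → ℂ) (y * (m : G)⁻¹)) =
          (Nat.card G : ℂ) / (χ : G → ℂ) 1 * (χ : G → ℂ) ((m : G) * (n : G)⁻¹) := by
        have h4 := sum_irr_mul_conj χ χ ((m : G) * (n : G)⁻¹)
        rw [if_pos rfl] at h4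
        rw [← h4]
        refine Fintype.sum_equiv (Equiv.mulRight (m : G)⁻¹) _ _ fun y => ?_
        simp [mul_assoc]
      calc _ = (θ : N → ℂ) n * conj ((θ : N → ℂ) m) * ∑ y : G, (χ : G → ℂ) (y * (n : G)⁻¹) *
            conj ((χ : G → ℂ) (y * (m : G)⁻¹)) := by
            rw [Finset.mul_sum]; exact Finset.sum_congr rfl fun y _ => by ring
        _ = _ := by rw [h3]; ring
    rw [Finset.sum_congr rfl fun n _ => hfac n, ← Finset.mul_sum, hin, mul_zero]
  have hre : ∑ y : G, Complex.normSq (T y) = 0 := by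
    have h5 := hmod
    simp only [Complex.mul_conj] at h5
    exact_mod_cast h5
  exact Complex.normSq_eq_zero.1
    ((Finset.sum_eq_zero_iff_of_nonneg fun y _ => Complex.normSq_nonneg _).1 hre x
      (Finset.mem_univ x))

/-- Every member of a covered block is a constituent of a restriction from the covering block. -/
theorem exists_constituent_of_covers (hM : IsPModular p M) {B : Set (IrrCharacter G)}
    (hB : IsPBlock M B) {b : Set (IrrCharacter N)} (hb : IsPBlock M b) {χ₀ : IrrCharacter G}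
    (hχ₀ : χ₀ ∈ B) {θ₀ : IrrCharacter N} (hθ₀ : θ₀ ∈ b)
    (hcov : classInner (fun n : N => (χ₀ : G → ℂ) n) (θ₀ : N → ℂ) ≠ 0)
    {θ : IrrCharacter N} (hθ : θ ∈ b) :
    ∃ χ ∈ B, classInner (fun n : N => (χ : G → ℂ) n) (θ : N → ℂ) ≠ 0 := by
  classical
  by_contra! hcon
  obtain ⟨u, -, -, hne⟩ := exists_blockRes_unit N hM hB hb hχ₀ hθ₀ hcov hθ
  apply hne
  have hz : ∑ n : N, blockRes N B u n * (θ : N → ℂ) n = 0 := by
    simp only [blockRes, BrauerPairs.coeff_mul_fintype, Finset.sum_mul]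
    have hsplit : ∀ n : N, (∑ y : G, (Blocks.blockIdem B).coeff y *
        (Blocks.ofFun u).coeff (y⁻¹ * (n : G)) * (θ : N → ℂ) n) =
        ∑ w : G, u w * ((θ : N → ℂ) n * blockCoeff B ((n : G) * w⁻¹)) := by
      intro n
      refine Fintype.sum_equiv ((Equiv.inv G).trans (Equiv.mulRight (n : G))) _ _ fun y => ?_
      simp only [Blocks.coeff_blockIdem, Blocks.coeff_ofFun, Equiv.trans_apply, Equiv.inv_apply,
        Equiv.coe_mulRight]
      rw [show (n : G) * (y⁻¹ * (n : G))⁻¹ = y by group]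
      ring
    rw [Finset.sum_congr rfl fun n _ => hsplit n, Finset.sum_comm]
    refine Finset.sum_eq_zero fun w _ => ?_
    rw [← Finset.mul_sum]
    convert mul_zero (u w) using 2
    simp only [blockCoeff, finsum_mem_eq_finite_toFinset_sum _ B.toFinite, Finset.mul_sum]
    rw [Finset.sum_comm]
    refine Finset.sum_eq_zero fun χ hχ => ?_
    have h0 := sum_mul_translate_eq_zero N χ θ (hcon χ (B.toFinite.mem_toFinset.1 hχ)) w
    have hrw : ∀ n : N, (θ : N → ℂ) n * ((Nat.card G : ℂ)⁻¹ * ((χ : G → ℂ) 1 *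
        conj ((χ : G → ℂ) ((n : G) * w⁻¹)))) = ((Nat.card G : ℂ)⁻¹ * (χ : G → ℂ) 1) *
        ((θ : N → ℂ) n * (χ : G → ℂ) (w * (n : G)⁻¹)) := by
      intro n
      rw [← irr_apply_inv χ ((n : G) * w⁻¹), mul_inv_rev, inv_inv]
      ring
    rw [Finset.sum_congr rfl fun n _ => hrw n, ← Finset.mul_sum, h0, mul_zero]
  rw [hz, zero_div]
  exact Blocks.memLocalIdeal_zero hM

end CfsgLib.BlockCover
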