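import Cfsg.Agent.Lib.BlockCover.KnorrCover
import Cfsg.Agent.Lib.Blocks.InducedChar
import Cfsg.Agent.Lib.Characters.Clifford
import Cfsg.Agent.Lib.BrauerPairs.Trace

/-! # The Fong–Reynolds correspondence -/

set_option autoImplicit false
open Cfsg MonoidAlgebra
open CfsgLib.BrauerPairs (fixAlg suppAlg inclA restrA conjA relTr)
open CfsgLib.Characters CfsgLib.CharCorr

namespace CfsgLib.BlockCover

variable {p : ℕ} {M : Ideal AlgInt} {G : Type*} [Group G] [Fintype G]
  (N : Subgroup G) [hN : N.Normal] [Fintype N]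

/-- The part of a function on `N` in a set of characters, evaluated as a degree. -/
noncomputable def bDeg (b : Set (IrrCharacter N)) (f : N → ℂ) : ℂ :=
  ∑ n : N, blockCoeff b n * f n

omit hN [Fintype G] in
theorem exists_bDeg_nat (b : Set (IrrCharacter N)) {f : N → ℂ} (hf : IsCharacter N f) :
    ∃ s : ℕ, bDeg N b f = (s : ℂ) ∧
      (s = 0 ↔ ∀ θ ∈ b, classInner f (θ : N → ℂ) = 0) := by
  classical
  obtain ⟨m, hm, hsum⟩ := Clifford.exists_mult hf
  refine ⟨∑ θ ∈ Finset.univ.filter (· ∈ b), m θ * charDegree (θ : N → ℂ), ?_, ?_⟩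
  · push_cast
    rw [bDeg, Finset.sum_filter]
    have hdec : ∀ n : N, f n = ∑ θ : IrrCharacter N, (m θ : ℂ) * (θ : N → ℂ) n := fun n => by
      conv_lhs => rw [hsum]
      simp [Finset.sum_apply]
    simp only [hdec, Finset.mul_sum]
    rw [Finset.sum_comm]
    refine Finset.sum_congr rfl fun θ _ => ?_
    have h2 := sum_blockCoeff_mul b θ
    rw [div_eq_iff (irr_one_ne_zero θ), irr_one_eq_charDegree] at h2
    rw [show (∑ n : N, blockCoeff b n * ((m θ : ℂ) * (θ : N → ℂ) n)) =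
      (m θ : ℂ) * ∑ n : N, blockCoeff b n * (θ : N → ℂ) n by
        rw [Finset.mul_sum]; exact Finset.sum_congr rfl fun y _ => by ring, h2]
    split_ifs <;> ring
  · rw [Finset.sum_eq_zero_iff]
    constructor
    · intro h θ hθ
      rw [hm θ, (mul_eq_zero.1 (h θ (by simp [hθ]))).resolve_right (charDegree_ne_zero θ),
        Nat.cast_zero]
    · intro h θ hθ
      have h1 := h θ (Finset.mem_filter.1 hθ).2
      rw [hm θ, Nat.cast_eq_zero] at h1
      rw [h1, zero_mul]

omit [Fintype G] in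
theorem blockCoeff_image_conjIrr (g : G) (b : Set (IrrCharacter N)) (n : N) :
    blockCoeff (conjIrr N g '' b) n = blockCoeff b ⟨g * n * g⁻¹, hN.conj_mem n n.2 g⟩ := by
  classical
  rw [Blocks.blockCoeff_eq_sum, Blocks.blockCoeff_eq_sum]
  congr 1
  symm
  refine Finset.sum_bij (fun ψ _ => conjIrr N g ψ) (fun ψ hψ => ?_) (fun ψ _ ψ' _ h => ?_)
    (fun ψ hψ => ?_) (fun ψ _ => ?_)
  · simp only [Finset.mem_filter, Finset.mem_univ, true_and] at hψ ⊢
    exact ⟨ψ, hψ, rfl⟩
  · apply Subtype.ext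
    funext m
    have h1 := congrFun (congrArg Subtype.val h) ⟨g⁻¹ * m * g, hN.conj_mem' m m.2 g⟩
    simp only [conjIrr_apply] at h1
    simpa [mul_assoc] using h1
  · simp only [Finset.mem_filter, Finset.mem_univ, true_and] at hψ
    obtain ⟨φ, hφ, rfl⟩ := hψ
    exact ⟨φ, by simp [hφ], rfl⟩
  · rw [conjIrr_apply, conjIrr_apply]
    congr 2
    exact congrArg _ (Subtype.ext (by simp))

/-- The idempotent of a set of characters of `N` inside the group algebra of `G`. -/
noncomputable def subIdem (b : Set (IrrCharacter N)) : MonoidAlgebra ℂ G :=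
  inclA ℂ N (Blocks.blockIdem b)

omit hN in
theorem subIdem_coe (b : Set (IrrCharacter N)) (n : N) :
    (subIdem N b).coeff (n : G) = blockCoeff b n := by
  rw [subIdem, BrauerPairs.coeff_inclA, Blocks.coeff_blockIdem]

omit hN in
theorem subIdem_notMem (b : Set (IrrCharacter N)) {x : G} (hx : x ∉ N) :
    (subIdem N b).coeff x = 0 := by
  rw [subIdem, BrauerPairs.coeff_inclA_of_notMem _ hx]

theorem conjA_subIdem_eq (x : G) (b : Set (IrrCharacter N)) :
    conjA x (subIdem N b) = subIdem N (conjIrr N x⁻¹ '' b) := by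
  ext g
  rw [BrauerPairs.coeff_conjA]
  by_cases hg : g ∈ N
  · rw [subIdem_coe N (conjIrr N x⁻¹ '' b) ⟨g, hg⟩, blockCoeff_image_conjIrr]
    refine Eq.trans ?_ (subIdem_coe N b _)
    simp
  · rw [subIdem_notMem N _ hg, subIdem_notMem N _ fun h => hg ?_]
    simpa [mul_assoc] using hN.conj_mem _ h x

omit hN in
theorem sum_subIdem_mul (b : Set (IrrCharacter N)) (f : G → ℂ) :
    ∑ g : G, (subIdem N b).coeff g * f g = bDeg N b fun n : N => f n := by
  classical
  rw [bDeg, ← Finset.sum_subset (Finset.subset_univ (Finset.univ.map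
    (Function.Embedding.subtype (· ∈ N)))) (fun g _ hg => ?_), Finset.sum_map]
  · exact Finset.sum_congr rfl fun n _ => by rw [Function.Embedding.coe_subtype, subIdem_coe]
  · rw [subIdem_notMem N b fun h => hg (by simp [h]), zero_mul]

variable (b : Set (IrrCharacter N)) (T : Subgroup G) [Fintype T] (hNT : N ≤ T)
  (hT : ∀ g : G, g ∈ T ↔ ∀ θ ∈ b, conjIrr N g θ ∈ b)

include hT in
theorem image_conjIrr_eq {g : G} (hg : g ∈ T) : conjIrr N g '' b = b := by
  refine Set.Subset.antisymm ?_ fun θ hθ => ?_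
  · rintro _ ⟨θ, hθ, rfl⟩
    exact (hT g).1 hg θ hθ
  · exact ⟨conjIrr N g⁻¹ θ, (hT g⁻¹).1 (T.inv_mem hg) θ hθ,
      by rw [conjIrr_comp]; simp [conjIrr_one]⟩

include hT in
theorem subIdem_mem_fixAlg : subIdem N b ∈ fixAlg ℂ T := fun t ht => by
  rw [conjA_subIdem_eq, image_conjIrr_eq N b T hT (T.inv_mem ht)]

include hT in
/-- Distinct conjugates of the idempotent are orthogonal. -/
theorem conjA_subIdem_mul_eq_zero (hM : IsPModular p M) (hb : IsPBlock M b) {x : G} (hx : x ∉ T) :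
    conjA x (subIdem N b) * subIdem N b = 0 := by
  classical
  rw [conjA_subIdem_eq, subIdem, subIdem, ← map_mul, Blocks.blockIdem_mul]
  suffices h : conjIrr N x⁻¹ '' b ∩ b = ∅ by rw [h, Blocks.blockIdem_empty, map_zero]
  refine Set.eq_empty_iff_forall_notMem.2 ?_
  rintro _ ⟨⟨θ, hθ, rfl⟩, hmem⟩
  refine hx (inv_mem_iff.1 ((hT x⁻¹).2 fun θ' hθ' => ?_))
  exact (Blocks.IsPBlock.mem_iff hM hb hmem _).2
    (sameBlock_conjIrr N ((Blocks.IsPBlock.mem_iff hM hb hθ θ').1 hθ') x⁻¹)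

/-- The idempotent as an element of the group algebra of `T`. -/
noncomputable def stabIdem : MonoidAlgebra ℂ T := restrA ℂ T (subIdem N b)

omit [Fintype T] in
include hNT in
theorem inclA_stabIdem : inclA ℂ T (stabIdem N b T) = subIdem N b :=
  BrauerPairs.inclA_restrA fun x hx => hNT (BrauerPairs.inclA_mem_suppAlg _ x hx)

include hT in
theorem stabIdem_mem_center :
    stabIdem N b T ∈ Subalgebra.center ℂ (MonoidAlgebra ℂ T) := by
  rw [Blocks.mem_center_iff_coeff]
  intro g h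
  simp only [stabIdem, BrauerPairs.coeff_restrA, Subgroup.coe_mul, Subgroup.coe_inv]
  exact BrauerPairs.mem_fixAlg_iff_coeff.1 (subIdem_mem_fixAlg N b T hT) _ (SetLike.coe_mem _) _

omit hN in
theorem omega_stabIdem (hNT : N ≤ T) (ψ : IrrCharacter T) :
    Blocks.omega (ψ : T → ℂ) (stabIdem N b T) * (ψ : T → ℂ) 1 =
      bDeg N b fun n : N => (ψ : T → ℂ) ⟨(n : G), hNT n.2⟩ := by
  classical
  rw [Blocks.omega_apply, div_mul_cancel₀ _ (irr_one_ne_zero ψ)]
  have h := sum_subIdem_mul N b fun g => if hg : g ∈ T then (ψ : T → ℂ) ⟨g, hg⟩ else 0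
  simp only [hNT (SetLike.coe_mem _), dif_pos] at h
  rw [← h]
  refine Eq.trans ?_ (Finset.sum_subset (Finset.subset_univ (Finset.univ.map
    (Function.Embedding.subtype (· ∈ T)))) fun g _ hg => ?_)
  · rw [Finset.sum_map]
    refine Finset.sum_congr rfl fun t _ => ?_
    rw [Function.Embedding.coe_subtype, dif_pos t.2, stabIdem, BrauerPairs.coeff_restrA]
  · rw [dif_neg fun h => hg (by simp [h]), mul_zero]

omit hN in
theorem isCharacter_resN (hNT : N ≤ T) (ψ : IrrCharacter T) :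
    IsCharacter N fun n : N => (ψ : T → ℂ) ⟨(n : G), hNT n.2⟩ :=
  Clifford.isCharacter_pullback (irr_isCharacter ψ) (Subgroup.inclusion hNT)

include hT in
theorem omega_stabIdem_eq_one (hNT : N ≤ T) {ψ : IrrCharacter T}
    (hψ : ∃ θ ∈ b, classInner (fun n : N => (ψ : T → ℂ) ⟨(n : G), hNT n.2⟩) (θ : N → ℂ) ≠ 0) :
    Blocks.omega (ψ : T → ℂ) (stabIdem N b T) = 1 := by
  have hid : stabIdem N b T * stabIdem N b T = stabIdem N b T :=
    BrauerPairs.inclA_injective T (by
      rw [map_mul, inclA_stabIdem N b T hNT, subIdem, ← map_mul,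
        Blocks.isIdempotentElem_blockIdem b])
  have h1 := Blocks.omega_mul ψ (stabIdem_mem_center N b T hT) (stabIdem N b T)
  rw [hid] at h1
  have hne : Blocks.omega (ψ : T → ℂ) (stabIdem N b T) ≠ 0 := by
    intro h0
    obtain ⟨θ, hθ, hθne⟩ := hψ
    obtain ⟨s, hs, hs0⟩ := exists_bDeg_nat N b (isCharacter_resN N T hNT ψ)
    have h2 := omega_stabIdem N b T hNT ψ
    rw [h0, zero_mul, hs] at h2
    exact hθne (hs0.1 (by exact_mod_cast h2.symm) θ hθ)
  exact (mul_eq_left₀ hne).1 h1.symm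

include hT in
theorem bDeg_eq_degree (hNT : N ≤ T) {ψ : IrrCharacter T}
    (hψ : ∃ θ ∈ b, classInner (fun n : N => (ψ : T → ℂ) ⟨(n : G), hNT n.2⟩) (θ : N → ℂ) ≠ 0) :
    bDeg N b (fun n : N => (ψ : T → ℂ) ⟨(n : G), hNT n.2⟩) = (ψ : T → ℂ) 1 := by
  rw [← omega_stabIdem N b T hNT ψ, omega_stabIdem_eq_one N b T hT hNT hψ, one_mul]

include hT hNT in
/-- The relative trace of an element under the idempotent recovers it. -/
theorem relTr_mul_subIdem (hM : IsPModular p M) (hb : IsPBlock M b) {z : MonoidAlgebra ℂ G}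
    (hz : z ∈ fixAlg ℂ T) (hzF : z * subIdem N b = z) :
    relTr ℂ T ⊤ z * subIdem N b = z := by
  classical
  rw [BrauerPairs.relTr_eq_sum, Finset.sum_mul,
    Finset.sum_eq_single ((QuotientGroup.mk 1) : (⊤ : Subgroup G) ⧸ T.subgroupOf ⊤)
      (fun q _ hq => ?_) (fun h => absurd (Finset.mem_univ _) h)]
  · rw [BrauerPairs.conjA_out_eq hz (1 : (⊤ : Subgroup G)), Subgroup.coe_one]
    show conjA (1 : G) z * subIdem N b = z
    rw [BrauerPairs.conjA_one_left]
    exact hzF
  · have hout : ((q.out : (⊤ : Subgroup G)) : G) ∉ T := by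
      intro h
      apply hq
      rw [← Quotient.out_eq q]
      exact QuotientGroup.eq.2 (Subgroup.mem_subgroupOf.2 (by simpa using h))
    conv_lhs => rw [← hzF, BrauerPairs.conjA_mul, mul_assoc,
      conjA_subIdem_mul_eq_zero N b T hT hM hb hout, mul_zero]

omit hN [Fintype N] [Fintype T] in
theorem sum_relTr_mul (z : MonoidAlgebra ℂ G) {f : G → ℂ} (hf : IsClassFunction G f) :
    ∑ g : G, (relTr ℂ T ⊤ z).coeff g * f g = (T.index : ℂ) * ∑ g : G, z.coeff g * f g := by
  classical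
  rw [BrauerPairs.relTr_eq_sum]
  simp only [coeff_sum, Finsupp.finsetSum_apply, Finset.sum_mul]
  rw [Finset.sum_comm, Finset.sum_congr rfl fun q _ => show
    ∑ g : G, (conjA ((q.out : (⊤ : Subgroup G)) : G) z).coeff g * f g =
      ∑ g : G, z.coeff g * f g from ?_, Finset.sum_const, Finset.card_univ, nsmul_eq_mul]
  · congr 2
    rw [← Nat.card_eq_fintype_card, ← Subgroup.index_eq_card, ← Subgroup.relIndex,
      Subgroup.relIndex_top_right]
  · refine Fintype.sum_equiv (MulAut.conj ((q.out : (⊤ : Subgroup G)) : G)⁻¹).toEquiv _ _ fun g => ?_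
    simp only [MulEquiv.toEquiv_eq_coe, EquivLike.coe_coe, MulAut.conj_apply, inv_inv,
      BrauerPairs.coeff_conjA]
    have h1 := hf g ((q.out : (⊤ : Subgroup G)) : G)⁻¹
    rw [inv_inv] at h1
    rw [h1]

include hT hNT in
/-- A character over `b` has degree the index of the stabiliser times its part in `b`. -/
theorem degree_eq_index_mul (hM : IsPModular p M) (hb : IsPBlock M b) {χ : IrrCharacter G}
    (hχ : ∃ θ ∈ b, classInner (fun n : N => (χ : G → ℂ) n) (θ : N → ℂ) ≠ 0) :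
    (χ : G → ℂ) 1 = (T.index : ℂ) * bDeg N b fun n : N => (χ : G → ℂ) n := by
  classical
  set F := subIdem N b with hF
  have hFF : F * F = F := by rw [hF, subIdem, ← map_mul, Blocks.isIdempotentElem_blockIdem b]
  set Y := relTr ℂ T ⊤ F with hY
  have hYfix : Y ∈ fixAlg ℂ (⊤ : Subgroup G) :=
    BrauerPairs.relTr_mem_fixAlg (subIdem_mem_fixAlg N b T hT)
  have hYY : Y * Y = Y := by
    conv_lhs => rw [hY, BrauerPairs.relTr_mul_left (hY ▸ hYfix),
      relTr_mul_subIdem N b T hNT hT hM hb (subIdem_mem_fixAlg N b T hT) hFF]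
  have hYc : Y ∈ Subalgebra.center ℂ (MonoidAlgebra ℂ G) :=
    (Blocks.mem_center_iff_coeff _).2 fun g h =>
      (BrauerPairs.mem_fixAlg_iff_coeff.1 hYfix h trivial g)
  have h1 := Blocks.omega_mul χ hYc Y
  rw [hYY] at h1
  have h2 : Blocks.omega (χ : G → ℂ) Y * (χ : G → ℂ) 1 =
      (T.index : ℂ) * bDeg N b fun n : N => (χ : G → ℂ) n := by
    rw [Blocks.omega_apply, div_mul_cancel₀ _ (irr_one_ne_zero χ), hY,
      sum_relTr_mul T F (irr_isClassFunction χ), hF, sum_subIdem_mul]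
  have hne : Blocks.omega (χ : G → ℂ) Y ≠ 0 := by
    intro h0
    obtain ⟨θ, hθ, hθne⟩ := hχ
    obtain ⟨s, hs, hs0⟩ := exists_bDeg_nat N b
      (Clifford.isCharacter_subtype (irr_isCharacter χ) N)
    rw [h0, zero_mul, hs] at h2
    have h3 : T.index * s = 0 := by exact_mod_cast h2.symm
    exact hθne (hs0.1 ((mul_eq_zero.1 h3).resolve_left Subgroup.index_ne_zero_of_finite) θ hθ)
  rw [(mul_eq_left₀ hne).1 h1.symm, one_mul] at h2
  exact h2

include hT in
/-- Clifford correspondence for blocks: characters of `T` over `b` induce irreducibly. -/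
theorem exists_indFun_eq (hNT : N ≤ T) (hM : IsPModular p M) (hb : IsPBlock M b)
    {ψ : IrrCharacter T}
    (hψ : ∃ θ ∈ b, classInner (fun n : N => (ψ : T → ℂ) ⟨(n : G), hNT n.2⟩) (θ : N → ℂ) ≠ 0) :
    ∃ χ : IrrCharacter G, (χ : G → ℂ) = indFun T (ψ : T → ℂ) ∧
      ∃ θ ∈ b, classInner (fun n : N => (χ : G → ℂ) n) (θ : N → ℂ) ≠ 0 := by
  classical
  have hchar : IsCharacter G (indFun T (ψ : T → ℂ)) :=
    Induction.isCharacter_indFun T (irr_isCharacter ψ)
  obtain ⟨m, hm, hsum⟩ := Clifford.exists_mult hchar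
  have hone : indFun T (ψ : T → ℂ) 1 = (T.index : ℂ) * (ψ : T → ℂ) 1 :=
    Induction.indFun_one_apply T (ψ : T → ℂ)
  have hdeg : T.index * charDegree (ψ : T → ℂ) =
      ∑ χ : IrrCharacter G, m χ * charDegree (χ : G → ℂ) := by
    have h : ((T.index * charDegree (ψ : T → ℂ) : ℕ) : ℂ) =
        ((∑ χ : IrrCharacter G, m χ * charDegree (χ : G → ℂ) : ℕ) : ℂ) := by
      push_cast
      rw [← irr_one_eq_charDegree, ← hone]
      conv_lhs => rw [hsum]
      simp [Finset.sum_apply, irr_one_eq_charDegree]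
    exact_mod_cast h
  obtain ⟨χ, hχm⟩ : ∃ χ, m χ ≠ 0 := by
    by_contra! hall
    rw [Finset.sum_eq_zero fun χ _ => by rw [hall χ, zero_mul]] at hdeg
    exact (mul_ne_zero Subgroup.index_ne_zero_of_finite (charDegree_ne_zero ψ)) hdeg
  obtain ⟨k, hk, hsumT⟩ := Clifford.exists_mult (Clifford.isCharacter_subtype (irr_isCharacter χ) T)
  have hkψ : k ψ = m χ := by
    have h1 := Induction.classInner_indFun (H := T) (ψ : T → ℂ) (irr_isClassFunction χ)
    rw [hm χ, classInner_conj_symm, hk ψ, map_natCast] at h1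
    exact_mod_cast h1.symm
  choose s hs hs0 using fun φ : IrrCharacter T =>
    exists_bDeg_nat N b (isCharacter_resN N T hNT φ)
  have hsψ : s ψ = charDegree (ψ : T → ℂ) := by
    have h1 := hs ψ
    rw [bDeg_eq_degree N b T hT hNT hψ, irr_one_eq_charDegree] at h1
    exact_mod_cast h1.symm
  have hlin : bDeg N b (fun n : N => (χ : G → ℂ) n) =
      ((∑ φ : IrrCharacter T, k φ * s φ : ℕ) : ℂ) := by
    push_cast
    simp only [← hs, bDeg, Finset.mul_sum]
    rw [Finset.sum_comm]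
    refine Finset.sum_congr rfl fun n _ => ?_
    have h1 := congrFun hsumT ⟨(n : G), hNT n.2⟩
    simp only [Finset.sum_apply, Pi.smul_apply, smul_eq_mul] at h1
    rw [show (χ : G → ℂ) n = _ from h1, Finset.mul_sum]
    exact Finset.sum_congr rfl fun φ _ => by ring
  have hχcov : ∃ θ ∈ b, classInner (fun n : N => (χ : G → ℂ) n) (θ : N → ℂ) ≠ 0 := by
    obtain ⟨s', hs', hs'0⟩ := exists_bDeg_nat N b
      (Clifford.isCharacter_subtype (irr_isCharacter χ) N)
    by_contra! hall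
    have h1 : s' = 0 := hs'0.2 hall
    rw [hlin, h1, Nat.cast_inj] at hs'
    have h2 := Finset.sum_eq_zero_iff.1 hs' ψ (Finset.mem_univ _)
    rw [hkψ, hsψ] at h2
    exact (mul_ne_zero hχm (charDegree_ne_zero ψ)) h2
  have hχdeg : charDegree (χ : G → ℂ) = T.index * ∑ φ : IrrCharacter T, k φ * s φ := by
    have h1 := degree_eq_index_mul N b T hNT hT hM hb hχcov
    rw [hlin, irr_one_eq_charDegree] at h1
    exact_mod_cast h1
  have hge : T.index * (m χ * charDegree (ψ : T → ℂ)) ≤ charDegree (χ : G → ℂ) := by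
    rw [hχdeg, ← hsψ, ← hkψ]
    exact Nat.mul_le_mul_left _
      (Finset.single_le_sum (f := fun φ => k φ * s φ) (fun _ _ => Nat.zero_le _)
        (Finset.mem_univ ψ))
  have hsplit := Finset.add_sum_erase (Finset.univ) (fun η : IrrCharacter G =>
    m η * charDegree (η : G → ℂ)) (Finset.mem_univ χ)
  rw [← hdeg] at hsplit
  set d := charDegree (ψ : T → ℂ)
  set D := charDegree (χ : G → ℂ)
  have hm1 : m χ = 1 := by
    by_contra hne
    have h2 : 2 ≤ m χ := by omega
    have h3 : m χ * (T.index * (m χ * d)) ≤ T.index * d :=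
      (Nat.mul_le_mul_left _ hge).trans (Nat.le.intro hsplit)
    have hpos : 0 < T.index * d := Nat.pos_of_ne_zero
      (mul_ne_zero Subgroup.index_ne_zero_of_finite (charDegree_ne_zero ψ))
    have h4 : 4 * (T.index * d) ≤ m χ * (T.index * (m χ * d)) := by
      calc 4 * (T.index * d) = 2 * 2 * (T.index * d) := by norm_num
        _ ≤ m χ * m χ * (T.index * d) := Nat.mul_le_mul_right _ (Nat.mul_le_mul h2 h2)
        _ = _ := by ring
    omega
  rw [hm1, one_mul] at hge hsplit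
  have hrest : ∑ η ∈ Finset.univ.erase χ, m η * charDegree (η : G → ℂ) = 0 := by omega
  refine ⟨χ, ?_, hχcov⟩
  rw [hsum, Finset.sum_eq_single χ (fun η _ hη => ?_) (fun h => absurd (Finset.mem_univ _) h),
    hm1, Nat.cast_one, one_smul]
  have h := Finset.sum_eq_zero_iff.1 hrest η (by simp [hη])
  rw [(mul_eq_zero.1 h).resolve_right (charDegree_ne_zero η), Nat.cast_zero, zero_smul]

include hT in
/-- Every character over `b` is induced from one over `b`. -/
theorem exists_of_covers (hNT : N ≤ T) (hM : IsPModular p M) (hb : IsPBlock M b)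
    {χ : IrrCharacter G}
    (hχ : ∃ θ ∈ b, classInner (fun n : N => (χ : G → ℂ) n) (θ : N → ℂ) ≠ 0) :
    ∃ ψ : IrrCharacter T,
      (∃ θ ∈ b, classInner (fun n : N => (ψ : T → ℂ) ⟨(n : G), hNT n.2⟩) (θ : N → ℂ) ≠ 0) ∧
      (χ : G → ℂ) = indFun T (ψ : T → ℂ) := by
  classical
  obtain ⟨k, hk, hsumT⟩ := Clifford.exists_mult (Clifford.isCharacter_subtype (irr_isCharacter χ) T)
  obtain ⟨θ, hθ, hθne⟩ := hχ
  obtain ⟨ψ, hkψ, hψθ⟩ : ∃ ψ : IrrCharacter T, k ψ ≠ 0 ∧
      classInner (fun n : N => (ψ : T → ℂ) ⟨(n : G), hNT n.2⟩) (θ : N → ℂ) ≠ 0 := by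
    by_contra! hall
    apply hθne
    have h1 : ∀ n : N, (χ : G → ℂ) n =
        ∑ φ : IrrCharacter T, (k φ : ℂ) * (φ : T → ℂ) ⟨(n : G), hNT n.2⟩ := fun n => by
      have := congrFun hsumT ⟨(n : G), hNT n.2⟩
      simpa [Finset.sum_apply] using this
    simp only [classInner, h1, Finset.sum_mul, mul_assoc]
    rw [Finset.sum_comm, Finset.mul_sum]
    refine Finset.sum_eq_zero fun φ _ => ?_
    rw [← Finset.mul_sum]
    rcases eq_or_ne (k φ) 0 with h0 | h0
    · simp [h0]
    · have h2 := hall φ h0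
      rw [classInner] at h2
      linear_combination (k φ : ℂ) * h2
  obtain ⟨χ', hχ', -⟩ := exists_indFun_eq N b T hT hNT hM hb ⟨θ, hθ, hψθ⟩
  refine ⟨ψ, ⟨θ, hθ, hψθ⟩, ?_⟩
  have h1 := Induction.classInner_indFun (H := T) (ψ : T → ℂ) (irr_isClassFunction χ)
  rw [classInner_conj_symm (fun h : T => (χ : G → ℂ) h), hk ψ, map_natCast, ← hχ'] at h1
  have h2 : χ' = χ := by
    by_contra hne
    rw [classInner_irr, if_neg hne] at h1
    exact hkψ (by exact_mod_cast h1.symm)
  rw [← h2, hχ']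

include hT in
/-- The central character of an induced character at a traced element. -/
theorem omega_indFun_relTr (hNT : N ≤ T) (hM : IsPModular p M) (hb : IsPBlock M b)
    {ψ : IrrCharacter T}
    (hψ : ∃ θ ∈ b, classInner (fun n : N => (ψ : T → ℂ) ⟨(n : G), hNT n.2⟩) (θ : N → ℂ) ≠ 0)
    {χ : IrrCharacter G} (hχ : (χ : G → ℂ) = indFun T (ψ : T → ℂ)) {c : MonoidAlgebra ℂ T}
    (hc : c ∈ Subalgebra.center ℂ (MonoidAlgebra ℂ T)) :
    Blocks.omega (χ : G → ℂ) (relTr ℂ T ⊤ (inclA ℂ T (c * stabIdem N b T))) =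
      Blocks.omega (ψ : T → ℂ) c := by
  classical
  set z := inclA ℂ T (c * stabIdem N b T) with hz
  have hzfix : z ∈ fixAlg ℂ T := (BrauerPairs.inclA_mem_fixAlg_iff _).2
    (BrauerPairs.mem_fixAlg_iff_coeff.2 fun g _ x =>
      (Blocks.mem_center_iff_coeff _).1 (Subalgebra.mul_mem _ hc (stabIdem_mem_center N b T hT)) x g)
  have hid : stabIdem N b T * stabIdem N b T = stabIdem N b T :=
    BrauerPairs.inclA_injective T (by
      rw [map_mul, inclA_stabIdem N b T hNT, subIdem, ← map_mul,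
        Blocks.isIdempotentElem_blockIdem b])
  have hzF : z * subIdem N b = z := by
    rw [hz, ← inclA_stabIdem N b T hNT, ← map_mul, mul_assoc, hid]
  set Y := relTr ℂ T ⊤ z with hY
  have hYfix : Y ∈ fixAlg ℂ (⊤ : Subgroup G) := BrauerPairs.relTr_mem_fixAlg hzfix
  have hYF : Y * subIdem N b = z := relTr_mul_subIdem N b T hNT hT hM hb hzfix hzF
  have hYcl : IsClassFunction G fun g => Y.coeff g := fun g h =>
    BrauerPairs.mem_fixAlg_iff_coeff.1 hYfix h trivial g
  have hres : restrA ℂ T Y * stabIdem N b T = c * stabIdem N b T := by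
    refine BrauerPairs.inclA_injective T ?_
    rw [← hz]
    ext x
    by_cases hx : x ∈ T
    · rw [← hYF, map_mul, inclA_stabIdem N b T hNT, BrauerPairs.coeff_mul_fintype,
        BrauerPairs.coeff_mul_fintype]
      refine Finset.sum_congr rfl fun y _ => ?_
      by_cases hy : y ∈ T
      · congr 1
        exact (BrauerPairs.coeff_inclA _ ⟨y, hy⟩).trans (BrauerPairs.coeff_restrA _ _)
      · rw [subIdem_notMem N b, mul_zero, mul_zero]
        intro h
        refine hy (inv_mem_iff.1 ?_)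
        simpa [mul_assoc] using T.mul_mem (hNT h) (T.inv_mem hx)
    · rw [BrauerPairs.coeff_inclA_of_notMem _ hx]
      exact (BrauerPairs.coeff_inclA_of_notMem _ hx).symm
  have hω : Blocks.omega (χ : G → ℂ) Y = Blocks.omega (ψ : T → ℂ) (restrA ℂ T Y) := by
    have h1 := Induction.sum_indFun_mul T (ψ : T → ℂ) (f := fun g => Y.coeff g) hYcl
    have hT0 : (Nat.card T : ℂ) ≠ 0 := Nat.cast_ne_zero.2 Nat.card_pos.ne'
    have hI : (T.index : ℂ) ≠ 0 := Nat.cast_ne_zero.2 Subgroup.index_ne_zero_of_finite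
    have hG : (Nat.card G : ℂ) = (Nat.card T : ℂ) * (T.index : ℂ) := by
      exact_mod_cast (Subgroup.card_mul_index T).symm
    rw [Blocks.omega_apply, Blocks.omega_apply, hχ, Induction.indFun_one_apply]
    simp only [BrauerPairs.coeff_restrA]
    rw [hG, mul_inv] at h1
    have h2 : ∑ g : G, indFun T (ψ : T → ℂ) g * Y.coeff g =
        (T.index : ℂ) * ∑ h : T, (ψ : T → ℂ) h * Y.coeff (h : G) := by
      field_simp at h1
      linear_combination h1
    simp only [mul_comm (Y.coeff _)]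
    rw [h2, mul_div_mul_left _ _ hI]
  have hYTc : restrA ℂ T Y ∈ Subalgebra.center ℂ (MonoidAlgebra ℂ T) :=
    (Blocks.mem_center_iff_coeff _).2 fun g h => by
      simp only [BrauerPairs.coeff_restrA, Subgroup.coe_mul, Subgroup.coe_inv]
      exact hYcl _ _
  have h3 := Blocks.omega_mul ψ hYTc (stabIdem N b T)
  rw [hres, Blocks.omega_mul ψ hc, omega_stabIdem_eq_one N b T hT hNT hψ, mul_one, mul_one] at h3
  rw [hω, ← h3]

include hT in
/-- Separation: characters of `T` over `b` inducing into one block lie in one block. -/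
theorem sameBlock_of_indFun (hNT : N ≤ T) (hM : IsPModular p M) (hb : IsPBlock M b)
    {ψ φ : IrrCharacter T}
    (hψ : ∃ θ ∈ b, classInner (fun n : N => (ψ : T → ℂ) ⟨(n : G), hNT n.2⟩) (θ : N → ℂ) ≠ 0)
    (hφ : ∃ θ ∈ b, classInner (fun n : N => (φ : T → ℂ) ⟨(n : G), hNT n.2⟩) (θ : N → ℂ) ≠ 0)
    {χ η : IrrCharacter G} (hχ : (χ : G → ℂ) = indFun T (ψ : T → ℂ))
    (hη : (η : G → ℂ) = indFun T (φ : T → ℂ))
    (h : SameBlock M (χ : G → ℂ) (η : G → ℂ)) : SameBlock M (ψ : T → ℂ) (φ : T → ℂ) := by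
  classical
  intro t
  set c := Blocks.classSum ℂ t with hc
  have hcc : c ∈ Subalgebra.center ℂ (MonoidAlgebra ℂ T) := Blocks.classSum_mem_center t
  rw [← Blocks.omega_classSum_irr, ← Blocks.omega_classSum_irr,
    ← omega_indFun_relTr N b T hT hNT hM hb hψ hχ hcc,
    ← omega_indFun_relTr N b T hT hNT hM hb hφ hη hcc]
  set Y := relTr ℂ T ⊤ (inclA ℂ T (c * stabIdem N b T))
  have hzfix : inclA ℂ T (c * stabIdem N b T) ∈ fixAlg ℂ T :=
    (BrauerPairs.inclA_mem_fixAlg_iff _).2 (BrauerPairs.mem_fixAlg_iff_coeff.2 fun g _ x =>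
      (Blocks.mem_center_iff_coeff _).1 (Subalgebra.mul_mem _ hcc (stabIdem_mem_center N b T hT)) x g)
  refine Blocks.omega_congr_of_sameBlock hM h
    ((Blocks.mem_center_iff_coeff _).2 fun g h =>
      BrauerPairs.mem_fixAlg_iff_coeff.1
        (BrauerPairs.relTr_mem_fixAlg (T := (⊤ : Subgroup G)) hzfix) h (Subgroup.mem_top h) g)
      fun x => ?_
  show MemLocalRing M ((relTr ℂ T ⊤ (inclA ℂ T (c * stabIdem N b T))).coeff x)
  rw [BrauerPairs.relTr_eq_sum, coeff_sum, Finsupp.finsetSum_apply]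
  refine (Blocks.lRing hM).sum_mem fun q _ => ?_
  rw [BrauerPairs.coeff_conjA]
  by_cases hx : ((q.out : (⊤ : Subgroup G)) : G)⁻¹ * x * ((q.out : (⊤ : Subgroup G)) : G) ∈ T
  · rw [BrauerPairs.coeff_inclA _ ⟨_, hx⟩, BrauerPairs.coeff_mul_fintype]
    refine (Blocks.lRing hM).sum_mem fun y _ => (Blocks.lRing hM).mul_mem ?_ ?_
    · rw [hc, Blocks.coeff_classSum]; split_ifs
      · exact (Blocks.lRing hM).one_mem
      · exact (Blocks.lRing hM).zero_mem
    · rw [stabIdem, BrauerPairs.coeff_restrA]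
      by_cases hN' : ((y⁻¹ * ⟨_, hx⟩ : T) : G) ∈ N
      · rw [subIdem_coe N b ⟨_, hN'⟩]; exact Blocks.memLocalRing_blockCoeff hM hb _
      · rw [subIdem_notMem N b hN']; exact (Blocks.lRing hM).zero_mem
  · rw [BrauerPairs.coeff_inclA_of_notMem _ hx]; exact (Blocks.lRing hM).zero_mem

end CfsgLib.BlockCover
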