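import Cfsg.Agent.Lib.BlockCover.FongCover
import Cfsg.Agent.Lib.BlockCover.FongReynolds

/-! # Defects of the blocks over a block of a normal subgroup -/

set_option autoImplicit false
open Cfsg MonoidAlgebra
open CfsgLib.Characters CfsgLib.CharCorr

namespace CfsgLib.BlockCover

variable {p : ℕ} {M : Ideal AlgInt} {G : Type*} [Group G] [Fintype G]
  (N : Subgroup G) [hN : N.Normal] [Fintype N]

/-- The blocks covering a block together have the idempotent of its orbit. -/
theorem blockCoeff_coverSet_orbit (hM : IsPModular p M) {b : Set (IrrCharacter N)}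
    (hb : IsPBlock M b) (n : N) :
    blockCoeff {χ : IrrCharacter G | ∃ θ ∈ b,
      classInner (fun n : N => (χ : G → ℂ) n) (θ : N → ℂ) ≠ 0} (n : G) =
      blockCoeff (orbitSet N b) n := by
  classical
  set A := {χ : IrrCharacter G | ∃ θ ∈ b,
      classInner (fun n : N => (χ : G → ℂ) n) (θ : N → ℂ) ≠ 0} with hA
  set O := orbitSet N b with hO
  set F := subIdem N O with hF
  have hFcl : ∀ a x : G, F.coeff (a * x * a⁻¹) = F.coeff x := fun a x => by
    by_cases hx : x ∈ N
    · rw [hF, subIdem_coe N O ⟨x, hx⟩]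
      exact (subIdem_coe N O ⟨_, hN.conj_mem x hx a⟩).trans (blockCoeff_orbitSet_conj N b a ⟨x, hx⟩)
    · rw [hF, subIdem_notMem N O hx,
        subIdem_notMem N O fun h => hx (by simpa [mul_assoc] using hN.conj_mem _ h a⁻¹)]
  have hFc : F ∈ Subalgebra.center ℂ (MonoidAlgebra ℂ G) :=
    (Blocks.mem_center_iff_coeff _).2 fun g h => hFcl h g
  have hAF : Blocks.blockIdem A = F := by
    refine Blocks.central_ext (Blocks.blockIdem_mem_center A) hFc fun χ => ?_
    rw [Blocks.omega_blockIdem, Blocks.omega_apply, hF, sum_subIdem_mul]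
    obtain ⟨s, hs, hs0⟩ := exists_bDeg_nat N O (Clifford.isCharacter_subtype (irr_isCharacter χ) N)
    by_cases hχ : χ ∈ A
    · rw [if_pos hχ]
      obtain ⟨θ, hθ, hθne⟩ := hχ
      choose m hm using fun ψ => CfsgLib.NormalRes.mult_nat N (irr_isCharacter χ) ψ
      have hdec : ∀ n : N, (χ : G → ℂ) n = ∑ ψ : IrrCharacter N, (m ψ : ℂ) * (ψ : N → ℂ) n := by
        intro n
        rw [CfsgLib.NormalRes.res_eq_sum N (irr_isClassFunction χ) n]
        simp [hm]
      rw [eq_comm, div_eq_one_iff_eq (irr_one_ne_zero χ)]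
      refine Eq.trans ?_ (hdec 1).symm
      simp only [bDeg, hdec, Finset.mul_sum]
      rw [Finset.sum_comm]
      refine Finset.sum_congr rfl fun ψ _ => ?_
      have h2 := sum_blockCoeff_mul O ψ
      rw [div_eq_iff (irr_one_ne_zero ψ)] at h2
      rw [show (∑ n : N, blockCoeff O n * ((m ψ : ℂ) * (ψ : N → ℂ) n)) =
        (m ψ : ℂ) * ∑ n : N, blockCoeff O n * (ψ : N → ℂ) n by
          rw [Finset.mul_sum]; exact Finset.sum_congr rfl fun y _ => by ring, h2]
      by_cases hψ : m ψ = 0
      · simp [hψ]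
      · have hψ' : classInner (fun n : N => (χ : G → ℂ) n) (ψ : N → ℂ) ≠ 0 := by
          show CfsgLib.NormalRes.mult N (χ : G → ℂ) ψ ≠ 0
          rw [hm]; exact_mod_cast hψ
        rw [if_pos (mem_orbitSet_of_congr N hM hb hθ fun n =>
          induced_congr_of_cover N hM (Blocks.mem_blockOf_self hM χ) hθne hψ' n), one_mul]
    · rw [if_neg hχ, hs, hs0.2, Nat.cast_zero, zero_div]
      rintro _ ⟨g, θ, hθ, rfl⟩
      by_contra h0
      refine hχ ⟨θ, hθ, ?_⟩
      have he : classInner (fun n : N => (χ : G → ℂ) n) (conjIrr N g θ : N → ℂ) =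
          classInner (fun n : N => (χ : G → ℂ) n) (θ : N → ℂ) := by
        rw [← classInner_comp_equiv (MulAut.conjNormal g) (fun n : N => (χ : G → ℂ) n)
          (θ : N → ℂ)]
        congr 1
        funext n
        simp only [Function.comp_apply, MulAut.conjNormal_apply]
        exact (irr_isClassFunction χ (n : G) g).symm
      rwa [he] at h0
  rw [← Blocks.coeff_blockIdem A, hAF, hF, subIdem_coe]

/-- Some covering block gains the `p`-part of the index in a group fixing the block. -/
theorem exists_cover_defect_ge_stab [hp : Fact p.Prime] (hM : IsPModular p M)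
    {b : Set (IrrCharacter N)} (hb : IsPBlock M b) (T : Subgroup G) (hNT : N ≤ T)
    (hT : ∀ g ∈ T, ∀ θ ∈ b, conjIrr N g θ ∈ b) :
    ∃ B : Set (IrrCharacter G), IsPBlock M B ∧
      (∃ χ ∈ B, ∃ θ ∈ b, classInner (fun n : N => (χ : G → ℂ) n) (θ : N → ℂ) ≠ 0) ∧
      blockDefect p b + (N.relIndex T).factorization p ≤ blockDefect p B := by
  classical
  have := hM.2.1
  have := BrauerPairs.charP_res hM
  obtain ⟨θ, hθ⟩ := Blocks.IsPBlock.nonempty hM hb
  let _ : Fintype (ConjClasses N) := Fintype.ofFinite _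
  obtain ⟨S⟩ : Nonempty (Sylow p T) := inferInstance
  set S' := (S : Subgroup T).map T.subtype with hS'
  let act : MulAction S' (ConjClasses N) :=
    { smul := fun s c => ConjClasses.map (MulAut.conjNormal (s : G)).toMonoidHom c
      one_smul := fun c => by
        obtain ⟨x, rfl⟩ := ConjClasses.mk_surjective c
        show ConjClasses.mk (MulAut.conjNormal ((1 : S') : G) x) = ConjClasses.mk x
        simp
      mul_smul := fun s t c => by
        obtain ⟨x, rfl⟩ := ConjClasses.mk_surjective c
        show ConjClasses.mk (MulAut.conjNormal ((s * t : S') : G) x) =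
          ConjClasses.mk (MulAut.conjNormal (s : G) (MulAut.conjNormal (t : G) x))
        simp }
  set O := orbitSet N b with hO
  have hcR : ∀ n, blockCoeff O n ∈ Blocks.lRing hM := fun n =>
    memLocalRing_blockCoeff_union hM (orbitSet_closed N hM hb) n
  let f : ConjClasses N → BrauerPairs.ResK M := fun c => BrauerPairs.resK hM
    ⟨blockCoeff O c.out * centralChar (θ : N → ℂ) c.out,
      Subring.mul_mem _ (hcR _) (centralChar_memLocalRing hM θ _)⟩
  have hout : ∀ x : N, IsConj (ConjClasses.mk x).out x := fun x =>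
    ConjClasses.mk_eq_mk_iff_isConj.1 (Quotient.out_eq _)
  have hf : ∀ (s : S') (c : ConjClasses N), f (act.smul s c) = f c := by
    intro s c
    obtain ⟨x, rfl⟩ := ConjClasses.mk_surjective c
    refine (BrauerPairs.resK_eq_iff hM _ _).2 ?_
    show MemLocalIdeal M
      (blockCoeff O (ConjClasses.mk (MulAut.conjNormal (s : G) x)).out *
        centralChar (θ : N → ℂ) (ConjClasses.mk (MulAut.conjNormal (s : G) x)).out -
      blockCoeff O (ConjClasses.mk x).out * centralChar (θ : N → ℂ) (ConjClasses.mk x).out)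
    rw [classFunction_eq_of_isConj (isClassFunction_blockCoeff O) (hout _),
      classFunction_eq_of_isConj (isClassFunction_blockCoeff O) (hout x),
      Blocks.centralChar_of_isConj θ (hout _), Blocks.centralChar_of_isConj θ (hout x)]
    have h1 : blockCoeff O (MulAut.conjNormal (s : G) x) = blockCoeff O x := by
      refine Eq.trans (congrArg _ (Subtype.ext ?_)) (blockCoeff_orbitSet_conj N b (s : G) x)
      simp
    rw [h1, ← mul_sub]
    refine Blocks.MemLocalIdeal.mul_left hM (hcR x) ?_
    rw [← centralChar_twistIrr (MulAut.conjNormal (s : G)) θ x]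
    exact Blocks.SameBlock.symm hM ((Blocks.IsPBlock.mem_iff hM hb hθ _).1
      (hT (s : G) (Subgroup.map_subtype_le _ s.2) θ hθ)) x
  have htot : ∑ c : ConjClasses N, f c = 1 := by
    show ∑ c : ConjClasses N, BrauerPairs.resK hM _ = 1
    rw [← map_sum, ← map_one (BrauerPairs.resK hM)]
    congr 1
    apply Subtype.ext
    rw [AddSubmonoidClass.coe_finsetSum]
    have h1 := Blocks.omega_eq_sum_classes θ
      (BlockCover.ofFun_mem_center (isClassFunction_blockCoeff O))
    rw [Blocks.omega_ofFun] at h1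
    simp only [Blocks.coeff_ofFun] at h1
    rw [sum_blockCoeff_mul, if_pos (subset_orbitSet N b hθ)] at h1
    exact (by convert h1.symm using 1 <;> congr!)
  have hS'p : IsPGroup p S' := S.2.map _
  rw [BrauerPairs.sum_eq_sum_fixedPoints (P := S') hS'p f hf] at htot
  obtain ⟨c, hcfix, hfc⟩ := Finset.exists_ne_zero_of_sum_ne_zero (htot.trans_ne one_ne_zero)
  have hne : ¬ MemLocalIdeal M (blockCoeff O c.out * centralChar (θ : N → ℂ) c.out) := fun h =>
    hfc ((BrauerPairs.resK_eq_zero_iff hM _).2 h)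
  set n := c.out with hn
  have hn1 : ¬ MemLocalIdeal M (centralChar (θ : N → ℂ) n) := fun h =>
    hne (Blocks.MemLocalIdeal.mul_left hM (hcR n) h)
  have hn2 : ¬ MemLocalIdeal M (blockCoeff O n) := fun h =>
    hne (Blocks.MemLocalIdeal.mul_right hM h (centralChar_memLocalRing hM θ _))
  have hd := blockDefect_le hM hb fun ψ hψ => centralChar_unit_iff hM hb hθ hψ n hn1
  set C := Subgroup.centralizer ({(n : G)} : Set G) with hC
  have hSle : S' ≤ C ⊔ N := by
    intro s hs
    have h1 : act.smul ⟨s, hs⟩ c = c := (Finset.mem_filter.1 hcfix).2 ⟨s, hs⟩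
    have h2 : ConjClasses.mk (MulAut.conjNormal s n) = ConjClasses.mk n := by
      have hmk : ConjClasses.mk n = c := Quotient.out_eq c
      calc _ = act.smul ⟨s, hs⟩ (ConjClasses.mk n) := rfl
        _ = _ := by rw [hmk, h1]
    obtain ⟨m, hm⟩ := isConj_iff.1 (ConjClasses.mk_eq_mk_iff_isConj.1 h2)
    have h3 : ((m : G) * s) ∈ C := by
      refine Subgroup.mem_centralizer_singleton_iff.2 ?_
      have h4 := congrArg Subtype.val hm
      simp only [Subgroup.coe_mul, Subgroup.coe_inv, MulAut.conjNormal_apply] at h4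
      calc (m : G) * s * (n : G) = ((m : G) * (s * n * s⁻¹) * (m : G)⁻¹) * ((m : G) * s) := by group
        _ = _ := by rw [h4]
    rw [show s = (m : G)⁻¹ * ((m : G) * s) by group]
    exact mul_mem (Subgroup.mem_sup_right (N.inv_mem m.2)) (Subgroup.mem_sup_left h3)
  have hCcard : (Nat.card (Subgroup.centralizer ({n} : Set N))).factorization p +
      (N.relIndex T).factorization p ≤ (Nat.card C).factorization p := by
    have h1 : Nat.card (Subgroup.centralizer ({n} : Set N)) = Nat.card (N.subgroupOf C) :=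
      Nat.card_congr
        { toFun := fun x => ⟨⟨(x.1 : G), Subgroup.mem_centralizer_singleton_iff.2
            (congrArg Subtype.val (Subgroup.mem_centralizer_singleton_iff.1 x.2))⟩, x.1.2⟩
          invFun := fun x => ⟨⟨(x.1 : G), x.2⟩, Subgroup.mem_centralizer_singleton_iff.2
            (Subtype.ext (Subgroup.mem_centralizer_singleton_iff.1 x.1.2))⟩
          left_inv := fun x => rfl
          right_inv := fun x => rfl }
    have h2 : (N.subgroupOf C).index = N.relIndex (C ⊔ N) := (Subgroup.relIndex_sup_right C N).symm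
    have h5 := factorization_card_eq (p := p) (N.subgroupOf C)
    have h6 := factorization_card_eq (p := p) (N.subgroupOf T)
    have h7 := factorization_card_eq (p := p) (N.subgroupOf (C ⊔ N))
    rw [Nat.card_congr (Subgroup.subgroupOfEquivOfLe hNT).toEquiv] at h6
    rw [Nat.card_congr (Subgroup.subgroupOfEquivOfLe (le_sup_right : N ≤ C ⊔ N)).toEquiv] at h7
    have h8 : (Nat.card T).factorization p ≤ (Nat.card ↥(C ⊔ N)).factorization p := by
      refine (hp.out.pow_dvd_iff_le_factorization Nat.card_pos.ne').1 ?_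
      rw [← S.card_eq_multiplicity, ← natCard_map_subtype]
      exact Subgroup.card_dvd_of_le hSle
    rw [h2] at h5
    rw [show (N.subgroupOf T).index = N.relIndex T from rfl] at h6
    rw [show (N.subgroupOf (C ⊔ N)).index = N.relIndex (C ⊔ N) from rfl] at h7
    rw [h1]
    omega
  have hA : ¬ MemLocalIdeal M (blockCoeff {χ : IrrCharacter G | ∃ θ ∈ b,
      classInner (fun n : N => (χ : G → ℂ) n) (θ : N → ℂ) ≠ 0} (n : G)) := by
    rwa [blockCoeff_coverSet_orbit N hM hb]
  obtain ⟨χ, ⟨θ', hθ', hχθ⟩, hχne⟩ := exists_block_unit_of_union hM (fun χ hχ ψ hψ => by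
    obtain ⟨θ', hθ', hcov⟩ := hχ
    exact covers_of_congr N hM hb ψ hθ (congr_of_covers N hM (Blocks.isPBlock_blockOf χ) hb
      (Blocks.mem_blockOf_self hM χ) hθ' hcov hψ hθ)) hA
  refine ⟨blockOf M (χ : G → ℂ), Blocks.isPBlock_blockOf χ,
    ⟨χ, Blocks.mem_blockOf_self hM χ, θ', hθ', hχθ⟩, ?_⟩
  obtain ⟨U⟩ : Nonempty (Sylow p C) := inferInstance
  obtain ⟨E, hE, hle⟩ := Blocks.exists_defectGroup_ge_of_coeff hM (Blocks.isPBlock_blockOf χ) hχne
    (P := (U : Subgroup C).map C.subtype) (U.2.map _) (Subgroup.map_subtype_le _)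
  have h9 := Subgroup.card_le_of_le hle
  rw [natCard_sylow_centralizer, natCard_defect hM (Blocks.isPBlock_blockOf χ) hE,
    Nat.pow_le_pow_iff_right hp.out.one_lt, ← hC] at h9
  omega

/-- A covering block gains at most the `p`-part of the index in the stabiliser. -/
theorem blockDefect_le_of_covers [hp : Fact p.Prime] (hM : IsPModular p M)
    {b : Set (IrrCharacter N)} (hb : IsPBlock M b) (T : Subgroup G) (hNT : N ≤ T)
    (hT : ∀ g : G, g ∈ T ↔ ∀ θ ∈ b, conjIrr N g θ ∈ b)
    {B : Set (IrrCharacter G)} (hB : IsPBlock M B)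
    (hcov : ∃ χ ∈ B, ∃ θ ∈ b, classInner (fun n : N => (χ : G → ℂ) n) (θ : N → ℂ) ≠ 0) :
    blockDefect p B ≤ blockDefect p b + (N.relIndex T).factorization p := by
  classical
  let _ := Fintype.ofFinite T
  obtain ⟨χ₀, hχ₀, θ₀, hθ₀, hc⟩ := hcov
  obtain ⟨η, hη, hmin⟩ := exists_height_zero hM hB
  obtain ⟨θmin, hθmin, hbmin⟩ := exists_height_zero hM hb
  have hηcov := covers_of_congr N hM hb η hθ₀ (congr_of_covers N hM hB hb hχ₀ hθ₀ hc hη hθ₀)
  have h1 := degree_eq_index_mul N b T hNT hT hM hb hηcov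
  obtain ⟨m, hm, hsum⟩ := Clifford.exists_mult (Clifford.isCharacter_subtype (irr_isCharacter η) N)
  set v := (charDegree (θmin : N → ℂ)).factorization p
  set s := ∑ θ ∈ Finset.univ.filter (· ∈ b), m θ * charDegree (θ : N → ℂ) with hs
  have hbs : bDeg N b (fun n : N => (η : G → ℂ) n) = (s : ℂ) := by
    rw [hs, hsum]
    push_cast
    rw [bDeg, Finset.sum_filter]
    simp only [Finset.sum_apply, Pi.smul_apply, smul_eq_mul, Finset.mul_sum]
    rw [Finset.sum_comm]
    refine Finset.sum_congr rfl fun θ _ => ?_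
    have h2 := sum_blockCoeff_mul b θ
    rw [div_eq_iff (irr_one_ne_zero θ), irr_one_eq_charDegree] at h2
    rw [show (∑ n : N, blockCoeff b n * ((m θ : ℂ) * (θ : N → ℂ) n)) =
      (m θ : ℂ) * ∑ n : N, blockCoeff b n * (θ : N → ℂ) n by
        rw [Finset.mul_sum]; exact Finset.sum_congr rfl fun y _ => by ring, h2]
    split_ifs <;> ring
  rw [hbs, irr_one_eq_charDegree] at h1
  have h2 : charDegree (η : G → ℂ) = T.index * s := by exact_mod_cast h1
  have hs0 : s ≠ 0 := fun h0 => charDegree_ne_zero η (by rw [h2, h0, mul_zero])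
  have h3 : p ^ v ∣ s := Finset.dvd_sum fun θ hθ => Dvd.dvd.mul_left
    ((hp.out.pow_dvd_iff_le_factorization (charDegree_ne_zero θ)).2
      (hbmin θ (Finset.mem_filter.1 hθ).2)) _
  have h4 := (hp.out.pow_dvd_iff_le_factorization hs0).1 h3
  have h5 : (charDegree (η : G → ℂ)).factorization p =
      T.index.factorization p + s.factorization p := by
    rw [h2, Nat.factorization_mul Subgroup.index_ne_zero_of_finite hs0]; rfl
  have h6 := factorization_card_eq (p := p) T
  have h7 := factorization_card_eq (p := p) (N.subgroupOf T)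
  rw [Nat.card_congr (Subgroup.subgroupOfEquivOfLe hNT).toEquiv,
    show (N.subgroupOf T).index = N.relIndex T from rfl] at h7
  have h8 : v ≤ (Nat.card N).factorization p :=
    (hp.out.pow_dvd_iff_le_factorization Nat.card_pos.ne').1
      ((Nat.ordProj_dvd _ p).trans (CharCorr.charDegree_irr_dvd_card θmin))
  rw [blockDefect_eq hη hmin, blockDefect_eq hθmin hbmin]
  omega

end CfsgLib.BlockCover
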