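import Cfsg.Agent.Lib.BlockCover.Defect
import Cfsg.Agent.Lib.BrauerPairs.Bridge
import Cfsg.Agent.Lib.BrauerPairs.Transport
import Cfsg.Agent.Lib.Characters.NormalRes
import Mathlib.LinearAlgebra.Matrix.ToLinearEquiv

/-! # Covering is detected by the centraliser algebra of the normal subgroup

If a block `B` of `G` covers the block `b` of the normal subgroup `N`, then for each
`θ ∈ b` some `N`-invariant integral `u` has `ω_θ` of the restriction of `e_B u` to `N` a unit.
-/

set_option autoImplicit false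
open Cfsg MonoidAlgebra
open CfsgLib.BrauerPairs (fixAlg suppAlg inclA restrA ResK redFun eG resK)
open CfsgLib.Characters CfsgLib.CharCorr
open scoped ComplexConjugate

namespace CfsgLib.BlockCover

section Grading

variable {k : Type*} [Field k] {G : Type*} [Group G] [Fintype G] {N : Subgroup G} [hN : N.Normal]

/-- The component of an element at a coset of `N`. -/
noncomputable def cosetPart (q : G ⧸ N) (a : MonoidAlgebra k G) : MonoidAlgebra k G :=
  Blocks.ofFun fun x => by classical exact if QuotientGroup.mk' N x = q then a.coeff x else 0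

theorem coeff_cosetPart_self {q : G ⧸ N} (a : MonoidAlgebra k G) {x : G}
    (h : QuotientGroup.mk' N x = q) : (cosetPart q a).coeff x = a.coeff x := by
  classical
  rw [cosetPart, Blocks.coeff_ofFun, if_pos h]

theorem coeff_cosetPart_of_ne {q : G ⧸ N} (a : MonoidAlgebra k G) {x : G}
    (h : QuotientGroup.mk' N x ≠ q) : (cosetPart q a).coeff x = 0 := by
  classical
  rw [cosetPart, Blocks.coeff_ofFun, if_neg h]

theorem sum_cosetPart [Fintype (G ⧸ N)] (a : MonoidAlgebra k G) :
    ∑ q : G ⧸ N, cosetPart q a = a := by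
  classical
  ext x
  rw [coeff_sum, Finsupp.finsetSum_apply, Finset.sum_eq_single (QuotientGroup.mk' N x)
    (fun q _ hq => coeff_cosetPart_of_ne a (Ne.symm hq)) (fun h => absurd (Finset.mem_univ _) h),
    coeff_cosetPart_self a rfl]

theorem cosetPart_mem_fixAlg {q : G ⧸ N} {a : MonoidAlgebra k G} (ha : a ∈ fixAlg k N) :
    cosetPart q a ∈ fixAlg k N := by
  classical
  rw [BrauerPairs.mem_fixAlg_iff_coeff] at ha ⊢
  intro g hg x
  have h1 : QuotientGroup.mk' N (g * x * g⁻¹) = QuotientGroup.mk' N x := by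
    rw [map_mul, map_mul, map_inv,
      (QuotientGroup.eq_one_iff (N := N) g).2 hg |> (show QuotientGroup.mk' N g = 1 from ·)]
    simp
  rw [cosetPart, Blocks.coeff_ofFun, Blocks.coeff_ofFun, h1, ha g hg x]

theorem inclA_restrA_eq_cosetPart (a : MonoidAlgebra k G) :
    inclA k N (restrA k N a) = cosetPart (1 : G ⧸ N) a := by
  ext x
  by_cases hx : x ∈ N
  · rw [coeff_cosetPart_self a (by simpa using hx)]
    exact BrauerPairs.coeff_inclA (restrA k N a) ⟨x, hx⟩
  · rw [BrauerPairs.coeff_inclA_of_notMem _ hx, coeff_cosetPart_of_ne a (by simpa using hx)]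

/-- Being supported on a coset. -/
def InCoset (q : G ⧸ N) (a : MonoidAlgebra k G) : Prop :=
  ∀ x, a.coeff x ≠ 0 → QuotientGroup.mk' N x = q

theorem inCoset_cosetPart (q : G ⧸ N) (a : MonoidAlgebra k G) : InCoset q (cosetPart q a) :=
  fun x hx => by
    by_contra h
    exact hx (coeff_cosetPart_of_ne a h)

omit [Fintype G] in
theorem inCoset_one : InCoset (1 : G ⧸ N) (1 : MonoidAlgebra k G) := fun x hx => by
  classical
  rw [MonoidAlgebra.one_def, MonoidAlgebra.coeff_single, Finsupp.single_apply] at hx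
  by_cases h : (1 : G) = x
  · rw [← h, map_one]
  · simp [h] at hx

theorem InCoset.mul {q r : G ⧸ N} {a b : MonoidAlgebra k G} (ha : InCoset q a)
    (hb : InCoset r b) : InCoset (q * r) (a * b) := by
  intro x hx
  rw [BrauerPairs.coeff_mul_fintype] at hx
  obtain ⟨y, -, hy⟩ := Finset.exists_ne_zero_of_sum_ne_zero hx
  rw [show x = y * (y⁻¹ * x) by group, map_mul, ha y (left_ne_zero_of_mul hy),
    hb _ (right_ne_zero_of_mul hy)]

theorem inCoset_prod (x : MonoidAlgebra k G) (l : List (G ⧸ N)) :
    InCoset l.prod (l.map fun q => cosetPart q x).prod := by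
  induction l with
  | nil => simpa using inCoset_one
  | cons q l ih =>
    rw [List.map_cons, List.prod_cons, List.prod_cons]
    exact (inCoset_cosetPart q x).mul ih

theorem prod_cosetPart_mem_fixAlg {x : MonoidAlgebra k G} (hx : x ∈ fixAlg k N)
    (l : List (G ⧸ N)) : (l.map fun q => cosetPart q x).prod ∈ fixAlg k N := by
  induction l with
  | nil => simpa using (fixAlg k N).one_mem
  | cons q l ih =>
    rw [List.map_cons, List.prod_cons]
    exact (fixAlg k N).mul_mem (cosetPart_mem_fixAlg hx) ih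

/-- Multiplying by an element of a single coset selects one component. -/
theorem cosetPart_one_mul [Fintype (G ⧸ N)] (x : MonoidAlgebra k G) {v : MonoidAlgebra k G}
    {q : G ⧸ N} (hv : InCoset q⁻¹ v) :
    cosetPart (1 : G ⧸ N) (x * v) = cosetPart q x * v := by
  classical
  ext y
  by_cases hy : QuotientGroup.mk' N y = 1
  · rw [coeff_cosetPart_self _ hy, BrauerPairs.coeff_mul_fintype, BrauerPairs.coeff_mul_fintype]
    refine Finset.sum_congr rfl fun z _ => ?_
    by_cases hz : QuotientGroup.mk' N z = q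
    · rw [coeff_cosetPart_self _ hz]
    · rw [coeff_cosetPart_of_ne _ hz, zero_mul]
      by_contra hne
      apply hz
      have := hv _ (right_ne_zero_of_mul hne)
      rw [map_mul, map_inv, hy, mul_one, inv_inj] at this
      exact this
  · rw [coeff_cosetPart_of_ne _ hy]
    by_contra hne
    apply hy
    simpa using (inCoset_cosetPart q x).mul hv y (Ne.symm hne)

/-- An idempotent in the centraliser algebra of `N`, central there, all of whose restrictions
to `N` are nilpotent, is zero. -/
theorem eq_zero_of_restr_nilpotent {x : MonoidAlgebra k G} (hxA : x ∈ fixAlg k N)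
    (hxx : x * x = x) (hxc : ∀ u ∈ fixAlg k N, Commute x u)
    (hnil : ∀ u ∈ fixAlg k N, IsNilpotent (cosetPart (1 : G ⧸ N) (x * u))) : x = 0 := by
  classical
  by_contra hx0
  let _ := Fintype.ofFinite (G ⧸ N)
  let A₀ := suppAlg k N ⊓ fixAlg k N
  -- choose `c` with `c x ≠ 0` and maximal annihilator
  have : Module.Finite k (MonoidAlgebra k G) :=
    Module.Finite.equiv (MonoidAlgebra.coeffLinearEquiv k).symm
  let Kset : Set (Submodule k (MonoidAlgebra k G)) :=
    {K | ∃ c ∈ A₀, c * x ≠ 0 ∧ K = LinearMap.ker (LinearMap.mulLeft k c)}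
  obtain ⟨K, ⟨c, hcA, hcx, rfl⟩, hmax⟩ := wellFounded_gt.has_min Kset
    ⟨_, 1, A₀.one_mem, by rwa [one_mul], rfl⟩
  have hkill : ∀ j ∈ A₀, IsNilpotent j → j * (c * x) = 0 := by
    intro j hjA ⟨m, hm⟩
    by_contra hj
    have hjc : Commute j c := BrauerPairs.commute_of_supp_fix hjA.1 hcA.2
    refine hmax _ ⟨j * c, A₀.mul_mem hjA hcA, by rwa [mul_assoc], rfl⟩ ?_
    refine lt_of_le_of_ne (fun y hy => ?_) fun heq => ?_
    · rw [LinearMap.mem_ker, LinearMap.mulLeft_apply] at hy ⊢
      rw [mul_assoc, hy, mul_zero]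
    · have step : ∀ i, c * (j ^ i * x) ≠ 0 := by
        intro i
        induction i with
        | zero => simpa using hcx
        | succ i ih =>
          intro h0
          apply ih
          have h1 : j ^ i * x ∈ LinearMap.ker (LinearMap.mulLeft k (j * c)) := by
            rw [LinearMap.mem_ker, LinearMap.mulLeft_apply]
            rw [hjc.eq, mul_assoc, ← mul_assoc j, ← pow_succ', h0]
          rwa [← heq, LinearMap.mem_ker, LinearMap.mulLeft_apply] at h1
      exact step m (by rw [hm, zero_mul, mul_zero])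
  set w := c * x with hw
  have hxw : x * w = w := by
    rw [hw, ← mul_assoc, (hxc c hcA.2).eq, mul_assoc, hxx]
  -- arbitrarily long non-vanishing products of components
  let P := fun l : List (G ⧸ N) => (l.map fun q => cosetPart q x).prod
  have hlong : ∀ r : ℕ, ∃ l : List (G ⧸ N), l.length = r ∧ P l * w ≠ 0 := by
    intro r
    induction r with
    | zero => exact ⟨[], rfl, by simpa [P] using hcx⟩
    | succ r ih =>
      obtain ⟨l, hl, hne⟩ := ih
      have hsum : P l * w = ∑ q : G ⧸ N, P l * (cosetPart q x * w) := by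
        rw [← Finset.mul_sum, ← Finset.sum_mul, sum_cosetPart, hxw]
      obtain ⟨q, -, hq⟩ := Finset.exists_ne_zero_of_sum_ne_zero (hsum ▸ hne)
      refine ⟨l ++ [q], by simp [hl], ?_⟩
      simpa [P, List.prod_append, mul_assoc] using hq
  obtain ⟨l, hl, hne⟩ := hlong (Nat.card (G ⧸ N))
  obtain ⟨i, j, hij, heq⟩ := Fintype.exists_ne_map_eq_of_card_lt
    (fun i : Fin (l.length + 1) => (l.take i.1).prod) (by
      rw [Fintype.card_fin, hl, Nat.card_eq_fintype_card]
      exact Nat.lt_succ_self _)
  wlog hlt : i.1 < j.1 generalizing i j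
  · exact this j i (Ne.symm hij) heq.symm
      (lt_of_le_of_ne (not_lt.1 hlt) fun h => hij (Fin.ext h.symm))
  set seg := (l.drop i.1).take (j.1 - i.1) with hseg
  have hsplit : l.take j.1 = l.take i.1 ++ seg := by
    conv_lhs => rw [show j.1 = i.1 + (j.1 - i.1) by omega]
    rw [List.take_add]
  have hl2 : l = l.take i.1 ++ seg ++ l.drop j.1 := by
    rw [← hsplit, List.take_append_drop]
  have hdeg : seg.prod = 1 := by
    have h1 : (l.take i.1).prod = (l.take j.1).prod := heq
    rw [hsplit, List.prod_append] at h1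
    exact mul_eq_left.1 h1.symm
  have hseg0 : seg ≠ [] := by
    intro h
    have := congrArg List.length h
    simp only [hseg, List.length_take, List.length_drop, List.length_nil] at this
    have := j.2
    omega
  obtain ⟨q, rest, hqr⟩ := List.exists_cons_of_ne_nil hseg0
  have hrest : rest.prod = q⁻¹ := by
    rw [hqr, List.prod_cons] at hdeg
    exact eq_inv_of_mul_eq_one_right hdeg
  have hv := inCoset_prod x rest
  rw [hrest] at hv
  have hvA := prod_cosetPart_mem_fixAlg hxA rest
  have hj := hnil _ hvA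
  rw [cosetPart_one_mul x hv] at hj
  have hjA : P seg ∈ A₀ := by
    refine ⟨fun y hy => ?_, prod_cosetPart_mem_fixAlg hxA seg⟩
    have := inCoset_prod x seg y hy
    rw [hdeg] at this
    simpa using this
  have hkill' : P seg * w = 0 := hkill _ hjA (by simpa [P, hqr] using hj)
  apply hne
  have hP : P l = P (l.take i.1) * (P seg * P (l.drop j.1)) := by
    conv_lhs => rw [hl2]
    simp [P, mul_assoc]
  rw [hP, (BrauerPairs.commute_of_supp_fix hjA.1 (prod_cosetPart_mem_fixAlg hxA _)).eq,
    mul_assoc, mul_assoc, hkill', mul_zero, mul_zero]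

end Grading

section Lift

variable {p : ℕ} {M : Ideal AlgInt}

/-- An idempotent with integral coefficients all lying in the local ideal is zero. -/
theorem eq_zero_of_idempotent_mem_ideal [M.IsMaximal] (hM : IsPModular p M) {G : Type*} [Group G]
    [Fintype G] {z : MonoidAlgebra ℂ G} (hz : z * z = z)
    (hzI : ∀ x, MemLocalIdeal M (z.coeff x)) (hzR : ∀ x, z.coeff x ∈ Blocks.lRing hM) : z = 0 := by
  classical
  let v : G → Blocks.lRing hM := fun x => ⟨z.coeff x, hzR x⟩
  let A : Matrix G G (Blocks.lRing hM) := 1 - Matrix.of fun x y => v (x * y⁻¹)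
  have hdet : A.det ≠ 0 := by
    intro h0
    have h1 := RingHom.map_det (resK hM) A
    have hA : (resK hM).mapMatrix A = 1 := by
      rw [map_sub, map_one, sub_eq_self]
      ext x y
      exact (BrauerPairs.resK_eq_zero_iff hM _).2 (hzI _)
    rw [h0, map_zero, hA, Matrix.det_one] at h1
    exact zero_ne_one h1
  have hAv : A.mulVec v = 0 := by
    funext x
    rw [Matrix.sub_mulVec, Matrix.one_mulVec, Pi.sub_apply, Pi.zero_apply, sub_eq_zero]
    apply Subtype.ext
    have h := congrArg (fun t => t.coeff x) hz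
    simp only [BrauerPairs.coeff_mul_fintype] at h
    show z.coeff x = ((∑ y, v (x * y⁻¹) * v y : Blocks.lRing hM) : ℂ)
    rw [AddSubmonoidClass.coe_finsetSum]
    refine h.symm.trans (Fintype.sum_equiv ((Equiv.inv G).trans (Equiv.mulRight x)) _ _ fun y => ?_)
    show z.coeff y * z.coeff (y⁻¹ * x) = z.coeff (x * (y⁻¹ * x)⁻¹) * z.coeff (y⁻¹ * x)
    simp [mul_inv_rev]
  have hv := Matrix.eq_zero_of_mulVec_eq_zero hdet hAv
  ext x
  exact congrArg Subtype.val (congrFun hv x)

end Lift

variable {p : ℕ} {M : Ideal AlgInt} {G : Type*} [Group G] [Fintype G]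
  (N : Subgroup G) [hN : N.Normal] [Fintype N]

/-- The restriction to `N` of the product of a block idempotent with `u`. -/
noncomputable def blockRes (B : Set (IrrCharacter G)) (u : G → ℂ) (n : N) : ℂ :=
  ((Blocks.blockIdem B) * Blocks.ofFun u).coeff (n : G)

omit hN [Fintype N] in
theorem blockRes_mem (hM : IsPModular p M) {B : Set (IrrCharacter G)} (hB : IsPBlock M B)
    {u : G → ℂ} (hu : ∀ x, u x ∈ Blocks.lRing hM) (n : N) :
    blockRes N B u n ∈ Blocks.lRing hM := by
  have := hM.2.1
  refine BrauerPairs.coeff_mul_mem hM (fun x => ?_) (fun x => ?_) (n : G)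
  · rw [Blocks.coeff_blockIdem]; exact BrauerPairs.blockCoeff_mem hM hB x
  · simpa using hu x

omit hN [Fintype N] in
theorem blockRes_conj {B : Set (IrrCharacter G)} {u : G → ℂ}
    (hu : ∀ a ∈ N, ∀ x, u (a * x * a⁻¹) = u x) (a n : N) :
    blockRes N B u (a * n * a⁻¹) = blockRes N B u n := by
  unfold blockRes
  rw [BrauerPairs.coeff_mul_fintype, BrauerPairs.coeff_mul_fintype]
  refine Fintype.sum_equiv (MulAut.conj (a : G)⁻¹).toEquiv _ _ fun y => ?_
  simp only [MulEquiv.toEquiv_eq_coe, EquivLike.coe_coe, MulAut.conj_apply, inv_inv,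
    Blocks.coeff_blockIdem, Blocks.coeff_ofFun, Subgroup.coe_mul, Subgroup.coe_inv]
  have h1 := isClassFunction_blockCoeff B y (a : G)⁻¹
  rw [inv_inv] at h1
  rw [h1]
  congr 1
  rw [← hu a a.2 (((a : G)⁻¹ * y * (a : G))⁻¹ * (n : G))]
  congr 1
  group

/-- If `B` covers `b`, the restrictions of `e_B u` detect every member of `b`. -/
theorem exists_blockRes_unit (hM : IsPModular p M) {B : Set (IrrCharacter G)} (hB : IsPBlock M B)
    {b : Set (IrrCharacter N)} (hb : IsPBlock M b) {χ : IrrCharacter G} (hχ : χ ∈ B)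
    {θ₀ : IrrCharacter N} (hθ₀ : θ₀ ∈ b)
    (hcov : classInner (fun n : N => (χ : G → ℂ) n) (θ₀ : N → ℂ) ≠ 0)
    {θ : IrrCharacter N} (hθ : θ ∈ b) :
    ∃ u : G → ℂ, (∀ x, MemLocalRing M (u x)) ∧ (∀ a ∈ N, ∀ x, u (a * x * a⁻¹) = u x) ∧
      ¬ MemLocalIdeal M ((∑ n : N, blockRes N B u n * (θ : N → ℂ) n) / (θ : N → ℂ) 1) := by
  classical
  by_contra! hcon
  have := hM.2.1
  have := BrauerPairs.charP_res hM
  let k := ResK M
  set E : MonoidAlgebra k G := eG hM B with hE
  set f : MonoidAlgebra k G := inclA k N (eG hM b) with hf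
  have hEid : E * E = E := (BrauerPairs.isBlockIdem_eG hM hB).idem
  have hEtop : E ∈ fixAlg k (⊤ : Subgroup G) := (BrauerPairs.isBlockIdem_eG hM hB).fixed
  have hEfix : E ∈ fixAlg k N := BrauerPairs.fixAlg_anti le_top hEtop
  have hfs : f ∈ suppAlg k N := BrauerPairs.inclA_mem_suppAlg _
  have hfA : f ∈ fixAlg k N :=
    (BrauerPairs.inclA_mem_fixAlg_iff _).2 (BrauerPairs.isBlockIdem_eG hM hb).fixed
  have hff : f * f = f := by rw [hf, ← map_mul, (BrauerPairs.isBlockIdem_eG hM hb).idem]
  have hEc : ∀ v, Commute E v := fun v =>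
    (BrauerPairs.commute_of_supp_fix (BrauerPairs.mem_suppAlg_top v) hEtop).symm
  have hx0 : E * f = 0 := by
    refine eq_zero_of_restr_nilpotent (N := N) ((fixAlg k N).mul_mem hEfix hfA) ?_ ?_ ?_
    · rw [(hEc f).symm.mul_mul_mul_comm, hEid, hff]
    · intro v hv
      exact Commute.mul_left (hEc v) (BrauerPairs.commute_of_supp_fix hfs hv)
    intro v hv
    -- lift `v` to an invariant integral function
    choose s hs using BrauerPairs.resK_surjective hM
    let u : G → ℂ := fun x => (s (v.coeff x) : ℂ)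
    have huR : ∀ x, u x ∈ Blocks.lRing hM := fun x => (s (v.coeff x)).2
    have huc : ∀ a ∈ N, ∀ x, u (a * x * a⁻¹) = u x := fun a ha x => by
      simp only [u, BrauerPairs.mem_fixAlg_iff_coeff.1 hv a ha x]
    have hvu : redFun hM u = v := by
      ext x
      rw [BrauerPairs.coeff_redFun hM (huR x)]
      exact hs _
    have hcl : ∀ g n : N, blockRes N B u (g * n * g⁻¹) = blockRes N B u n :=
      fun g n => blockRes_conj N huc g n
    have hcR := blockRes_mem N hM hB huR
    have hres : redFun hM (blockRes N B u) = restrA k N (E * v) := by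
      ext n
      rw [BrauerPairs.coeff_restrA, ← hvu, hE,
        show redFun hM u = redFun hM ((Blocks.ofFun u).coeff ·) by simp,
        show eG hM B = redFun hM ((Blocks.blockIdem B).coeff ·) by simp [eG],
        ← BrauerPairs.redFun_mul hM (fun x => by
          rw [Blocks.coeff_blockIdem]; exact BrauerPairs.blockCoeff_mem hM hB x)
          (fun x => by simpa using huR x)]
      exact BrauerPairs.coeff_redFun_congr hM rfl
    have hnil := BrauerPairs.nilpotent_sub hM hb hθ hcR hcl
    rw [(BrauerPairs.resK_eq_zero_iff hM _).2 ?_, zero_smul, sub_zero, hres] at hnil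
    · obtain ⟨m, hm⟩ := hnil
      refine ⟨m, ?_⟩
      have h1 : cosetPart (1 : G ⧸ N) (E * f * v) = inclA k N (restrA k N (E * v) * eG hM b) := by
        rw [map_mul, inclA_restrA_eq_cosetPart, mul_assoc,
          (BrauerPairs.commute_of_supp_fix hfs hv).eq, ← mul_assoc]
        ext y
        by_cases hy : QuotientGroup.mk' N y = 1
        · rw [coeff_cosetPart_self _ hy, BrauerPairs.coeff_mul_fintype,
            BrauerPairs.coeff_mul_fintype]
          refine Finset.sum_congr rfl fun z _ => ?_
          by_cases hz : QuotientGroup.mk' N z = 1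
          · rw [coeff_cosetPart_self _ hz, hf]
          · rw [coeff_cosetPart_of_ne _ hz, zero_mul,
              BrauerPairs.coeff_inclA_of_notMem _ (fun h => hz ?_), mul_zero]
            have h' : QuotientGroup.mk' N (z⁻¹ * y) = 1 := (QuotientGroup.eq_one_iff _).2 h
            rw [map_mul, map_inv, hy, mul_one, inv_eq_one] at h'
            exact h'
        · rw [coeff_cosetPart_of_ne _ hy]
          by_contra hne
          apply hy
          have h2 := (inCoset_cosetPart (1 : G ⧸ N) (E * v)).mul (r := 1)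
            (b := inclA k N (eG hM b)) (fun z hz => ?_) y (Ne.symm hne)
          · simpa using h2
          · simpa using BrauerPairs.inclA_mem_suppAlg _ z hz
      rw [h1, ← map_pow, hm, map_zero]
    · show MemLocalIdeal M (∑ᶠ n : N, blockRes N B u n * (θ : N → ℂ) n / (θ : N → ℂ) 1)
      rw [finsum_eq_sum_of_fintype, ← Finset.sum_div]
      exact hcon u huR huc
  -- lift the vanishing to characteristic zero
  set F : MonoidAlgebra ℂ G := inclA ℂ N (Blocks.blockIdem b) with hF
  have hFR : ∀ x, F.coeff x ∈ Blocks.lRing hM := fun x => by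
    by_cases hx : x ∈ N
    · rw [hF, BrauerPairs.coeff_inclA (Blocks.blockIdem b) ⟨x, hx⟩, Blocks.coeff_blockIdem]
      exact BrauerPairs.blockCoeff_mem hM hb _
    · rw [hF, BrauerPairs.coeff_inclA_of_notMem _ hx]; exact Subring.zero_mem _
  have hBR : ∀ x, (Blocks.blockIdem B).coeff x ∈ Blocks.lRing hM := fun x => by
    rw [Blocks.coeff_blockIdem]; exact BrauerPairs.blockCoeff_mem hM hB x
  have hfF : redFun hM (F.coeff ·) = f := by
    ext x
    by_cases hx : x ∈ N
    · rw [hf, BrauerPairs.coeff_inclA (eG hM b) ⟨x, hx⟩]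
      refine (BrauerPairs.coeff_redFun_congr hM ?_).symm
      rw [hF, BrauerPairs.coeff_inclA (Blocks.blockIdem b) ⟨x, hx⟩, Blocks.coeff_blockIdem]
    · rw [hf, BrauerPairs.coeff_inclA_of_notMem _ hx, BrauerPairs.coeff_redFun hM (hFR x)]
      refine (BrauerPairs.resK_eq_zero_iff hM _).2 ?_
      show MemLocalIdeal M (F.coeff x)
      rw [hF, BrauerPairs.coeff_inclA_of_notMem _ hx]
      exact Blocks.memLocalIdeal_zero hM
  set z := Blocks.blockIdem B * F with hz
  have hz0 : z = 0 := by
    refine eq_zero_of_idempotent_mem_ideal hM ?_ (fun x => ?_)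
      (fun x => BrauerPairs.coeff_mul_mem hM hBR hFR x)
    · have hc : Commute (Blocks.blockIdem B) F :=
        ((Subalgebra.mem_center_iff.1 (Blocks.blockIdem_mem_center B)) F).symm
      rw [hz, hc.symm.mul_mul_mul_comm, Blocks.isIdempotentElem_blockIdem B, hF, ← map_mul,
        Blocks.isIdempotentElem_blockIdem b]
    · have h1 : redFun hM (z.coeff ·) = E * f := by
        rw [hz, BrauerPairs.redFun_mul hM hBR hFR, hfF]
        simp [hE, eG]
      rw [hx0] at h1
      have h2 := congrArg (fun t => t.coeff x) h1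
      simp only [BrauerPairs.coeff_redFun hM (c := (z.coeff ·))
        (BrauerPairs.coeff_mul_mem hM hBR hFR x)] at h2
      exact (BrauerPairs.resK_eq_zero_iff hM _).1 (h2.trans (by simp))
  -- evaluate at `χ`
  have hsum : ∑ n : N, blockCoeff b n * (χ : G → ℂ) n = 0 := by
    have h0 : ∑ g : G, z.coeff g * (χ : G → ℂ) g = 0 := by simp [hz0]
    rw [← h0]
    simp only [hz, BrauerPairs.coeff_mul_fintype, Finset.sum_mul]
    rw [Finset.sum_comm]
    have hinner : ∀ y : G, ∑ g : G, (Blocks.blockIdem B).coeff y * F.coeff (y⁻¹ * g) *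
        (χ : G → ℂ) g = ∑ n : N, blockCoeff B y * (blockCoeff b n * (χ : G → ℂ) (y * n)) := by
      intro y
      rw [← Equiv.sum_comp (Equiv.mulLeft y)]
      simp only [Equiv.coe_mulLeft, inv_mul_cancel_left, Blocks.coeff_blockIdem, mul_assoc]
      rw [← Finset.sum_subset (Finset.subset_univ (Finset.univ.map
        (Function.Embedding.subtype (· ∈ N)))) (fun g _ hg => ?_), Finset.sum_map]
      · refine Finset.sum_congr rfl fun n _ => ?_
        rw [hF, Function.Embedding.coe_subtype, BrauerPairs.coeff_inclA,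
          Blocks.coeff_blockIdem]
      · have : g ∉ N := fun h => hg (by simp [h])
        rw [hF, BrauerPairs.coeff_inclA_of_notMem _ this]
        ring
    rw [Finset.sum_congr rfl fun y _ => hinner y, Finset.sum_comm]
    refine Finset.sum_congr rfl fun n _ => ?_
    rw [show (∑ y : G, blockCoeff B y * (blockCoeff b n * (χ : G → ℂ) (y * n))) =
      blockCoeff b n * ∑ y : G, blockCoeff B y * (χ : G → ℂ) (y * n) by
        rw [Finset.mul_sum]; exact Finset.sum_congr rfl fun y _ => by ring,
      CharCorr.sum_classFn_mul_irr χ (isClassFunction_blockCoeff B), sum_blockCoeff_mul,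
      if_pos hχ, one_mul]
  choose m hm using fun ψ => CfsgLib.NormalRes.mult_nat N
    (CfsgLib.Characters.irr_isCharacter χ) ψ
  have hdec : ∀ n : N, (χ : G → ℂ) n = ∑ ψ : IrrCharacter N, (m ψ : ℂ) * (ψ : N → ℂ) n := by
    intro n
    rw [CfsgLib.NormalRes.res_eq_sum N (irr_isClassFunction χ) n]
    simp [hm]
  have h3 : ∀ ψ : IrrCharacter N, ∑ n : N, blockCoeff b n * (ψ : N → ℂ) n =
      if ψ ∈ b then (charDegree (ψ : N → ℂ) : ℂ) else 0 := by
    intro ψ
    have := sum_blockCoeff_mul b ψ
    rw [div_eq_iff (irr_one_ne_zero ψ)] at this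
    rw [this, ite_mul, one_mul, zero_mul, CharCorr.irr_one_eq_charDegree]
  have h4 : ((∑ ψ ∈ Finset.univ.filter (· ∈ b), m ψ * charDegree (ψ : N → ℂ) : ℕ) : ℂ) = 0 := by
    rw [← hsum]
    simp only [hdec, Finset.mul_sum]
    rw [Finset.sum_comm]
    push_cast
    rw [Finset.sum_filter]
    refine Finset.sum_congr rfl fun ψ _ => ?_
    rw [show (∑ n : N, blockCoeff b n * ((m ψ : ℂ) * (ψ : N → ℂ) n)) =
      (m ψ : ℂ) * ∑ n : N, blockCoeff b n * (ψ : N → ℂ) n by
        rw [Finset.mul_sum]; exact Finset.sum_congr rfl fun y _ => by ring, h3, mul_ite, mul_zero]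
  have h5 := Finset.sum_eq_zero_iff.1 (Nat.cast_eq_zero.1 h4) θ₀ (by simp [hθ₀])
  refine hcov ?_
  show CfsgLib.NormalRes.mult N (χ : G → ℂ) θ₀ = 0
  rw [hm, (mul_eq_zero.1 h5).resolve_right (charDegree_ne_zero θ₀), Nat.cast_zero]

end CfsgLib.BlockCover
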