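import Cfsg.Agent.Lib.BlockCover.DefectRank
import Cfsg.Agent.Lib.BlockCover.BrauerHom
import Cfsg.Agent.Lib.Blocks.DefectInduced

/-! # Green's theorem: a defect group is an intersection of two Sylow subgroups -/

set_option autoImplicit false
open Cfsg

namespace CfsgLib.BlockCover

/-- Orbitwise divisibility of an invariant sum. -/
theorem dvd_sum_of_orbits {Γ α : Type*} [Group Γ] [Fintype α] [MulAction Γ α] {f : α → ℕ}
    (hf : ∀ (u : Γ) (a : α), f (u • a) = f a) {n : ℕ}
    (h : ∀ a : α, n ∣ (MulAction.stabilizer Γ a).index * f a) : n ∣ ∑ a, f a := by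
  classical
  rw [← Finset.sum_fiberwise Finset.univ
    (fun a : α => (Quotient.mk'' a : MulAction.orbitRel.Quotient Γ α)) f]
  refine Finset.dvd_sum fun q _ => ?_
  obtain ⟨a, rfl⟩ := Quotient.exists_rep q
  have hmem : ∀ b : α, (Quotient.mk'' b : MulAction.orbitRel.Quotient Γ α) = Quotient.mk'' a ↔
      b ∈ MulAction.orbit Γ a := fun b => by
    rw [Quotient.eq'', MulAction.orbitRel_apply]
  rw [Finset.sum_congr rfl (g := fun _ => f a), Finset.sum_const, smul_eq_mul]
  · have h' := h a
    rw [MulAction.index_stabilizer] at h'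
    have he : (Finset.univ.filter fun b : α => (Quotient.mk'' b :
        MulAction.orbitRel.Quotient Γ α) = Quotient.mk'' a).card =
        (MulAction.orbit Γ a).ncard := by
      rw [← Set.ncard_coe_finset]
      congr 1
      ext b
      simpa using hmem b
    rw [← he] at h'
    exact h'
  · intro b hb
    obtain ⟨u, rfl⟩ := MulAction.mem_orbit_iff.1 ((hmem b).1 (Finset.mem_filter.1 hb).2)
    exact hf u a

variable {p : ℕ} [hp : Fact p.Prime] {G : Type*} [Group G] [Fintype G]

/-- The conjugation action of `R` on a set stable under it. -/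
@[reducible] def conjAction (R : Subgroup G) (P : G → Prop)
    (h : ∀ u ∈ R, ∀ z, P z → P (u * z * u⁻¹)) : MulAction R {z : G // P z} where
  smul u z := ⟨u * z.1 * (u : G)⁻¹, h u u.2 z.1 z.2⟩
  one_smul z := Subtype.ext (show ((1 : R) : G) * z.1 * ((1 : R) : G)⁻¹ = z.1 by simp)
  mul_smul u v z := Subtype.ext (show ((u * v : R) : G) * z.1 * ((u * v : R) : G)⁻¹ =
    u * (v * z.1 * (v : G)⁻¹) * (u : G)⁻¹ by simp [mul_assoc])

omit [Fintype G] hp in
theorem mem_stabilizer_conjAction {R : Subgroup G} {P : G → Prop}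
    (h : ∀ u ∈ R, ∀ z, P z → P (u * z * u⁻¹)) (z : {z : G // P z}) (u : R) :
    letI := conjAction R P h
    u ∈ MulAction.stabilizer R z ↔ (u : G) ∈ Subgroup.centralizer ({z.1} : Set G) := by
  let _ := conjAction R P h
  rw [MulAction.mem_stabilizer_iff, Subtype.ext_iff, Subgroup.mem_centralizer_singleton_iff]
  show (u : G) * z.1 * (u : G)⁻¹ = z.1 ↔ _
  exact mul_inv_eq_iff_eq_mul

/-- The stabiliser of `z` in a `p`-subgroup acting by conjugation. -/
theorem stabilizer_conjAction {R : Subgroup G} (hR : IsPGroup p R) {P : G → Prop}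
    (h : ∀ u ∈ R, ∀ z, P z → P (u * z * u⁻¹)) (z : {z : G // P z}) :
    letI := conjAction R P h
    ∃ j k : ℕ, Nat.card R = p ^ j ∧
      Nat.card ↥(R ⊓ Subgroup.centralizer ({z.1} : Set G)) = p ^ k ∧ k ≤ j ∧
      k ≤ (Nat.card (Subgroup.centralizer ({z.1} : Set G))).factorization p ∧
      (MulAction.stabilizer R z).index = p ^ (j - k) := by
  let _ := conjAction R P h
  obtain ⟨j, hj⟩ := hR.exists_card_eq
  have hst : MulAction.stabilizer R z =
      (Subgroup.centralizer ({z.1} : Set G)).subgroupOf R := by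
    ext u
    rw [mem_stabilizer_conjAction h z u, Subgroup.mem_subgroupOf]
  obtain ⟨k, hk⟩ := (hR.to_le (inf_le_left :
    R ⊓ Subgroup.centralizer ({z.1} : Set G) ≤ R)).exists_card_eq
  have hs : Nat.card (MulAction.stabilizer R z) = p ^ k := by
    rw [hst, ← hk, ← Subgroup.inf_subgroupOf_left]
    exact Nat.card_congr (Subgroup.subgroupOfEquivOfLe inf_le_left).toEquiv
  have hkj : k ≤ j := (Nat.pow_le_pow_iff_right hp.out.one_lt).1 (by
    rw [← hk, ← hj]; exact Subgroup.card_le_of_le inf_le_left)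
  have hkc : p ^ k ∣ Nat.card (Subgroup.centralizer ({z.1} : Set G)) :=
    hk ▸ Subgroup.card_dvd_of_le inf_le_right
  refine ⟨j, k, hj, hk, hkj, (hp.out.pow_dvd_iff_le_factorization Nat.card_pos.ne').1 hkc, ?_⟩
  have := (MulAction.stabilizer R z).card_mul_index
  rw [hs, hj, ← Nat.add_sub_cancel' hkj, pow_add] at this
  exact Nat.eq_of_mul_eq_mul_left (pow_pos hp.out.pos k) this

omit hp in
theorem centralizer_card_factorization_of_isConj {g y : G} (h : IsConj g y) :
    (Nat.card (Subgroup.centralizer ({y} : Set G))).factorization p =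
      (Nat.card (Subgroup.centralizer ({g} : Set G))).factorization p := by
  have h1 := factorization_card_eq (p := p) (Subgroup.centralizer ({y} : Set G))
  have h2 := factorization_card_eq (p := p) (Subgroup.centralizer ({g} : Set G))
  have h3 : (Subgroup.centralizer ({y} : Set G)).index =
      (Subgroup.centralizer ({g} : Set G)).index := by
    rw [← CfsgLib.Blocks.natCard_isConj, ← CfsgLib.Blocks.natCard_isConj]
    exact Nat.card_congr (Equiv.subtypeEquivRight fun z => ⟨h.trans, h.symm.trans⟩)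
  rw [h3] at h1
  omega

/-- If the pair count has the smallest possible `p`-part, some member of the first class is
centralised by the intersection of the Sylow group with its conjugate. -/
theorem exists_of_pairCount_not_dvd (S : Sylow p G) {g h : G} {e : ℕ}
    (hg : (Nat.card (Subgroup.centralizer ({g} : Set G))).factorization p = e)
    (hh : (Nat.card (Subgroup.centralizer ({h} : Set G))).factorization p = e)
    (hne : ¬ p ^ ((Nat.card G).factorization p - e + 1) ∣ pairCount (S : Subgroup G) g h) :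
    ∃ y : G, IsConj g y ∧
      (S : Subgroup G) ⊓ (S : Subgroup G).comap (MulAut.conj y).toMonoidHom ≤
        Subgroup.centralizer ({y} : Set G) ∧
      Nat.card ↥((S : Subgroup G) ⊓ (S : Subgroup G).comap (MulAut.conj y).toMonoidHom) =
        p ^ e := by
  classical
  by_contra hbad
  apply hne
  set a := (Nat.card G).factorization p with ha
  have hconj : ∀ {x : G}, ∀ u ∈ (S : Subgroup G), ∀ z, IsConj x z → IsConj x (u * z * u⁻¹) :=
    fun u _ z hz => hz.trans (isConj_iff.2 ⟨u, rfl⟩)
  let _ := conjAction (S : Subgroup G) (IsConj g) hconj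
  let f : {y : G // IsConj g y} → ℕ := fun y =>
    Nat.card {z : G // IsConj h z ∧ z * y.1⁻¹ ∈ (S : Subgroup G)}
  have hcount : pairCount (S : Subgroup G) g h = ∑ y, f y := by
    rw [pairCount, ← Nat.card_sigma]
    exact Nat.card_congr
      { toFun := fun yz => ⟨⟨yz.1.1, yz.2.1⟩, ⟨yz.1.2, yz.2.2.1, yz.2.2.2⟩⟩
        invFun := fun t => ⟨(t.1.1, t.2.1), t.1.2, t.2.2.1, t.2.2.2⟩
        left_inv := fun _ => rfl
        right_inv := fun _ => rfl }
  rw [hcount]
  refine dvd_sum_of_orbits (Γ := (S : Subgroup G)) (fun u y => ?_) fun y => ?_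
  · refine Nat.card_congr ((MulAut.conj (u : G)).symm.toEquiv.subtypeEquiv fun z => ?_)
    show IsConj h z ∧ z * ((u : G) * y.1 * (u : G)⁻¹)⁻¹ ∈ (S : Subgroup G) ↔
      IsConj h ((MulAut.conj (u : G)).symm z) ∧ _
    rw [MulAut.conj_symm_apply]
    have h1 : z * ((u : G) * y.1 * (u : G)⁻¹)⁻¹ =
        (u : G) * ((u : G)⁻¹ * z * u * y.1⁻¹) * (u : G)⁻¹ := by group
    refine and_congr ⟨fun hz => hz.trans (isConj_iff.2 ⟨(u : G)⁻¹, by simp⟩),
      fun hz => hz.trans (isConj_iff.2 ⟨u, by group⟩)⟩ ?_
    show z * ((u : G) * y.1 * (u : G)⁻¹)⁻¹ ∈ (S : Subgroup G) ↔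
      (MulAut.conj (u : G)).symm z * y.1⁻¹ ∈ (S : Subgroup G)
    rw [MulAut.conj_symm_apply, h1,
      Subgroup.mul_mem_cancel_right _ ((S : Subgroup G).inv_mem u.2),
      Subgroup.mul_mem_cancel_left _ u.2]
  · obtain ⟨j, k, hj, hk, -, hke, hidx⟩ := stabilizer_conjAction S.2 hconj y
    have hja : j = a := Nat.pow_right_injective hp.out.two_le
      (show p ^ j = p ^ a by rw [← hj, S.card_eq_multiplicity])
    rw [hidx, hja]
    rw [centralizer_card_factorization_of_isConj y.2, hg] at hke
    rcases hke.lt_or_eq with hlt | rfl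
    · exact Dvd.dvd.mul_right (pow_dvd_pow p (by
        have := factorization_card_eq (p := p) (Subgroup.centralizer ({g} : Set G))
        rw [hg] at this
        omega)) _
    set R := (S : Subgroup G) ⊓ (S : Subgroup G).comap (MulAut.conj y.1).toMonoidHom with hR
    have hCR : (S : Subgroup G) ⊓ Subgroup.centralizer ({y.1} : Set G) ≤ R := by
      rintro u ⟨h1, h2⟩
      refine ⟨h1, Subgroup.mem_comap.2 ?_⟩
      show MulAut.conj y.1 u ∈ (S : Subgroup G)
      rw [MulAut.conj_apply, ← Subgroup.mem_centralizer_singleton_iff.1 h2, mul_inv_cancel_right]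
      exact h1
    obtain ⟨r, hr⟩ := (S.2.to_le (inf_le_left : R ≤ S)).exists_card_eq
    have hkr : k < r := by
      refine lt_of_le_of_ne ((Nat.pow_le_pow_iff_right hp.out.one_lt).1
        (hk ▸ hr ▸ Subgroup.card_le_of_le hCR)) fun heq => hbad ⟨y.1, y.2, ?_, ?_⟩
      · exact (Subgroup.eq_of_le_of_card_ge hCR (by rw [hr, hk, heq])).ge.trans inf_le_right
      · rw [hr, ← heq]
    rw [pow_add, pow_one]
    refine Nat.mul_dvd_mul_left _ ?_
    -- the second class meets the coset in orbits of size divisible by `p`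
    have hstab : ∀ v ∈ R, ∀ z, (IsConj h z ∧ z * y.1⁻¹ ∈ (S : Subgroup G)) →
        IsConj h (v * z * v⁻¹) ∧ v * z * v⁻¹ * y.1⁻¹ ∈ (S : Subgroup G) := by
      rintro v ⟨hv1, hv2⟩ z ⟨hz1, hz2⟩
      refine ⟨hz1.trans (isConj_iff.2 ⟨v, rfl⟩), ?_⟩
      have h2 : y.1 * v * y.1⁻¹ ∈ (S : Subgroup G) := hv2
      have h3 : v * z * v⁻¹ * y.1⁻¹ = v * (z * y.1⁻¹) * (y.1 * v * y.1⁻¹)⁻¹ := by group
      rw [h3]
      exact mul_mem (mul_mem hv1 hz2) (inv_mem h2)
    let _ := conjAction R _ hstab
    show p ∣ Nat.card _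
    rw [Nat.card_eq_fintype_card, ← Finset.card_univ, Finset.card_eq_sum_ones]
    refine dvd_sum_of_orbits (Γ := R) (fun _ _ => rfl) fun z => ?_
    obtain ⟨j', k', hj', -, -, hk'e, hidx'⟩ :=
      stabilizer_conjAction (S.2.to_le inf_le_left) hstab z
    rw [centralizer_card_factorization_of_isConj z.2.1, hh] at hk'e
    have : j' = r := Nat.pow_right_injective hp.out.two_le
      (show p ^ j' = p ^ r by rw [← hj', hr])
    rw [hidx', mul_one]
    exact dvd_pow_self p (by omega)

variable {M : Ideal AlgInt}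

/-- A defect group is conjugate to the intersection of a given Sylow group with a conjugate,
realised as a Sylow group of the centraliser of a regular element. -/
theorem exists_sylow_inter_of_block (hM : IsPModular p M) {B : Set (IrrCharacter G)}
    (hB : IsPBlock M B) {D : Subgroup G} (hD : IsDefectGroup p M B D) (S : Sylow p G) :
    ∃ (y : G) (t : G), ¬ p ∣ orderOf y ∧
      D.map (MulAut.conj t).toMonoidHom ≤ Subgroup.centralizer ({y} : Set G) ∧
      (Nat.card (Subgroup.centralizer ({y} : Set G))).factorization p =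
        (Nat.card D).factorization p ∧
      (S : Subgroup G) ⊓ (S : Subgroup G).comap (MulAut.conj y).toMonoidHom =
        D.map (MulAut.conj t).toMonoidHom := by
  classical
  let I := {c : ConjClasses G // ∃ g : G, ConjClasses.mk g = c ∧ ¬ p ∣ orderOf g ∧
    ∃ Q : Sylow p (Subgroup.centralizer ({g} : Set G)),
      (Q : Subgroup _).map (Subgroup.centralizer ({g} : Set G)).subtype = D}
  let _ : Fintype I := Fintype.ofFinite I
  choose x hxc hxr hxS using fun i : I => i.2
  have hinj : ∀ i j, IsConj (x i) (x j) → i = j := fun i j hij => Subtype.ext (by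
    rw [← hxc i, ← hxc j]; exact ConjClasses.mk_eq_mk_iff_isConj.2 hij)
  have hall : ∀ g : G, ¬ p ∣ orderOf g → (∃ Q : Sylow p (Subgroup.centralizer ({g} : Set G)),
      (Q : Subgroup _).map (Subgroup.centralizer ({g} : Set G)).subtype = D) →
        ∃ i, IsConj (x i) g := fun g hg hQ =>
    ⟨⟨ConjClasses.mk g, g, rfl, hg, hQ⟩, ConjClasses.mk_eq_mk_iff_isConj.1 (hxc _)⟩
  have hrank := rank_pairCount hM D S x hinj hxr hxS hall
  set m := (Nat.card G).factorization p - (Nat.card D).factorization p with hm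
  obtain ⟨i, j, hij⟩ : ∃ i j : I,
      ¬ p ^ (m + 1) ∣ pairCount (S : Subgroup G) (x i) (x j) := by
    by_contra! hcon
    have h0 : (Matrix.of fun i j : I => ((pairCount (S : Subgroup G) (x i) (x j) /
        p ^ m : ℕ) : ZMod p)) = 0 := by
      ext i j
      obtain ⟨q, hq⟩ := hcon i j
      rw [Matrix.of_apply, Matrix.zero_apply, hq, pow_succ, mul_assoc,
        Nat.mul_div_cancel_left _ (pow_pos hp.out.pos m)]
      simp
    rw [h0, Matrix.rank_zero] at hrank
    have : Nonempty {B : Set (IrrCharacter G) // IsPBlock M B ∧ IsDefectGroup p M B D} :=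
      ⟨⟨B, hB, hD⟩⟩
    exact Nat.card_pos.ne' hrank
  obtain ⟨y, hy, hle, hcard⟩ := exists_of_pairCount_not_dvd S
    (centralizer_of_sylow_eq (hxS i)) (centralizer_of_sylow_eq (hxS j)) hij
  have hyf : (Nat.card (Subgroup.centralizer ({y} : Set G))).factorization p =
      (Nat.card D).factorization p :=
    (centralizer_card_factorization_of_isConj hy).trans (centralizer_of_sylow_eq (hxS i))
  have hyr : ¬ p ∣ orderOf y := by
    obtain ⟨c, rfl⟩ := isConj_iff.1 hy
    rw [show c * x i * c⁻¹ = MulAut.conj c (x i) from rfl, MulEquiv.orderOf_eq]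
    exact hxr i
  obtain ⟨Q, hQ⟩ := hxS i
  obtain ⟨c, rfl⟩ := isConj_iff.1 hy
  obtain ⟨T, hT⟩ := exists_conj_sylow Q c
  set R := (S : Subgroup G) ⊓ (S : Subgroup G).comap (MulAut.conj (c * x i * c⁻¹)).toMonoidHom
    with hR
  have hRS : Nat.card (R.subgroupOf (Subgroup.centralizer ({c * x i * c⁻¹} : Set G))) =
      p ^ (Nat.card (Subgroup.centralizer ({c * x i * c⁻¹} : Set G))).factorization p := by
    rw [Nat.card_congr (Subgroup.subgroupOfEquivOfLe hle).toEquiv, hcard, hyf]
  obtain ⟨u, hu⟩ := MulAction.exists_smul_eq (Subgroup.centralizer ({c * x i * c⁻¹} : Set G)) T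
    (Sylow.ofCard (R.subgroupOf (Subgroup.centralizer ({c * x i * c⁻¹} : Set G))) hRS)
  have heq : R = ((T : Subgroup _).map (Subgroup.centralizer ({c * x i * c⁻¹} : Set G)).subtype).map
      (MulAut.conj (u : G)).toMonoidHom := by
    rw [← Subgroup.map_subgroupOf_eq_of_le hle, ← Sylow.coe_ofCard _ hRS, ← hu,
      Sylow.coe_subgroup_smul]
    show ((T : Subgroup _).map (MulAut.conj u).toMonoidHom).map _ = _
    rw [Subgroup.map_map, Subgroup.map_map]
    congr 1
  refine ⟨_, (u : G) * c, hyr, ?_, hyf, ?_⟩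
  · have : R = D.map (MulAut.conj ((u : G) * c)).toMonoidHom := by
      rw [heq, hT, hQ, Subgroup.map_map]
      congr 1
      ext z
      simp [mul_assoc]
    exact this ▸ hle
  · rw [← hR, heq, hT, hQ, Subgroup.map_map]
    congr 1
    ext z
    simp [mul_assoc]

/-- A `p`-subgroup meeting the normaliser of its subgroup `D` inside `D` equals `D`. -/
theorem eq_of_inf_normalizer_le {D Q : Subgroup G} (hQ : IsPGroup p Q) (hDQ : D ≤ Q)
    (h : Q ⊓ Subgroup.normalizer (D : Set G) ≤ D) : Q = D := by
  refine le_antisymm (fun q hq => ?_) hDQ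
  by_contra hqD
  have := hQ.isNilpotent
  have hlt : D.subgroupOf Q < ⊤ :=
    lt_top_iff_ne_top.2 fun htop => hqD (Subgroup.subgroupOf_eq_top.1 htop hq)
  obtain ⟨v, hv1, hv2⟩ :=
    SetLike.exists_of_lt ((Group.normalizerCondition_of_isNilpotent : NormalizerCondition Q) _ hlt)
  refine hv2 (h ⟨v.2, Subgroup.mem_normalizer_iff.2 fun z => ?_⟩)
  have hn := fun w : Q => (Subgroup.mem_normalizer_iff.1 hv1) w
  constructor
  · intro hz
    exact (hn ⟨z, hDQ hz⟩).1 hz
  · intro hz
    have hzQ : z ∈ Q := by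
      have := Q.mul_mem (Q.mul_mem (Q.inv_mem v.2) (hDQ hz)) v.2
      simpa [mul_assoc] using this
    exact (hn ⟨z, hzQ⟩).2 hz

/-- The normaliser of a defect group has a block with that defect group. -/
theorem exists_block_normalizer (hM : IsPModular p M) {B : Set (IrrCharacter G)}
    (hB : IsPBlock M B) {D : Subgroup G} (hD : IsDefectGroup p M B D) :
    ∃ b : Set (IrrCharacter (Subgroup.normalizer (D : Set G))), IsPBlock M b ∧
      IsDefectGroup p M b (D.subgroupOf (Subgroup.normalizer (D : Set G))) := by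
  classical
  set N := Subgroup.normalizer (D : Set G) with hN
  let _ := Fintype.ofFinite N
  have hDp := isPGroup_defect hM hD
  have hDN : D ≤ N := Subgroup.le_normalizer
  have hCN : Subgroup.centralizer (D : Set G) ≤ N := Subgroup.centralizer_le_normalizer _
  obtain ⟨b, hind⟩ := (exists_induced_iff hM hDp hDN hCN le_rfl hB).2
    ((exists_conj_le_defect_iff hM hB hD hDp).2 ⟨1, by
      rw [show (MulAut.conj (1 : G)).toMonoidHom = MonoidHom.id G by ext z; simp, Subgroup.map_id]⟩)
  refine ⟨b, hind.1, ?_⟩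
  obtain ⟨E, hE⟩ := CfsgLib.Blocks.exists_isDefectGroup hM hind.1
  obtain ⟨E', hE', hle⟩ := CfsgLib.Blocks.exists_defectGroup_map_le hM hind hE
  have : (D.subgroupOf N).Normal := Subgroup.normal_in_normalizer
  have hDE : D.subgroupOf N ≤ E := by
    obtain ⟨x, -, hu, S, rfl⟩ := exists_regular_sylow hM hind.1 hE
    obtain ⟨ξ, hξ⟩ := CfsgLib.Blocks.IsPBlock.nonempty hM hind.1
    have hxc : x ∈ Subgroup.centralizer (D.subgroupOf N : Set N) := by
      by_contra hx
      exact hu ξ hξ (centralChar_mem_ideal_of_not_centralizes hM (D.subgroupOf N)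
        (hDp.comap_of_injective N.subtype N.subtype_injective) ξ hx)
    have hDC : D.subgroupOf N ≤ (Subgroup.centralizer ({x} : Set N)) := fun d hd =>
      Subgroup.mem_centralizer_singleton_iff.2 (Subgroup.mem_centralizer_iff.1 hxc d hd)
    obtain ⟨T, hT⟩ := ((hDp.comap_of_injective N.subtype N.subtype_injective).comap_of_injective
      (Subgroup.centralizer ({x} : Set N)).subtype (Subgroup.centralizer ({x} : Set N)).subtype_injective).exists_le_sylow
    obtain ⟨c, hc⟩ := MulAction.exists_smul_eq (Subgroup.centralizer ({x} : Set N)) T S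
    intro d hd
    rw [← hc]
    refine ⟨⟨d, hDC hd⟩, ?_, rfl⟩
    rw [Sylow.coe_subgroup_smul, SetLike.mem_coe, Subgroup.mem_pointwise_smul_iff_inv_smul_mem, ← map_inv]
    refine hT ?_
    show ((c : N)⁻¹ * d * ((c : N)⁻¹)⁻¹) ∈ D.subgroupOf N
    exact Subgroup.Normal.conj_mem inferInstance d hd _
  have hcard : Nat.card E ≤ Nat.card (D.subgroupOf N) := by
    rw [← natCard_map_subtype E, Nat.card_congr (Subgroup.subgroupOfEquivOfLe hDN).toEquiv,
      natCard_defect hM hB hD, ← natCard_defect hM hB hE']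
    exact Subgroup.card_le_of_le hle
  rwa [Subgroup.eq_of_le_of_card_ge hDE hcard]

/-- Green's theorem. -/
theorem green_intersection (hM : IsPModular p M) {B : Set (IrrCharacter G)}
    (hB : IsPBlock M B) {D : Subgroup G} (hD : IsDefectGroup p M B D) (P : Sylow p G)
    (hDP : D ≤ P) :
    ∃ x : G, ¬ p ∣ orderOf x ∧
      (∃ S : Sylow p (Subgroup.centralizer ({x} : Set G)),
        (S : Subgroup _).map (Subgroup.centralizer ({x} : Set G)).subtype = D) ∧
      (P : Subgroup G) ⊓ (P : Subgroup G).map (MulAut.conj x).toMonoidHom = D := by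
  classical
  let _ := Fintype.ofFinite (Subgroup.normalizer (D : Set G))
  have hDN : D ≤ (Subgroup.normalizer (D : Set G)) := Subgroup.le_normalizer
  obtain ⟨b, hb, hbD⟩ := exists_block_normalizer hM hB hD
  obtain ⟨S, hS⟩ := (P.2.comap_of_injective (Subgroup.normalizer (D : Set G)).subtype (Subgroup.normalizer (D : Set G)).subtype_injective).exists_le_sylow
  obtain ⟨y, t, hyr, hDy, hyf, hSy⟩ := exists_sylow_inter_of_block hM hb hbD S
  have : (D.subgroupOf (Subgroup.normalizer (D : Set G))).Normal := Subgroup.normal_in_normalizer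
  have hmap : (D.subgroupOf (Subgroup.normalizer (D : Set G))).map (MulAut.conj t).toMonoidHom =
      D.subgroupOf (Subgroup.normalizer (D : Set G)) :=
    Subgroup.map_le_iff_le_comap.2 (fun d hd => Subgroup.Normal.conj_mem inferInstance d hd t)
      |>.antisymm fun d hd => ⟨t⁻¹ * d * t⁻¹⁻¹,
        Subgroup.Normal.conj_mem inferInstance d hd t⁻¹,
        show t * (t⁻¹ * d * t⁻¹⁻¹) * t⁻¹ = d by group⟩
  rw [hmap] at hDy hSy
  have hDy' : D ≤ Subgroup.centralizer ({(y : G)} : Set G) := fun d hd => by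
    have := Subgroup.mem_centralizer_singleton_iff.1 (hDy (x := ⟨d, hDN hd⟩) hd)
    exact Subgroup.mem_centralizer_singleton_iff.2 (congrArg Subtype.val this)
  set C := Subgroup.centralizer ({(y : G)} : Set G) with hC
  obtain ⟨Q, hQ⟩ := ((isPGroup_defect hM hD).comap_of_injective C.subtype
    C.subtype_injective).exists_le_sylow
  have hQD : (Q : Subgroup C).map C.subtype = D := by
    have hle : D ≤ (Q : Subgroup C).map C.subtype := fun d hd => ⟨⟨d, hDy' hd⟩, hQ hd, rfl⟩
    refine eq_of_inf_normalizer_le (Q.2.map _) hle ?_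
    -- the part in the normaliser is a `p`-subgroup of the centraliser there
    set W := (Q : Subgroup C).map C.subtype ⊓ (Subgroup.normalizer (D : Set G)) with hW
    have h1 : W.subgroupOf (Subgroup.normalizer (D : Set G)) ≤ Subgroup.centralizer ({y} : Set (Subgroup.normalizer (D : Set G))) := by
      rintro w hw
      obtain ⟨⟨v, hv, hvw⟩, -⟩ := hw
      refine Subgroup.mem_centralizer_singleton_iff.2 (Subtype.ext ?_)
      have := Subgroup.mem_centralizer_singleton_iff.1 v.2
      simp only [Subgroup.coe_mul]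
      rw [show (w : G) = v from hvw.symm]
      exact this
    have h2 : D.subgroupOf (Subgroup.normalizer (D : Set G)) ≤ W.subgroupOf (Subgroup.normalizer (D : Set G)) := fun d hd => ⟨hle hd, d.2⟩
    obtain ⟨k, hk⟩ := (((Q.2.map C.subtype).to_le (inf_le_left : W ≤ _)).comap_of_injective
      (Subgroup.normalizer (D : Set G)).subtype (Subgroup.normalizer (D : Set G)).subtype_injective).exists_card_eq
    obtain ⟨e, he⟩ := ((isPGroup_defect hM hD).comap_of_injective
      (Subgroup.normalizer (D : Set G)).subtype (Subgroup.normalizer (D : Set G)).subtype_injective).exists_card_eq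
    have hke : k ≤ e := by
      have h3 := (hp.out.pow_dvd_iff_le_factorization Nat.card_pos.ne').1
        (hk ▸ Subgroup.card_dvd_of_le h1 : p ^ k ∣ Nat.card (Subgroup.centralizer ({y} : Set (Subgroup.normalizer (D : Set G)))))
      rw [hyf] at h3
      rwa [show Nat.card (D.subgroupOf (Subgroup.normalizer (D : Set G))) = p ^ e from he, hp.out.factorization_pow,
        Finsupp.single_eq_same] at h3
    have heq := Subgroup.eq_of_le_of_card_ge h2
      (hk.trans_le ((Nat.pow_le_pow_right hp.out.pos hke).trans he.ge))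
    intro w hw
    have : (⟨w, hw.2⟩ : (Subgroup.normalizer (D : Set G))) ∈ D.subgroupOf (Subgroup.normalizer (D : Set G)) := heq ▸ hw
    exact this
  refine ⟨(y : G)⁻¹, ?_, ?_, ?_⟩
  · rwa [orderOf_inv, Subgroup.orderOf_coe]
  · exact exists_sylow_of_eq (centralizer_singleton_inv (y : G)).symm ⟨Q, hQD⟩
  · refine eq_of_inf_normalizer_le (P.2.to_le inf_le_left)
      (le_inf hDP fun d hd => ⟨d, hDP hd, ?_⟩) ?_
    · show (y : G)⁻¹ * d * ((y : G)⁻¹)⁻¹ = d
      have := Subgroup.mem_centralizer_singleton_iff.1 (hDy' hd)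
      rw [inv_inv, mul_assoc, this, inv_mul_cancel_left]
    · rintro w ⟨⟨hw1, v, hv, hvw⟩, hw2⟩
      have hvw' : (y : G) * w * (y : G)⁻¹ = v := by
        rw [← hvw]
        show (y : G) * ((y : G)⁻¹ * v * ((y : G)⁻¹)⁻¹) * (y : G)⁻¹ = v
        group
      have hmem : (⟨w, hw2⟩ : (Subgroup.normalizer (D : Set G))) ∈ (S : Subgroup (Subgroup.normalizer (D : Set G))) ⊓
          (S : Subgroup (Subgroup.normalizer (D : Set G))).comap (MulAut.conj y).toMonoidHom := by
        refine ⟨hS hw1, hS ?_⟩
        show (y : G) * w * (y : G)⁻¹ ∈ (P : Subgroup G)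
        rwa [hvw']
      rw [hSy] at hmem
      exact hmem

end CfsgLib.BlockCover
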