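import Cfsg.Agent.Lib.BlockCover.Defect
import Cfsg.Agent.Lib.BlockCover.Regular
import Cfsg.Agent.Lib.Characters.ElemSection
import Cfsg.Agent.Lib.BrauerPairs.Bridge

/-!
# A character of height zero fixed by a `p`-group of automorphisms of the block
-/

set_option autoImplicit false
set_option linter.style.haveILetI false
set_option linter.unusedSectionVars false

namespace CfsgLib.BlockCover

open Cfsg
open CfsgLib.Characters CfsgLib.CharCorr
open CfsgLib.Contribution (minExp red apply_one_red)
open CfsgLib.BrauerPairs (ResK resK resK_eq_iff resK_eq_zero_iff)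
open scoped ComplexConjugate

variable {G : Type*} [Group G] [Fintype G] {p : ℕ} {M : Ideal AlgInt}
  (H : Subgroup G) [hN : H.Normal] [Fintype H]

set_option maxHeartbeats 1000000 in
theorem exists_fixed_height_zero [hp : Fact p.Prime] (hM : IsPModular p M)
    {b : Set (IrrCharacter H)} (hb : IsPBlock M b) {P : Subgroup G} (hP : IsPGroup p P)
    (hst : ∀ t ∈ P, ∀ θ ∈ b, conjIrr H t θ ∈ b) :
    ∃ θ ∈ b, blockHeight p b (θ : H → ℂ) = 0 ∧ ∀ t ∈ P, conjIrr H t θ = θ := by
  classical
  haveI := hM.2.1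
  have := BrauerPairs.charP_res hM
  obtain ⟨η, hη, hmin⟩ := exists_height_zero hM hb
  -- invariance of the coefficients and of the central character
  have hcoef : ∀ t ∈ P, ∀ x : H, blockCoeff b (MulAut.conjNormal t x) = blockCoeff b x := by
    intro t ht x
    rw [← BrauerPairs.blockCoeff_twist (MulAut.conjNormal t) b x]
    congr 1
    ext θ
    constructor
    · rintro ⟨ψ, hψ, rfl⟩; exact hst t ht ψ hψ
    · intro hθ
      refine ⟨conjIrr H t⁻¹ θ, hst t⁻¹ (P.inv_mem ht) θ hθ, ?_⟩
      show conjIrr H t (conjIrr H t⁻¹ θ) = θ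
      rw [conjIrr_comp, inv_mul_cancel, conjIrr_one]
  have homega : ∀ t ∈ P, ∀ x : H, MemLocalIdeal M
      (centralChar (η : H → ℂ) (MulAut.conjNormal t x) - centralChar (η : H → ℂ) x) := by
    intro t ht x
    have h : SameBlock M (η : H → ℂ) (conjIrr H t η : H → ℂ) :=
      (Blocks.IsPBlock.mem_iff hM hb hη _).1 (hst t ht η hη)
    have h1 := h x
    rw [show conjIrr H t η = twistIrr (MulAut.conjNormal t) η from rfl, centralChar_twistIrr] at h1
    have h2 := Blocks.MemLocalIdeal.sub hM (Blocks.memLocalIdeal_zero hM) h1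
    simpa using h2
  -- a fixed class on which both are units
  let val : ConjClasses H → Blocks.lRing hM := fun K =>
    ⟨blockCoeff b K.out * centralChar (η : H → ℂ) K.out, (Blocks.lRing hM).mul_mem
      (Blocks.memLocalRing_blockCoeff hM hb _) (centralChar_memLocalRing hM η _)⟩
  have hsum : resK hM (∑ K, val K) = 1 := by
    rw [← map_one (resK hM)]
    congr 1
    apply Subtype.ext
    push_cast
    convert Blocks.sum_blockCoeff_mul_centralChar hη using 2
    · ext; simp
  have hout : ∀ (K : ConjClasses H) (x : H), ConjClasses.mk x = K → IsConj K.out x := fun K x h =>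
    ConjClasses.mk_eq_mk_iff_isConj.1 (by rw [h]; exact Quotient.out_eq K)
  have hclass : ∀ x y : H, IsConj x y →
      blockCoeff b x * centralChar (η : H → ℂ) x = blockCoeff b y * centralChar (η : H → ℂ) y := by
    intro x y hxy
    obtain ⟨c, rfl⟩ := isConj_iff.1 hxy
    rw [isClassFunction_blockCoeff b x c]
    congr 1
    have h := centralChar_twistIrr (MulAut.conj c) η x
    rw [MulAut.conj_apply] at h
    rw [← h]
    congr 1
    funext z
    show (η : H → ℂ) z = (η : H → ℂ) (c * z * c⁻¹)
    rw [irr_isClassFunction η z c]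
  let _ : MulAction P (ConjClasses H) :=
    { smul := fun t K => ConjClasses.map (MulAut.conjNormal (t : G) : MulAut H).toMonoidHom K
      one_smul := fun K => by
        induction K using Quotient.inductionOn with
        | h x =>
          show ConjClasses.mk _ = ConjClasses.mk x
          congr 1
          exact Subtype.ext (by simp)
      mul_smul := fun s t K => by
        induction K using Quotient.inductionOn with
        | h x =>
          show ConjClasses.mk _ = ConjClasses.mk _
          congr 1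
          exact Subtype.ext (by simp [mul_assoc]) }
  have hval : ∀ (t : P) (K : ConjClasses H), resK hM (val (t • K)) = resK hM (val K) := by
    intro t K
    rw [resK_eq_iff]
    show MemLocalIdeal M (blockCoeff b (t • K).out * centralChar (η : H → ℂ) (t • K).out -
      blockCoeff b K.out * centralChar (η : H → ℂ) K.out)
    have hmk : ConjClasses.mk (MulAut.conjNormal (t : G) K.out) = t • K := by
      conv_rhs => rw [← Quotient.out_eq K]
      rfl
    rw [hclass _ _ (hout _ _ hmk), hcoef _ t.2, ← mul_sub]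
    exact Blocks.MemLocalIdeal.mul_left hM (Blocks.memLocalRing_blockCoeff hM hb _)
      (homega _ t.2 _)
  obtain ⟨K, hKfix, hK⟩ : ∃ K, K ∈ MulAction.fixedPoints P (ConjClasses H) ∧
      resK hM (val K) ≠ 0 := by
    by_contra hcon
    simp only [not_exists, not_and, not_not] at hcon
    rw [map_sum, BrauerPairs.sum_eq_sum_fixedPoints (p := p) hP (fun K => resK hM (val K)) hval,
      Finset.sum_eq_zero (fun K hK => hcon K (Finset.mem_filter.1 hK).2)] at hsum
    exact zero_ne_one hsum
  set g := K.out with hg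
  rw [Ne, resK_eq_zero_iff] at hK
  have hag : ¬ MemLocalIdeal M (blockCoeff b g) := fun h =>
    hK (Blocks.MemLocalIdeal.mul_right hM h (centralChar_memLocalRing hM η g))
  have hωg : ¬ MemLocalIdeal M (centralChar (η : H → ℂ) g) := fun h =>
    hK (Blocks.MemLocalIdeal.mul_left hM (Blocks.memLocalRing_blockCoeff hM hb g) h)
  have hgreg : ¬ p ∣ orderOf g := fun h =>
    hag (by rw [Blocks.blockCoeff_eq_zero_of_singular hM hb h]; exact Blocks.memLocalIdeal_zero hM)
  have hgfix : ∀ t ∈ P, IsConj (MulAut.conjNormal t g) g := by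
    intro t ht
    refine ConjClasses.mk_eq_mk_iff_isConj.1 ?_
    have h1 := hKfix ⟨t, ht⟩
    conv_rhs => rw [hg, show ConjClasses.mk K.out = K from Quotient.out_eq K, ← h1]
    conv_rhs => rw [← Quotient.out_eq K]
    rfl
  -- the section function of the class
  set m := p ^ (Nat.card H).factorization p with hm
  set n := Nat.card H / m with hn
  have hmn : Nat.card H = m * n := (Nat.ordProj_mul_ordCompl_eq_self _ p).symm
  have hpn : ¬ p ∣ n := Nat.not_dvd_ordCompl hM.1 Nat.card_pos.ne'
  have hcop : Nat.Coprime m n := (hM.1.coprime_iff_not_dvd.2 hpn).pow_left _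
  let ϑ : H → ℂ := fun x => if ElemSection.InSection m n g x then (n : ℂ) else 0
  obtain ⟨-, hint⟩ := ElemSection.isIntegral_classInner_section hmn hcop g (ϑ := ϑ)
    (fun x h => if_pos h) (fun x h => if_neg h)
  have hϑinv : ∀ t ∈ P, ∀ x : H, ϑ (MulAut.conjNormal t x) = ϑ x := by
    have key : ∀ t ∈ P, ∀ x : H, ElemSection.InSection m n g x →
        ElemSection.InSection m n g (MulAut.conjNormal t x) := by
      rintro t ht x ⟨v, hv, u, rfl, hc, hu, hv'⟩
      refine ⟨_, ((MulAut.conjNormal t : MulAut H).toMonoidHom.map_isConj hv).trans (hgfix t ht),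
        _, map_mul _ u v, hc.map _, ?_, ?_⟩
      · show Nat.Coprime (orderOf ((MulAut.conjNormal t : MulAut H) u)) n
        rwa [MulEquiv.orderOf_eq]
      · show Nat.Coprime (orderOf ((MulAut.conjNormal t : MulAut H) v)) m
        rwa [MulEquiv.orderOf_eq]
    intro t ht x
    by_cases h : ElemSection.InSection m n g x
    · simp only [ϑ, if_pos h, if_pos (key t ht x h)]
    · have h' : ¬ ElemSection.InSection m n g (MulAut.conjNormal t x) := fun hh => h (by
        have hid : MulAut.conjNormal t⁻¹ (MulAut.conjNormal t x) = x :=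
          Subtype.ext (by simp [mul_assoc])
        exact hid ▸ key t⁻¹ (P.inv_mem ht) _ hh)
      simp only [ϑ, if_neg h, if_neg h']
  let cR : IrrCharacter H → Blocks.lRing hM := fun θ =>
    ⟨classInner ϑ (θ : H → ℂ), Blocks.memLocalRing_of_isIntegral hM (hint θ)⟩
  let F : b → ResK M := fun θ => resK hM (cR θ.1 * (red p b θ.1 : Blocks.lRing hM))
  let _ : MulAction P b :=
    { smul := fun t θ => ⟨conjIrr H ((t : G)⁻¹) θ.1, hst _ (P.inv_mem t.2) θ.1 θ.2⟩
      one_smul := fun θ => Subtype.ext (by
        show conjIrr H ((1 : G)⁻¹) θ.1 = θ.1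
        rw [inv_one, conjIrr_one])
      mul_smul := fun s t θ => Subtype.ext (by
        show conjIrr H (((s : G) * t)⁻¹) θ.1 = conjIrr H ((s : G)⁻¹) (conjIrr H ((t : G)⁻¹) θ.1)
        rw [conjIrr_comp, mul_inv_rev]) }
  have hdeg : ∀ (t : G) (θ : IrrCharacter H), charDegree (conjIrr H t θ : H → ℂ) =
      charDegree (θ : H → ℂ) := by
    intro t θ
    have h1 : (conjIrr H t θ : H → ℂ) 1 = (θ : H → ℂ) 1 := by
      rw [show conjIrr H t θ = twistIrr (MulAut.conjNormal t) θ from rfl, twistIrr_apply, map_one]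
    rw [charDegree, charDegree, h1]
  have hFinv : ∀ (t : P) (θ : b), F (t • θ) = F θ := by
    intro t θ
    show resK hM (cR (conjIrr H ((t : G)⁻¹) θ.1) * (red p b (conjIrr H ((t : G)⁻¹) θ.1) : ℕ)) = _
    congr 2
    · apply Subtype.ext
      show classInner ϑ (conjIrr H ((t : G)⁻¹) θ.1 : H → ℂ) = classInner ϑ (θ.1 : H → ℂ)
      conv_lhs => rw [show ϑ = ϑ ∘ (MulAut.conjNormal ((t : G)⁻¹) : MulAut H) from
        funext fun x => (hϑinv _ (P.inv_mem t.2) x).symm]
      exact classInner_comp_equiv (MulAut.conjNormal ((t : G)⁻¹)) ϑ (θ.1 : H → ℂ)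
    · simp only [red, hdeg]
  by_contra hcon
  simp only [not_exists, not_and] at hcon
  have hF0 : ∀ θ : b, θ ∈ MulAction.fixedPoints P b → F θ = 0 := by
    intro θ hθ
    have hdvd : p ∣ red p b θ.1 := by
      by_contra h
      obtain ⟨t, ht, hne⟩ : ∃ t ∈ P, conjIrr H t θ.1 ≠ θ.1 := by
        simpa using hcon θ.1 θ.2 ((blockHeight_eq_zero_iff hM.1 θ.2).2 h)
      refine hne ?_
      have h2 := congrArg Subtype.val (hθ ⟨t⁻¹, P.inv_mem ht⟩)
      rwa [show ((⟨t⁻¹, P.inv_mem ht⟩ : P) • θ : b).1 = conjIrr H (t⁻¹)⁻¹ θ.1 from rfl,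
        inv_inv] at h2
    show resK hM _ = 0
    rw [map_mul, (resK_eq_zero_iff hM _).2 (show MemLocalIdeal M
      ((red p b θ.1 : Blocks.lRing hM) : ℂ) by
        push_cast; exact (Blocks.memLocalIdeal_natCast_iff hM _).2 hdvd), mul_zero]
  have hzero : resK hM (∑ θ : b, cR θ.1 * (red p b θ.1 : Blocks.lRing hM)) = 0 := by
    rw [map_sum]
    show ∑ θ : b, F θ = 0
    rw [BrauerPairs.sum_eq_sum_fixedPoints (p := p) hP F hFinv]
    exact Finset.sum_eq_zero fun θ hθ => hF0 θ (Finset.mem_filter.1 hθ).2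
  rw [resK_eq_zero_iff] at hzero
  set S : ℂ := ((∑ θ : b, cR θ.1 * (red p b θ.1 : Blocks.lRing hM) : Blocks.lRing hM) : ℂ) with hS
  -- the total is the class size times a unit
  have hreg : ∀ x : H, ϑ x * blockCoeff b x =
      if IsConj x g then (n : ℂ) * blockCoeff b g else 0 := by
    intro x
    by_cases hx : p ∣ orderOf x
    · rw [Blocks.blockCoeff_eq_zero_of_singular hM hb hx, mul_zero, if_neg]
      intro hc
      obtain ⟨c, hc⟩ := isConj_iff.1 hc
      apply hgreg
      rwa [← hc, show c * x * c⁻¹ = MulAut.conj c x from rfl, MulEquiv.orderOf_eq]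
    have hxm : Nat.Coprime (orderOf x) m := ((hM.1.coprime_iff_not_dvd.2 hx).pow_left _).symm
    by_cases hc : IsConj x g
    · rw [if_pos hc, show ϑ x = (n : ℂ) from if_pos ⟨x, hc, 1, (one_mul x).symm,
        Commute.one_left x, by simp, hxm⟩]
      obtain ⟨c, hc'⟩ := isConj_iff.1 hc
      rw [← hc', isClassFunction_blockCoeff b x c]
    · rw [if_neg hc, show ϑ x = 0 from if_neg ?_, zero_mul]
      rintro ⟨v, hv, u, rfl, hcomm, hu, hv'⟩
      apply hc
      have huv : u = u * v * v⁻¹ := (mul_inv_cancel_right u v).symm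
      have hum : Nat.Coprime (orderOf u) m := by
        have hd : orderOf u ∣ Nat.lcm (orderOf (u * v)) (orderOf v) := by
          conv_lhs => rw [huv]
          have := ((hcomm.mul_left (Commute.refl v)).inv_right).orderOf_mul_dvd_lcm
          rwa [orderOf_inv] at this
        exact Nat.Coprime.coprime_dvd_left (hd.trans (Nat.lcm_dvd_mul _ _)) (hxm.mul_left hv')
      have hu1 : u = 1 := orderOf_eq_one_iff.1 (Nat.eq_one_of_dvd_coprimes
        (hum.mul_right hu) dvd_rfl (hmn ▸ orderOf_dvd_natCard u))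
      rwa [hu1, one_mul]
  have htot : (p : ℂ) ^ minExp p b * S =
      ((Subgroup.centralizer ({g} : Set H)).index : ℂ) * ((n : ℂ) * blockCoeff b g) := by
    have h1 : (p : ℂ) ^ minExp p b * S = ∑ x : H, ϑ x * blockCoeff b x := by
      rw [hS]
      push_cast
      rw [Finset.mul_sum]
      simp only [Blocks.blockCoeff_eq_sum, Finset.mul_sum]
      rw [Finset.sum_comm]
      rw [← Finset.sum_subtype (Finset.univ.filter (· ∈ b)) (by simp)
        (fun θ => (p : ℂ) ^ minExp p b * ((cR θ : ℂ) * (red p b θ : ℂ)))]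
      refine Finset.sum_congr rfl fun θ hθ => ?_
      rw [show ((cR θ : ℂ) * (red p b θ : ℂ)) = classInner ϑ (θ : H → ℂ) * (red p b θ : ℂ) from rfl,
        classInner, Finset.mul_sum, Finset.sum_mul, Finset.mul_sum]
      refine Finset.sum_congr rfl fun x _ => ?_
      rw [apply_one_red (p := p) (Finset.mem_filter.1 hθ).2]
      ring
    rw [h1, Finset.sum_congr rfl (fun x _ => hreg x), ← Finset.sum_filter, Finset.sum_const,
      nsmul_eq_mul, ← Blocks.natCard_isConj]
    congr 1
    rw [Nat.card_eq_fintype_card, Fintype.card_subtype]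
    norm_cast
    exact congrArg Finset.card (Finset.filter_congr fun x _ => ⟨fun h => h.symm, fun h => h.symm⟩)
  obtain ⟨e, hle, u, hu, hidx⟩ : ∃ e, e ≤ minExp p b ∧ ∃ u, ¬ p ∣ u ∧
      (Subgroup.centralizer ({g} : Set H)).index = p ^ e * u := by
    refine ⟨_, ?_, _, Nat.not_dvd_ordCompl hM.1 Subgroup.index_ne_zero_of_finite,
      (Nat.ordProj_mul_ordCompl_eq_self _ p).symm⟩
    rw [show minExp p b = (charDegree (η : H → ℂ)).factorization p from sInf_degree_eq hη hmin]
    exact factorization_index_le_of_centralChar hM hωg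
  have hp0 : (p : ℂ) ^ e ≠ 0 := pow_ne_zero _ (Nat.cast_ne_zero.2 hM.1.ne_zero)
  have hfin : (u : ℂ) * ((n : ℂ) * blockCoeff b g) = ((p ^ (minExp p b - e) : ℕ) : ℂ) * S := by
    apply mul_left_cancel₀ hp0
    have h2 : (p : ℂ) ^ e * (((p ^ (minExp p b - e) : ℕ) : ℂ) * S) = (p : ℂ) ^ minExp p b * S := by
      rw [← mul_assoc, Nat.cast_pow, ← pow_add, Nat.add_sub_cancel' hle]
    rw [h2, htot, hidx]
    push_cast
    ring
  have hbad : MemLocalIdeal M ((u : ℂ) * ((n : ℂ) * blockCoeff b g)) := by
    rw [hfin]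
    exact Blocks.MemLocalIdeal.mul_left hM (natCast_mem (Blocks.lRing hM) _) hzero
  refine not_memLocalIdeal_mul hM (natCast_mem (Blocks.lRing hM) u)
    ((Blocks.lRing hM).mul_mem (natCast_mem _ n) (Blocks.memLocalRing_blockCoeff hM hb g))
    (fun h => hu ((Blocks.memLocalIdeal_natCast_iff hM u).1 h)) ?_ hbad
  exact not_memLocalIdeal_mul hM (natCast_mem (Blocks.lRing hM) n)
    (Blocks.memLocalRing_blockCoeff hM hb g)
    (fun h => hpn ((Blocks.memLocalIdeal_natCast_iff hM n).1 h)) hag

end CfsgLib.BlockCover
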