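import Cfsg.Agent.Lib.BlockCover.KnorrCover

/-! # Fong's theorem on covering blocks of largest defect -/

set_option autoImplicit false
open Cfsg MonoidAlgebra
open CfsgLib.Characters CfsgLib.CharCorr

namespace CfsgLib.BlockCover

variable {p : ℕ} {M : Ideal AlgInt} {G : Type*} [Group G] [Fintype G]
  (N : Subgroup G) [hN : N.Normal] [Fintype N]

theorem orbitSet_eq_of_invariant {b : Set (IrrCharacter N)}
    (hinv : ∀ g : G, ∀ θ ∈ b, conjIrr N g θ ∈ b) : orbitSet N b = b := by
  refine Set.Subset.antisymm ?_ (subset_orbitSet N b)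
  rintro _ ⟨g, θ, hθ, rfl⟩
  exact hinv g θ hθ

/-- The blocks covering an invariant block together have its idempotent. -/
theorem blockCoeff_coverSet (hM : IsPModular p M) {b : Set (IrrCharacter N)} (hb : IsPBlock M b)
    (hinv : ∀ g : G, ∀ θ ∈ b, conjIrr N g θ ∈ b) (n : N) :
    blockCoeff {χ : IrrCharacter G | ∃ θ ∈ b,
      classInner (fun n : N => (χ : G → ℂ) n) (θ : N → ℂ) ≠ 0} (n : G) = blockCoeff b n := by
  classical
  have horb := orbitSet_eq_of_invariant N hinv
  set A := {χ : IrrCharacter G | ∃ θ ∈ b,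
      classInner (fun n : N => (χ : G → ℂ) n) (θ : N → ℂ) ≠ 0} with hA
  set F : MonoidAlgebra ℂ G := BrauerPairs.inclA ℂ N (Blocks.blockIdem b) with hF
  have hFn : ∀ n : N, F.coeff (n : G) = blockCoeff b n := fun n => by
    rw [hF, BrauerPairs.coeff_inclA, Blocks.coeff_blockIdem]
  have hFout : ∀ x, x ∉ N → F.coeff x = 0 := fun x hx => by
    rw [hF, BrauerPairs.coeff_inclA_of_notMem _ hx]
  have hFcl : ∀ a x : G, F.coeff (a * x * a⁻¹) = F.coeff x := fun a x => by
    by_cases hx : x ∈ N
    · have h := blockCoeff_orbitSet_conj N b a ⟨x, hx⟩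
      rw [horb] at h
      rw [hFn ⟨x, hx⟩]
      exact (hFn ⟨_, hN.conj_mem x hx a⟩).trans h
    · rw [hFout x hx, hFout _ fun h => hx (by simpa [mul_assoc] using hN.conj_mem _ h a⁻¹)]
  have hFc : F ∈ Subalgebra.center ℂ (MonoidAlgebra ℂ G) :=
    (Blocks.mem_center_iff_coeff _).2 fun g h => hFcl h g
  have hAF : Blocks.blockIdem A = F := by
    refine Blocks.central_ext (Blocks.blockIdem_mem_center A) hFc fun χ => ?_
    rw [Blocks.omega_blockIdem, Blocks.omega_apply]
    have hsum : ∑ x : G, F.coeff x * (χ : G → ℂ) x =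
        ∑ n : N, blockCoeff b n * (χ : G → ℂ) n := by
      rw [← Finset.sum_subset (Finset.subset_univ (Finset.univ.map
        (Function.Embedding.subtype (· ∈ N)))) (fun g _ hg => ?_), Finset.sum_map]
      · exact Finset.sum_congr rfl fun n _ => by rw [Function.Embedding.coe_subtype, hFn]
      · rw [hFout g fun h => hg (by simp [h]), zero_mul]
    choose m hm using fun ψ => CfsgLib.NormalRes.mult_nat N (irr_isCharacter χ) ψ
    have hdec : ∀ n : N, (χ : G → ℂ) n = ∑ ψ : IrrCharacter N, (m ψ : ℂ) * (ψ : N → ℂ) n := by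
      intro n
      rw [CfsgLib.NormalRes.res_eq_sum N (irr_isClassFunction χ) n]
      simp [hm]
    have hsum' : ∑ n : N, blockCoeff b n * (χ : G → ℂ) n =
        ∑ ψ : IrrCharacter N, (if ψ ∈ b then (m ψ : ℂ) * (ψ : N → ℂ) 1 else 0) := by
      simp only [hdec, Finset.mul_sum]
      rw [Finset.sum_comm]
      refine Finset.sum_congr rfl fun ψ _ => ?_
      have h2 := sum_blockCoeff_mul b ψ
      rw [div_eq_iff (irr_one_ne_zero ψ)] at h2
      rw [show (∑ n : N, blockCoeff b n * ((m ψ : ℂ) * (ψ : N → ℂ) n)) =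
        (m ψ : ℂ) * ∑ n : N, blockCoeff b n * (ψ : N → ℂ) n by
          rw [Finset.mul_sum]; exact Finset.sum_congr rfl fun y _ => by ring, h2]
      split_ifs <;> ring
    rw [hsum, hsum']
    by_cases hχ : χ ∈ A
    · rw [if_pos hχ]
      obtain ⟨θ, hθ, hθne⟩ := hχ
      have hmem : ∀ ψ : IrrCharacter N, m ψ ≠ 0 → ψ ∈ b := by
        intro ψ hψ
        have hψ' : classInner (fun n : N => (χ : G → ℂ) n) (ψ : N → ℂ) ≠ 0 := by
          show CfsgLib.NormalRes.mult N (χ : G → ℂ) ψ ≠ 0
          rw [hm]; exact_mod_cast hψ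
        rw [← horb]
        exact mem_orbitSet_of_congr N hM hb hθ fun n =>
          induced_congr_of_cover N hM (Blocks.mem_blockOf_self hM χ) hθne hψ' n
      rw [eq_comm, div_eq_one_iff_eq (irr_one_ne_zero χ)]
      refine Eq.trans ?_ (hdec 1).symm
      refine Finset.sum_congr rfl fun ψ _ => ?_
      by_cases hψ : m ψ = 0
      · simp [hψ]
      · rw [if_pos (hmem ψ hψ)]
    · rw [if_neg hχ, Finset.sum_eq_zero fun ψ _ => ?_, zero_div]
      split_ifs with hψ
      · have h0 : m ψ = 0 := by
          by_contra h0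
          exact hχ ⟨ψ, hψ, by
            show CfsgLib.NormalRes.mult N (χ : G → ℂ) ψ ≠ 0
            rw [hm]; exact_mod_cast h0⟩
        simp [h0]
      · rfl
  rw [← Blocks.coeff_blockIdem A, hAF, hFn]

/-- An invariant block is covered by a block whose defect is larger by the `p`-part of the
index. -/
theorem exists_cover_defect_ge [hp : Fact p.Prime] (hM : IsPModular p M)
    {b : Set (IrrCharacter N)} (hb : IsPBlock M b)
    (hinv : ∀ g : G, ∀ θ ∈ b, conjIrr N g θ ∈ b) :
    ∃ B : Set (IrrCharacter G), IsPBlock M B ∧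
      (∃ χ ∈ B, ∃ θ ∈ b, classInner (fun n : N => (χ : G → ℂ) n) (θ : N → ℂ) ≠ 0) ∧
      blockDefect p b + N.index.factorization p ≤ blockDefect p B := by
  classical
  have := hM.2.1
  have := BrauerPairs.charP_res hM
  have horb := orbitSet_eq_of_invariant N hinv
  obtain ⟨θ, hθ⟩ := Blocks.IsPBlock.nonempty hM hb
  let _ : Fintype (ConjClasses N) := Fintype.ofFinite _
  obtain ⟨S⟩ : Nonempty (Sylow p G) := inferInstance
  let act : MulAction (S : Subgroup G) (ConjClasses N) :=
    { smul := fun s c => ConjClasses.map (MulAut.conjNormal (s : G)).toMonoidHom c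
      one_smul := fun c => by
        obtain ⟨x, rfl⟩ := ConjClasses.mk_surjective c
        show ConjClasses.mk (MulAut.conjNormal ((1 : (S : Subgroup G)) : G) x) = ConjClasses.mk x
        simp
      mul_smul := fun s t c => by
        obtain ⟨x, rfl⟩ := ConjClasses.mk_surjective c
        show ConjClasses.mk (MulAut.conjNormal ((s * t : (S : Subgroup G)) : G) x) =
          ConjClasses.mk (MulAut.conjNormal (s : G) (MulAut.conjNormal (t : G) x))
        simp }
  have hcR : ∀ n, blockCoeff b n ∈ Blocks.lRing hM := fun n => BrauerPairs.blockCoeff_mem hM hb n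
  let f : ConjClasses N → BrauerPairs.ResK M := fun c => BrauerPairs.resK hM
    ⟨blockCoeff b c.out * centralChar (θ : N → ℂ) c.out,
      Subring.mul_mem _ (hcR _) (centralChar_memLocalRing hM θ _)⟩
  have hout : ∀ x : N, IsConj (ConjClasses.mk x).out x := fun x =>
    ConjClasses.mk_eq_mk_iff_isConj.1 (Quotient.out_eq _)
  have hf : ∀ (s : (S : Subgroup G)) (c : ConjClasses N), f (act.smul s c) = f c := by
    intro s c
    obtain ⟨x, rfl⟩ := ConjClasses.mk_surjective c
    refine (BrauerPairs.resK_eq_iff hM _ _).2 ?_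
    show MemLocalIdeal M
      (blockCoeff b (ConjClasses.mk (MulAut.conjNormal (s : G) x)).out *
        centralChar (θ : N → ℂ) (ConjClasses.mk (MulAut.conjNormal (s : G) x)).out -
      blockCoeff b (ConjClasses.mk x).out * centralChar (θ : N → ℂ) (ConjClasses.mk x).out)
    rw [classFunction_eq_of_isConj (isClassFunction_blockCoeff b) (hout _),
      classFunction_eq_of_isConj (isClassFunction_blockCoeff b) (hout x),
      Blocks.centralChar_of_isConj θ (hout _), Blocks.centralChar_of_isConj θ (hout x)]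
    have h1 : blockCoeff b (MulAut.conjNormal (s : G) x) = blockCoeff b x := by
      have h := blockCoeff_orbitSet_conj N b (s : G) x
      rw [horb] at h
      refine Eq.trans (congrArg _ (Subtype.ext ?_)) h
      simp
    rw [h1, ← mul_sub]
    refine Blocks.MemLocalIdeal.mul_left hM (hcR x) ?_
    rw [← centralChar_twistIrr (MulAut.conjNormal (s : G)) θ x]
    exact Blocks.SameBlock.symm hM ((Blocks.IsPBlock.mem_iff hM hb hθ _).1 (hinv (s : G) θ hθ)) x
  have htot : ∑ c : ConjClasses N, f c = 1 := by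
    show ∑ c : ConjClasses N, BrauerPairs.resK hM _ = 1
    rw [← map_sum, ← map_one (BrauerPairs.resK hM)]
    congr 1
    apply Subtype.ext
    rw [AddSubmonoidClass.coe_finsetSum]
    have h1 := Blocks.omega_eq_sum_classes θ
      (BlockCover.ofFun_mem_center (isClassFunction_blockCoeff b))
    rw [Blocks.omega_ofFun] at h1
    simp only [Blocks.coeff_ofFun] at h1
    rw [sum_blockCoeff_mul, if_pos hθ] at h1
    exact (by convert h1.symm using 1 <;> congr!)
  rw [BrauerPairs.sum_eq_sum_fixedPoints (P := (S : Subgroup G)) S.2 f hf] at htot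
  obtain ⟨c, hcfix, hfc⟩ := Finset.exists_ne_zero_of_sum_ne_zero (htot.trans_ne one_ne_zero)
  have hne : ¬ MemLocalIdeal M (blockCoeff b c.out * centralChar (θ : N → ℂ) c.out) := fun h =>
    hfc ((BrauerPairs.resK_eq_zero_iff hM _).2 h)
  set n := c.out with hn
  have hn1 : ¬ MemLocalIdeal M (centralChar (θ : N → ℂ) n) := fun h =>
    hne (Blocks.MemLocalIdeal.mul_left hM (hcR n) h)
  have hn2 : ¬ MemLocalIdeal M (blockCoeff b n) := fun h =>
    hne (Blocks.MemLocalIdeal.mul_right hM h (centralChar_memLocalRing hM θ _))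
  have hd := blockDefect_le hM hb fun ψ hψ => centralChar_unit_iff hM hb hθ hψ n hn1
  -- the Sylow subgroup lies in `N C(n)`
  set C := Subgroup.centralizer ({(n : G)} : Set G) with hC
  have hSle : (S : Subgroup G) ≤ N ⊔ C := by
    intro s hs
    have h1 : act.smul ⟨s, hs⟩ c = c := (Finset.mem_filter.1 hcfix).2 ⟨s, hs⟩
    have h2 : ConjClasses.mk (MulAut.conjNormal s n) = ConjClasses.mk n := by
      have hmk : ConjClasses.mk n = c := Quotient.out_eq c
      calc _ = act.smul ⟨s, hs⟩ (ConjClasses.mk n) := rfl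
        _ = _ := by rw [hmk, h1]
    obtain ⟨m, hm⟩ := isConj_iff.1 (ConjClasses.mk_eq_mk_iff_isConj.1 h2)
    have h3 : ((m : G) * s) ∈ C := by
      refine Subgroup.mem_centralizer_singleton_iff.2 ?_
      have h4 := congrArg Subtype.val hm
      simp only [Subgroup.coe_mul, Subgroup.coe_inv, MulAut.conjNormal_apply] at h4
      calc (m : G) * s * (n : G) = ((m : G) * (s * n * s⁻¹) * (m : G)⁻¹) * ((m : G) * s) := by group
        _ = _ := by rw [h4]
    have h5 : s = (m : G)⁻¹ * ((m : G) * s) := by group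
    rw [h5]
    exact mul_mem (Subgroup.mem_sup_left (N.inv_mem m.2)) (Subgroup.mem_sup_right h3)
  have hCcard : (Nat.card (Subgroup.centralizer ({n} : Set N))).factorization p +
      N.index.factorization p ≤ (Nat.card C).factorization p := by
    have h1 : Nat.card (Subgroup.centralizer ({n} : Set N)) = Nat.card (N.subgroupOf C) := by
      refine Nat.card_congr
        { toFun := fun x => ⟨⟨(x.1 : G), Subgroup.mem_centralizer_singleton_iff.2
            (congrArg Subtype.val (Subgroup.mem_centralizer_singleton_iff.1 x.2))⟩, x.1.2⟩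
          invFun := fun x => ⟨⟨(x.1 : G), x.2⟩, Subgroup.mem_centralizer_singleton_iff.2
            (Subtype.ext (Subgroup.mem_centralizer_singleton_iff.1 x.1.2))⟩
          left_inv := fun x => rfl
          right_inv := fun x => rfl }
    have h2 : (N.subgroupOf C).index = N.relIndex (C ⊔ N) := (Subgroup.relIndex_sup_right C N).symm
    have h3 := Subgroup.relIndex_mul_index (H := N) (K := C ⊔ N) le_sup_right
    have h4 : (C ⊔ N).index.factorization p = 0 := by
      have hd' : (C ⊔ N).index ∣ (S : Subgroup G).index :=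
        Subgroup.index_dvd_of_le (hSle.trans (sup_comm N C).le)
      exact Nat.factorization_eq_zero_of_not_dvd fun h => S.not_dvd_index (h.trans hd')
    have h5 := factorization_card_eq (p := p) (N.subgroupOf C)
    have h6 : N.index.factorization p = (N.relIndex (C ⊔ N)).factorization p := by
      have h6' : N.relIndex (C ⊔ N) ≠ 0 := fun h0 =>
        Subgroup.index_ne_zero_of_finite (H := N) (by rw [← h3, h0, zero_mul])
      rw [← h3, Nat.factorization_mul h6' Subgroup.index_ne_zero_of_finite, Finsupp.add_apply, h4,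
        add_zero]
    rw [h2] at h5
    rw [h1, h6]
    omega
  have hA : ¬ MemLocalIdeal M (blockCoeff {χ : IrrCharacter G | ∃ θ ∈ b,
      classInner (fun n : N => (χ : G → ℂ) n) (θ : N → ℂ) ≠ 0} (n : G)) := by
    rwa [blockCoeff_coverSet N hM hb hinv]
  obtain ⟨χ, ⟨θ', hθ', hχθ⟩, hχne⟩ := exists_block_unit_of_union hM (fun χ hχ ψ hψ => by
    obtain ⟨θ', hθ', hcov⟩ := hχ
    have h1 := congr_of_covers N hM (Blocks.isPBlock_blockOf χ) hb (Blocks.mem_blockOf_self hM χ)
      hθ' hcov hψ hθ
    exact covers_of_congr N hM hb ψ hθ h1) hA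
  refine ⟨blockOf M (χ : G → ℂ), Blocks.isPBlock_blockOf χ,
    ⟨χ, Blocks.mem_blockOf_self hM χ, θ', hθ', hχθ⟩, ?_⟩
  obtain ⟨T⟩ : Nonempty (Sylow p C) := inferInstance
  obtain ⟨E, hE, hle⟩ := Blocks.exists_defectGroup_ge_of_coeff hM (Blocks.isPBlock_blockOf χ) hχne
    (P := (T : Subgroup C).map C.subtype) (T.2.map _) (Subgroup.map_subtype_le _)
  have h7 := Subgroup.card_le_of_le hle
  rw [natCard_sylow_centralizer, natCard_defect hM (Blocks.isPBlock_blockOf χ) hE,
    Nat.pow_le_pow_iff_right hp.out.one_lt, ← hC] at h7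
  omega

/-- Fong's theorem. -/
theorem fong_max_defect [hp : Fact p.Prime] (hM : IsPModular p M)
    {b : Set (IrrCharacter N)} (hb : IsPBlock M b)
    (hinv : ∀ g : G, ∀ θ ∈ b, conjIrr N g θ ∈ b) {B : Set (IrrCharacter G)} (hB : IsPBlock M B)
    (hcov : ∃ χ ∈ B, ∃ θ ∈ b, classInner (fun n : N => (χ : G → ℂ) n) (θ : N → ℂ) ≠ 0)
    (hmax : ∀ B' : Set (IrrCharacter G), IsPBlock M B' →
      (∃ χ ∈ B', ∃ θ ∈ b, classInner (fun n : N => (χ : G → ℂ) n) (θ : N → ℂ) ≠ 0) →
        blockDefect p B' ≤ blockDefect p B)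
    {P : Subgroup G} (hP : IsDefectGroup p M B P) :
    ¬ p ∣ (P ⊔ N).index ∧ IsDefectGroup p M b ((P ⊓ N).subgroupOf N) ∧
      blockDefect p B = blockDefect p b + N.index.factorization p := by
  classical
  obtain ⟨χ₀, hχ₀, θ₀, hθ₀, hc⟩ := hcov
  obtain ⟨h1, h2⟩ := isDefectGroup_inter_of_invariant N hM hB hb hχ₀ hθ₀ hc hinv hP
  obtain ⟨B', hB', hcov', hge⟩ := exists_cover_defect_ge N hM hb hinv
  have hd := hge.trans (hmax B' hB' hcov')
  have hcardP := natCard_defect hM hB hP
  have hmul : Nat.card (P ⊓ N : Subgroup G) * N.relIndex (P ⊔ N) = Nat.card P := by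
    rw [Subgroup.relIndex_sup_right, ← (N.subgroupOf P).card_mul_index]
    congr 1
    rw [← Subgroup.inf_subgroupOf_left]
    exact (Nat.card_congr (Subgroup.subgroupOfEquivOfLe inf_le_left).toEquiv).symm
  have h3 := Subgroup.relIndex_mul_index (H := N) (K := P ⊔ N) le_sup_right
  set r := N.relIndex (P ⊔ N) with hr
  have hr0 : r ≠ 0 := fun h0 => Subgroup.index_ne_zero_of_finite (H := N) (by rw [← h3, h0, zero_mul])
  have h4 : blockDefect p B = blockDefect p b + r.factorization p := by
    have := congrArg (fun m : ℕ => m.factorization p) hmul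
    simp only [h2, hcardP, Nat.factorization_mul (pow_ne_zero _ hp.out.ne_zero) hr0,
      Finsupp.add_apply, hp.out.factorization_pow, Finsupp.single_eq_same] at this
    omega
  have h5 : N.index.factorization p = r.factorization p + (P ⊔ N).index.factorization p := by
    rw [← h3, Nat.factorization_mul hr0 Subgroup.index_ne_zero_of_finite]
    rfl
  refine ⟨fun hdvd => ?_, h1, ?_⟩
  · have := hp.out.factorization_pos_of_dvd Subgroup.index_ne_zero_of_finite hdvd
    omega
  · omega

end CfsgLib.BlockCover
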