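import Cfsg.Agent.Lib.BlockCover.CoverUnit
import Cfsg.Agent.Lib.BlockCover.DefectGroup
import Cfsg.Agent.Lib.Blocks.DefectInduced

/-! # Knörr's theorem: defect groups of covering and covered blocks -/

set_option autoImplicit false
open Cfsg MonoidAlgebra
open CfsgLib.BrauerPairs (fixAlg suppAlg inclA ResK redFun eG brMap)
open CfsgLib.Characters CfsgLib.CharCorr

namespace CfsgLib.BlockCover

/-- A unit coefficient of a union of blocks is a unit coefficient of one of them. -/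
theorem exists_block_unit_of_union {p : ℕ} {M : Ideal AlgInt} {H : Type*} [Group H] [Fintype H]
    (hM : IsPModular p M) {A : Set (IrrCharacter H)} (hA : ∀ χ ∈ A, blockOf M (χ : H → ℂ) ⊆ A)
    {g : H} (hg : ¬ MemLocalIdeal M (blockCoeff A g)) :
    ∃ χ ∈ A, ¬ MemLocalIdeal M (blockCoeff (blockOf M (χ : H → ℂ)) g) := by
  classical
  by_contra! hcon
  apply hg
  let S := Finset.univ.filter (· ∈ A)
  have hfib : ∀ χ ∈ S, ((Finset.univ.filter (· ∈ blockOf M (χ : H → ℂ))) : Finset (IrrCharacter H))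
      = S.filter fun ψ : IrrCharacter H => blockOf M (ψ : H → ℂ) = blockOf M (χ : H → ℂ) := by
    intro χ hχ
    ext ψ
    simp only [S, Finset.mem_filter, Finset.mem_univ, true_and]
    exact ⟨fun h => ⟨hA χ (Finset.mem_filter.1 hχ).2 h,
        (Blocks.IsPBlock.eq_blockOf hM (Blocks.isPBlock_blockOf χ) h).symm⟩,
      fun h => h.2 ▸ Blocks.mem_blockOf_self hM ψ⟩
  rw [Blocks.blockCoeff_eq_sum, ← Finset.sum_fiberwise_of_maps_to (s := S)
    (t := S.image fun ψ : IrrCharacter H => blockOf M (ψ : H → ℂ))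
    (g := fun ψ : IrrCharacter H => blockOf M (ψ : H → ℂ))
    (fun x hx => Finset.mem_image_of_mem _ hx), Finset.mul_sum]
  refine Blocks.MemLocalIdeal.sum hM _ fun B hB => ?_
  obtain ⟨χ, hχ, rfl⟩ := Finset.mem_image.1 hB
  rw [← hfib χ hχ, ← Blocks.blockCoeff_eq_sum]
  exact hcon χ (Finset.mem_filter.1 hχ).2

variable {p : ℕ} [hp : Fact p.Prime] {M : Ideal AlgInt} {G : Type*} [Group G] [Fintype G]
  (N : Subgroup G) [hN : N.Normal] [Fintype N]

omit hp [Fintype G] [Fintype N] in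
theorem charDegree_conjIrr (g : G) (θ : IrrCharacter N) :
    charDegree (conjIrr N g θ : N → ℂ) = charDegree (θ : N → ℂ) := by
  have h1 := irr_one_eq_charDegree (conjIrr N g θ)
  rw [conjIrr_apply] at h1
  have h2 := irr_one_eq_charDegree θ
  have he : (⟨g * ((1 : N) : G) * g⁻¹, hN.conj_mem _ (1 : N).2 g⟩ : N) = 1 := Subtype.ext (by simp)
  rw [he, h2] at h1
  exact_mod_cast h1.symm

omit hp in
/-- All blocks in the orbit of a block have the same defect. -/
theorem blockDefect_of_mem_orbitSet (hM : IsPModular p M) {b : Set (IrrCharacter N)}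
    (hb : IsPBlock M b) {ψ : IrrCharacter N} (hψ : ψ ∈ orbitSet N b) :
    blockDefect p (blockOf M (ψ : N → ℂ)) = blockDefect p b := by
  obtain ⟨g, θ, hθ, rfl⟩ := hψ
  have himg : blockOf M (conjIrr N g θ : N → ℂ) = conjIrr N g '' b := by
    ext φ
    constructor
    · intro hφ
      refine ⟨conjIrr N g⁻¹ φ, ?_, by rw [conjIrr_comp]; simp [conjIrr_one]⟩
      refine (Blocks.IsPBlock.mem_iff hM hb hθ _).2 ?_
      have h1 := sameBlock_conjIrr N ((Blocks.IsPBlock.mem_iff hM (Blocks.isPBlock_blockOf _)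
        (Blocks.mem_blockOf_self hM _) φ).1 hφ) g⁻¹
      rwa [conjIrr_comp, mul_inv_cancel, conjIrr_one] at h1
    · rintro ⟨φ', hφ', rfl⟩
      exact (Blocks.IsPBlock.mem_iff hM (Blocks.isPBlock_blockOf _)
        (Blocks.mem_blockOf_self hM _) _).2
        (sameBlock_conjIrr N ((Blocks.IsPBlock.mem_iff hM hb hθ φ').1 hφ') g)
  rw [blockDefect, blockDefect, himg, Set.image_image]
  simp only [charDegree_conjIrr]

/-- The restriction to `C(Q)` detects that a defect group of `b` lies in one of `B`. -/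
theorem exists_defectGroup_ge_of_covers (hM : IsPModular p M) {B : Set (IrrCharacter G)}
    (hB : IsPBlock M B) {b : Set (IrrCharacter N)} (hb : IsPBlock M b) {χ₀ : IrrCharacter G}
    (hχ₀ : χ₀ ∈ B) {θ₀ : IrrCharacter N} (hθ₀ : θ₀ ∈ b)
    (hcov : classInner (fun n : N => (χ₀ : G → ℂ) n) (θ₀ : N → ℂ) ≠ 0)
    {Q : Subgroup N} (hQ : IsDefectGroup p M b Q) :
    ∃ D : Subgroup G, IsDefectGroup p M B D ∧ Q.map N.subtype ≤ D := by
  classical
  have := hM.2.1
  have := BrauerPairs.charP_res hM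
  have hQp : IsPGroup p (Q.map N.subtype) := (isPGroup_defect hM hQ).map _
  obtain ⟨u, huR, huc, hne⟩ := exists_blockRes_unit N hM hB hb hχ₀ hθ₀ hcov hθ₀
  have hcl : IsClassFunction N (blockRes N B u) := fun a c => blockRes_conj N huc c a
  have h1 := Blocks.omega_eq_sum_classes θ₀ (ofFun_mem_center hcl)
  rw [Blocks.omega_ofFun] at h1
  simp only [Blocks.coeff_ofFun] at h1
  rw [h1] at hne
  obtain ⟨c, hc⟩ : ∃ c : ConjClasses N,
      ¬ MemLocalIdeal M (blockRes N B u c.out * centralChar (θ₀ : N → ℂ) c.out) := by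
    by_contra! hall
    exact hne (Blocks.MemLocalIdeal.sum hM _ fun c _ => hall c)
  have hzR := blockRes_mem N hM hB huR c.out
  have hc1 : ¬ MemLocalIdeal M (centralChar (θ₀ : N → ℂ) c.out) := fun h =>
    hc (Blocks.MemLocalIdeal.mul_left hM hzR h)
  have hc2 : ¬ MemLocalIdeal M (blockRes N B u c.out) := fun h =>
    hc (Blocks.MemLocalIdeal.mul_right hM h (centralChar_memLocalRing hM θ₀ _))
  obtain ⟨S⟩ : Nonempty (Sylow p (Subgroup.centralizer ({c.out} : Set N))) := inferInstance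
  obtain ⟨t, ht⟩ := defect_le_sylow hM hb hQ hθ₀ hc1 S
  set n : N := t * c.out * t⁻¹ with hn
  have hQn : Q ≤ Subgroup.centralizer ({n} : Set N) := by
    intro q hq
    obtain ⟨_, ⟨s, -, rfl⟩, rfl⟩ := ht hq
    have h2 := Subgroup.mem_centralizer_singleton_iff.1 s.2
    refine Subgroup.mem_centralizer_singleton_iff.2 ?_
    show t * s * t⁻¹ * (t * c.out * t⁻¹) = t * c.out * t⁻¹ * (t * s * t⁻¹)
    calc _ = t * (s * c.out) * t⁻¹ := by group
      _ = t * (c.out * s) * t⁻¹ := by rw [h2]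
      _ = _ := by group
  have hnC : (n : G) ∈ Subgroup.centralizer (Q.map N.subtype : Set G) := by
    refine Subgroup.mem_centralizer_iff.2 ?_
    rintro _ ⟨q, hq, rfl⟩
    exact congrArg Subtype.val (Subgroup.mem_centralizer_singleton_iff.1 (hQn hq))
  have hn2 : ¬ MemLocalIdeal M (blockRes N B u n) := by rwa [hn, blockRes_conj N huc]
  -- the Brauer map at `Q` does not kill the product
  have hbr : brMap (ResK M) (Q.map N.subtype) (eG hM B) ≠ 0 := by
    intro h0
    apply hn2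
    have hufix : redFun hM u ∈ fixAlg (ResK M) (Q.map N.subtype) :=
      BrauerPairs.mem_fixAlg_iff_coeff.2 fun a ha x => by
        rw [BrauerPairs.coeff_redFun_congr hM
          (huc a (Subgroup.map_subtype_le Q ha) x)]
    have hEfix : eG hM B ∈ fixAlg (ResK M) (Q.map N.subtype) :=
      BrauerPairs.fixAlg_anti le_top (BrauerPairs.isBlockIdem_eG hM hB).fixed
    have h2 := BrauerPairs.brMap_mul hQp hEfix hufix
    rw [h0, zero_mul] at h2
    have h3 := congrArg (fun a => a.coeff (n : G)) h2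
    have hBR : ∀ x, (Blocks.blockIdem B).coeff x ∈ Blocks.lRing hM := fun x => by
      rw [Blocks.coeff_blockIdem]; exact BrauerPairs.blockCoeff_mem hM hB x
    have huR' : ∀ x, (Blocks.ofFun u).coeff x ∈ Blocks.lRing hM := fun x => by
      rw [Blocks.coeff_ofFun]; exact huR x
    have h4 : eG hM B * redFun hM u =
        redFun hM ((Blocks.blockIdem B * Blocks.ofFun u).coeff ·) := by
      rw [BrauerPairs.redFun_mul hM hBR huR']
      simp [eG]
    rw [BrauerPairs.coeff_brMap_of_mem _ hnC, h4, BrauerPairs.coeff_redFun hM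
      (c := ((Blocks.blockIdem B * Blocks.ofFun u).coeff ·))
      (BrauerPairs.coeff_mul_mem hM hBR huR' _)] at h3
    exact (BrauerPairs.resK_eq_zero_iff hM _).1 (h3.trans (by simp))
  exact BrauerPairs.exists_defectGroup_ge hM hB hQp hbr

/-- Some conjugate of the covered block sees the part of a defect group lying in `N`. -/
theorem exists_orbit_unit_inter (hM : IsPModular p M) {B : Set (IrrCharacter G)}
    (hB : IsPBlock M B) {b : Set (IrrCharacter N)} (hb : IsPBlock M b) {χ₀ : IrrCharacter G}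
    (hχ₀ : χ₀ ∈ B) {θ₀ : IrrCharacter N} (hθ₀ : θ₀ ∈ b)
    (hcov : classInner (fun n : N => (χ₀ : G → ℂ) n) (θ₀ : N → ℂ) ≠ 0)
    {D : Subgroup G} (hD : IsDefectGroup p M B D) :
    ∃ ψ ∈ orbitSet N b, ∃ n : N, (n : G) ∈ Subgroup.centralizer ((D ⊓ N : Subgroup G) : Set G) ∧
      ¬ MemLocalIdeal M (blockCoeff (blockOf M (ψ : N → ℂ)) n) := by
  classical
  have := hM.2.1
  have := BrauerPairs.charP_res hM
  set A := orbitSet N b with hA
  have hAcl := orbitSet_closed N hM hb
  set F : MonoidAlgebra ℂ G := inclA ℂ N (Blocks.blockIdem A) with hF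
  have hFn : ∀ n : N, F.coeff (n : G) = blockCoeff A n := fun n => by
    rw [hF, BrauerPairs.coeff_inclA, Blocks.coeff_blockIdem]
  have hFout : ∀ x, x ∉ N → F.coeff x = 0 := fun x hx => by
    rw [hF, BrauerPairs.coeff_inclA_of_notMem _ hx]
  have hFR : ∀ x, F.coeff x ∈ Blocks.lRing hM := fun x => by
    by_cases hx : x ∈ N
    · rw [hFn ⟨x, hx⟩]; exact memLocalRing_blockCoeff_union hM hAcl _
    · rw [hFout x hx]; exact Subring.zero_mem _
  have hFcl : ∀ a x : G, F.coeff (a * x * a⁻¹) = F.coeff x := fun a x => by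
    by_cases hx : x ∈ N
    · rw [hFn ⟨x, hx⟩]
      exact (hFn ⟨_, hN.conj_mem x hx a⟩).trans (blockCoeff_orbitSet_conj N b a ⟨x, hx⟩)
    · rw [hFout x hx, hFout _ fun h => hx (by simpa [mul_assoc] using hN.conj_mem _ h a⁻¹)]
  have hFc : F ∈ Subalgebra.center ℂ (MonoidAlgebra ℂ G) :=
    (Blocks.mem_center_iff_coeff _).2 fun g h => (hFcl h g)
  -- the orbit idempotent acts as the identity on every member of `B`
  have hBF : Blocks.blockIdem B * F = Blocks.blockIdem B := by
    refine Blocks.central_ext (Subalgebra.mul_mem _ (Blocks.blockIdem_mem_center B) hFc)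
      (Blocks.blockIdem_mem_center B) fun χ => ?_
    rw [Blocks.omega_mul χ (Blocks.blockIdem_mem_center B), Blocks.omega_blockIdem]
    by_cases hχ : χ ∈ B
    swap; · rw [if_neg hχ, zero_mul]
    rw [if_pos hχ, one_mul, Blocks.omega_apply]
    have hsum : ∑ x : G, F.coeff x * (χ : G → ℂ) x =
        ∑ n : N, blockCoeff A n * (χ : G → ℂ) n := by
      rw [← Finset.sum_subset (Finset.subset_univ (Finset.univ.map
        (Function.Embedding.subtype (· ∈ N)))) (fun g _ hg => ?_), Finset.sum_map]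
      · exact Finset.sum_congr rfl fun n _ => by rw [Function.Embedding.coe_subtype, hFn]
      · rw [hFout g fun h => hg (by simp [h]), zero_mul]
    rw [hsum, div_eq_one_iff_eq (irr_one_ne_zero χ)]
    choose m hm using fun ψ => CfsgLib.NormalRes.mult_nat N (irr_isCharacter χ) ψ
    have hdec : ∀ n : N, (χ : G → ℂ) n = ∑ ψ : IrrCharacter N, (m ψ : ℂ) * (ψ : N → ℂ) n := by
      intro n
      rw [CfsgLib.NormalRes.res_eq_sum N (irr_isClassFunction χ) n]
      simp [hm]
    have hmem : ∀ ψ : IrrCharacter N, m ψ ≠ 0 → ψ ∈ A := by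
      intro ψ hψ
      have hψ' : classInner (fun n : N => (χ : G → ℂ) n) (ψ : N → ℂ) ≠ 0 := by
        show CfsgLib.NormalRes.mult N (χ : G → ℂ) ψ ≠ 0
        rw [hm]; exact_mod_cast hψ
      exact mem_orbitSet_of_congr N hM hb hθ₀ fun n =>
        induced_congr_of_cover N hM ((Blocks.IsPBlock.mem_iff hM hB hχ₀ χ).1 hχ)
          hcov hψ' n
    have h1 : ((χ : G → ℂ) 1) = ∑ ψ : IrrCharacter N, (m ψ : ℂ) * (ψ : N → ℂ) 1 := hdec 1
    rw [h1]
    simp only [hdec, Finset.mul_sum]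
    rw [Finset.sum_comm]
    refine Finset.sum_congr rfl fun ψ _ => ?_
    have h2 := sum_blockCoeff_mul A ψ
    rw [div_eq_iff (irr_one_ne_zero ψ)] at h2
    rw [show (∑ n : N, blockCoeff A n * ((m ψ : ℂ) * (ψ : N → ℂ) n)) =
      (m ψ : ℂ) * ∑ n : N, blockCoeff A n * (ψ : N → ℂ) n by
        rw [Finset.mul_sum]; exact Finset.sum_congr rfl fun y _ => by ring, h2]
    by_cases hψ : m ψ = 0
    · simp [hψ]
    · rw [if_pos (hmem ψ hψ), one_mul]
  -- apply the Brauer map
  set R := D ⊓ N with hR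
  have hDp := isPGroup_defect hM hD
  have hbrE : brMap (ResK M) R (eG hM B) ≠ 0 :=
    BrauerPairs.brMap_ne_zero_of_le inf_le_left
      ((BrauerPairs.isDefectGroup_iff hM hB D).1 hD).br_ne
  have hBR : ∀ x, (Blocks.blockIdem B).coeff x ∈ Blocks.lRing hM := fun x => by
    rw [Blocks.coeff_blockIdem]; exact BrauerPairs.blockCoeff_mem hM hB x
  have hEF : eG hM B * redFun hM (F.coeff ·) = eG hM B := by
    have h1 := BrauerPairs.redFun_mul hM hBR hFR
    rw [hBF] at h1
    simpa [eG] using h1.symm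
  have hFfix : redFun hM (F.coeff ·) ∈ fixAlg (ResK M) R :=
    BrauerPairs.mem_fixAlg_iff_coeff.2 fun a _ x => by
      rw [BrauerPairs.coeff_redFun_congr hM (hFcl a x)]
  have hbrF : brMap (ResK M) R (redFun hM (F.coeff ·)) ≠ 0 := by
    intro h0
    apply hbrE
    rw [← hEF, BrauerPairs.brMap_mul (hDp.to_le inf_le_left)
      (BrauerPairs.fixAlg_anti le_top (BrauerPairs.isBlockIdem_eG hM hB).fixed) hFfix, h0, mul_zero]
  obtain ⟨x, hxne⟩ : ∃ x, (brMap (ResK M) R (redFun hM (F.coeff ·))).coeff x ≠ 0 := by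
    by_contra! hall
    exact hbrF (MonoidAlgebra.ext (Finsupp.ext fun x => by simpa using hall x))
  by_cases hxC : x ∈ Subgroup.centralizer (R : Set G)
  swap; · exact absurd (BrauerPairs.coeff_brMap_of_notMem _ hxC) hxne
  rw [BrauerPairs.coeff_brMap_of_mem _ hxC, BrauerPairs.coeff_redFun hM (c := (F.coeff ·)) (hFR x)]
    at hxne
  have hxne' : ¬ MemLocalIdeal M (F.coeff x) := fun h =>
    hxne ((BrauerPairs.resK_eq_zero_iff hM _).2 h)
  by_cases hxN : x ∈ N
  swap; · exact absurd (hFout x hxN ▸ Blocks.memLocalIdeal_zero hM) hxne'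
  rw [hFn ⟨x, hxN⟩] at hxne'
  obtain ⟨ψ, hψ, hψne⟩ := exists_block_unit_of_union hM hAcl hxne'
  exact ⟨ψ, hψ, ⟨x, hxN⟩, hxC, hψne⟩

/-- The part in `N` of a defect group of a covering block is no larger than the covered defect. -/
theorem natCard_inter_le (hM : IsPModular p M) {B : Set (IrrCharacter G)}
    (hB : IsPBlock M B) {b : Set (IrrCharacter N)} (hb : IsPBlock M b) {χ₀ : IrrCharacter G}
    (hχ₀ : χ₀ ∈ B) {θ₀ : IrrCharacter N} (hθ₀ : θ₀ ∈ b)
    (hcov : classInner (fun n : N => (χ₀ : G → ℂ) n) (θ₀ : N → ℂ) ≠ 0)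
    {D : Subgroup G} (hD : IsDefectGroup p M B D) :
    Nat.card (D ⊓ N : Subgroup G) ≤ p ^ blockDefect p b := by
  obtain ⟨ψ, hψ, n, hn, hne⟩ := exists_orbit_unit_inter N hM hB hb hχ₀ hθ₀ hcov hD
  have hR : IsPGroup p ((D ⊓ N).subgroupOf N) :=
    ((isPGroup_defect hM hD).to_le inf_le_left).comap_of_injective N.subtype N.subtype_injective
  obtain ⟨E, hE, hle⟩ := Blocks.exists_defectGroup_ge_of_coeff hM (Blocks.isPBlock_blockOf ψ) hne hR
    (fun r hr => Subgroup.mem_centralizer_singleton_iff.2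
      (Subtype.ext (Subgroup.mem_centralizer_iff.1 hn r hr)))
  rw [← Nat.card_congr (Subgroup.subgroupOfEquivOfLe (inf_le_right : D ⊓ N ≤ N)).toEquiv,
    ← blockDefect_of_mem_orbitSet N hM hb hψ, ← natCard_defect hM (Blocks.isPBlock_blockOf ψ) hE]
  exact Subgroup.card_le_of_le hle

/-- Knörr's theorem. -/
theorem exists_defectGroup_inter_eq (hM : IsPModular p M) {B : Set (IrrCharacter G)}
    (hB : IsPBlock M B) {b : Set (IrrCharacter N)} (hb : IsPBlock M b) {χ₀ : IrrCharacter G}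
    (hχ₀ : χ₀ ∈ B) {θ₀ : IrrCharacter N} (hθ₀ : θ₀ ∈ b)
    (hcov : classInner (fun n : N => (χ₀ : G → ℂ) n) (θ₀ : N → ℂ) ≠ 0)
    {Q : Subgroup N} (hQ : IsDefectGroup p M b Q) :
    ∃ P : Subgroup G, IsDefectGroup p M B P ∧ P ⊓ N = Q.map N.subtype := by
  obtain ⟨D, hD, hle⟩ := exists_defectGroup_ge_of_covers N hM hB hb hχ₀ hθ₀ hcov hQ
  refine ⟨D, hD, (Subgroup.eq_of_le_of_card_ge (le_inf hle (Subgroup.map_subtype_le Q)) ?_).symm⟩
  rw [natCard_map_subtype, natCard_defect hM hb hQ]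
  exact natCard_inter_le N hM hB hb hχ₀ hθ₀ hcov hD

/-- For an invariant block the part in `N` of any defect group is a defect group. -/
theorem isDefectGroup_inter_of_invariant (hM : IsPModular p M) {B : Set (IrrCharacter G)}
    (hB : IsPBlock M B) {b : Set (IrrCharacter N)} (hb : IsPBlock M b) {χ₀ : IrrCharacter G}
    (hχ₀ : χ₀ ∈ B) {θ₀ : IrrCharacter N} (hθ₀ : θ₀ ∈ b)
    (hcov : classInner (fun n : N => (χ₀ : G → ℂ) n) (θ₀ : N → ℂ) ≠ 0)
    (hinv : ∀ g : G, ∀ θ ∈ b, conjIrr N g θ ∈ b)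
    {D : Subgroup G} (hD : IsDefectGroup p M B D) :
    IsDefectGroup p M b ((D ⊓ N).subgroupOf N) ∧
      Nat.card (D ⊓ N : Subgroup G) = p ^ blockDefect p b := by
  obtain ⟨Q, hQ⟩ := Blocks.exists_isDefectGroup hM hb
  obtain ⟨P, hP, hPN⟩ := exists_defectGroup_inter_eq N hM hB hb hχ₀ hθ₀ hcov hQ
  obtain ⟨t, rfl⟩ := defectGroup_conjugate hM hB hP hD
  have hmap : P.map (MulAut.conj t).toMonoidHom ⊓ N =
      (P ⊓ N).map (MulAut.conj t).toMonoidHom := by
    rw [Subgroup.map_inf _ _ _ (MulAut.conj t).injective]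
    congr 1
    refine le_antisymm ?_ ?_
    · intro x hx
      exact ⟨t⁻¹ * x * t, by simpa using hN.conj_mem x hx t⁻¹, by simp [mul_assoc]⟩
    · rintro _ ⟨x, hx, rfl⟩
      exact hN.conj_mem x hx t
  have hcard : Nat.card (P.map (MulAut.conj t).toMonoidHom ⊓ N : Subgroup G) =
      p ^ blockDefect p b := by
    rw [hmap, Subgroup.card_map_of_injective (MulAut.conj t).injective, hPN,
      natCard_map_subtype, natCard_defect hM hb hQ]
  refine ⟨?_, hcard⟩
  obtain ⟨ψ, hψ, n, hn, hne⟩ := exists_orbit_unit_inter N hM hB hb hχ₀ hθ₀ hcov hD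
  obtain ⟨g, θ, hθ, rfl⟩ := hψ
  rw [← Blocks.IsPBlock.eq_blockOf hM hb (hinv g θ hθ)] at hne
  obtain ⟨E, hE, hle⟩ := Blocks.exists_defectGroup_ge_of_coeff hM hb hne
    (P := (P.map (MulAut.conj t).toMonoidHom ⊓ N).subgroupOf N) (((isPGroup_defect hM hD).to_le inf_le_left).comap_of_injective N.subtype N.subtype_injective)
    (fun r hr => Subgroup.mem_centralizer_singleton_iff.2
      (Subtype.ext (Subgroup.mem_centralizer_iff.1 hn r hr)))
  have heq := Subgroup.eq_of_le_of_card_ge hle (by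
    rw [natCard_defect hM hb hE, Nat.card_congr
      (Subgroup.subgroupOfEquivOfLe (inf_le_right :
        P.map (MulAut.conj t).toMonoidHom ⊓ N ≤ N)).toEquiv, hcard])
  exact heq.symm ▸ hE

end CfsgLib.BlockCover
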