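import Cfsg.Agent.Lib.BlockCover.FongReynoldsBlocks
import Cfsg.Agent.Lib.WeightedSum.Over
import Cfsg.Agent.Lib.Blk7.Fong
import Cfsg.Agent.Lib.Blocks.OverPrimeCore
import Cfsg.Agent.Lib.CharCorr.CoprimeFixed
import Cfsg.Agent.Lib.Characters.Ramified

/-!
# Heights in blocks of `p`-solvable groups are bounded by the index of the centre of a defect group
-/

set_option autoImplicit false
set_option linter.style.haveILetI false
set_option linter.unusedSectionVars false
open Cfsg CfsgLib.Characters CfsgLib.CharCorr CfsgLib.PCore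
open scoped commutatorElement

namespace CfsgLib.HeightBound

universe u

theorem index_center_congr {A B : Type*} [Group A] [Group B] [Finite A] (e : A ≃* B) :
    (Subgroup.center A).index = (Subgroup.center B).index := by
  have h1 := (Subgroup.center A).card_mul_index
  have h2 := (Subgroup.center B).card_mul_index
  rw [← Nat.card_congr (Subgroup.centerCongr e).toEquiv, ← Nat.card_congr e.toEquiv, ← h1] at h2
  exact (Nat.eq_of_mul_eq_mul_left Nat.card_pos h2).symm

variable {G : Type u} [Group G] [Fintype G] {p : ℕ} [hp : Fact p.Prime]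

/-- The invariant case: the `p`-part of a degree divides the index of the centre of a Sylow
subgroup. -/
theorem factorization_le_of_invariant (hsolv : IsPSolvable p G) (N : Subgroup G) [hN : N.Normal]
    [Fintype N] (hNdef : N = pPrimeCore p G) (θ : IrrCharacter N)
    (hinv : ∀ (g : G) (n : N), (θ : N → ℂ) ⟨g * n * g⁻¹, hN.conj_mem n n.2 g⟩ = (θ : N → ℂ) n)
    (χ : IrrCharacter G) (hχ : classInner (fun n : N => (χ : G → ℂ) n) (θ : N → ℂ) ≠ 0)
    (P : Sylow p G) :
    (charDegree (χ : G → ℂ)).factorization p ≤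
      (Subgroup.center (P : Subgroup G)).index.factorization p := by
  classical
  have hNp : ¬ p ∣ Nat.card N := by rw [hNdef]; exact not_dvd_card_pPrimeCore
  obtain ⟨K, Q, hKn, hNK', hQK, hQp, hKq, hCQ, -⟩ := CfsgLib.Fong.exists_setup (p := p) hsolv
  haveI := hKn
  subst hNdef
  obtain ⟨P₀, hP₀⟩ := hQp.exists_le_sylow
  rw [index_center_congr (Sylow.equiv P P₀)]
  set q := QuotientGroup.mk' (pPrimeCore p G) with hq
  have hqs : Function.Surjective q := QuotientGroup.mk'_surjective _
  set Kb := K.map q with hKb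
  haveI : Kb.Normal := Subgroup.Normal.map inferInstance q hqs
  set A' := (Subgroup.center Kb).map Kb.subtype with hA'
  haveI : A'.Normal := inferInstance
  set A := A'.comap q with hA
  haveI : A.Normal := Subgroup.Normal.comap inferInstance q
  have hNA : pPrimeCore p G ≤ A := fun n hn => by
    rw [hA, Subgroup.mem_comap, show q n = 1 from (QuotientGroup.eq_one_iff n).2 hn]
    exact A'.one_mem
  haveI : Fintype A := Fintype.ofFinite _
  set N' := (pPrimeCore p G).subgroupOf A with hN'
  haveI : Fintype N' := Fintype.ofFinite _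
  haveI : N'.Normal := Subgroup.Normal.subgroupOf hN A
  set e := Subgroup.subgroupOfEquivOfLe hNA
  set θ' := twistIrr e θ
  -- a constituent on `A` of degree `θ 1`
  obtain ⟨φ, hφχ, hφθ⟩ := BlockOver.exists_constituent_over (K := pPrimeCore p G) (θ := θ) hinv hNA
    (show χ ∈ BlockOver.overSet (pPrimeCore p G) θ from hχ)
  have hφ1 : (φ : A → ℂ) 1 = (θ : pPrimeCore p G → ℂ) 1 := by
    obtain ⟨θf, d, ρ, hρ, rfl⟩ := θ
    haveI := hρ
    have hrel : Nat.Coprime ((pPrimeCore p G).relIndex A) (Nat.card (pPrimeCore p G)) := by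
      obtain ⟨i, hi⟩ := IsPGroup.iff_card.1 hKq
      have h1 : (pPrimeCore p G).relIndex A = Nat.card A' := by
        have h := Subgroup.relIndex_comap (⊥ : Subgroup (G ⧸ pPrimeCore p G)) q A
        rw [MonoidHom.comap_bot, hq, QuotientGroup.ker_mk'] at h
        rw [h, ← hq, hA, Subgroup.map_comap_eq_self_of_surjective hqs, Subgroup.relIndex_bot_left]
      rw [h1]
      refine Nat.Coprime.coprime_dvd_left
        (Subgroup.card_dvd_of_le (Subgroup.map_subtype_le (Subgroup.center Kb))) ?_
      rw [hKb, hi]
      exact ((Nat.Prime.coprime_iff_not_dvd hp.out).2 hNp).pow_left i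
    obtain ⟨s, hs, hres⟩ := FongRep.exists_ext_rep hNA ρ (fun g _ n => hinv g n) hrel
    let χs : IrrCharacter A := ⟨s.character, d, s, hs, rfl⟩
    have hχs : classInner (fun n : N' => (χs : A → ℂ) n) (θ' : N' → ℂ) ≠ 0 := by
      have : (fun n : N' => (χs : A → ℂ) n) = (θ' : N' → ℂ) := funext fun n => by
        show LinearMap.trace ℂ _ (s (n : A)) = LinearMap.trace ℂ _ (ρ (e n))
        rw [← hres (e n)]
        rfl
      rw [this, classInner_irr_self θ'.2]
      exact one_ne_zero
    have hab : commutator A ≤ N' := by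
      rw [commutator_def, Subgroup.commutator_le]
      intro a _ b _
      rw [hN', Subgroup.mem_subgroupOf, ← QuotientGroup.eq_one_iff]
      obtain ⟨za, hza, hza'⟩ := (a.2 : q (a : G) ∈ A')
      obtain ⟨zb, hzb, hzb'⟩ := (b.2 : q (b : G) ∈ A')
      show q ((⁅a, b⁆ : A) : G) = 1
      rw [show ((⁅a, b⁆ : A) : G) = (a : G) * b * (a : G)⁻¹ * (b : G)⁻¹ from rfl, map_mul, map_mul,
        map_mul, map_inv, map_inv, ← hza', ← hzb']
      have := congrArg Subtype.val (Subgroup.mem_center_iff.1 hza zb)
      simp only [Subgroup.coe_mul] at this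
      show (za : G ⧸ pPrimeCore p G) * zb * (za : G ⧸ pPrimeCore p G)⁻¹ *
        (zb : G ⧸ pPrimeCore p G)⁻¹ = 1
      rw [← this, mul_inv_cancel_right, mul_inv_cancel]
    obtain ⟨f, -, hf⟩ := CoprimeFixed.exists_linear_twist N' hab χs φ hχs hφθ
    rw [hf]
    show s.character 1 * (f 1 : ℂ) = ρ.character 1
    rw [map_one, Units.val_one, mul_one, Representation.char_one, Representation.char_one]
  obtain ⟨k, hk, hkdvd⟩ := Ramified.degree_ratio_dvd_index (N := A) χ.2 φ.2 hφχ
  rw [hφ1, irr_one_eq_charDegree, irr_one_eq_charDegree] at hk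
  have hk' : charDegree (χ : G → ℂ) = k * charDegree (θ : pPrimeCore p G → ℂ) := by exact_mod_cast hk
  have hθp : ¬ p ∣ charDegree (θ : pPrimeCore p G → ℂ) := fun h =>
    hNp (h.trans (charDegree_irr_dvd_card θ))
  have hk0 : k ≠ 0 := fun h => (charDegree_irr_pos χ).ne' (by rw [hk', h, zero_mul])
  rw [hk', Nat.factorization_mul hk0 (charDegree_irr_pos θ).ne', Finsupp.add_apply,
    Nat.factorization_eq_zero_of_not_dvd hθp, add_zero]
  refine ((Nat.factorization_le_iff_dvd hk0 Subgroup.index_ne_zero_of_finite).2 hkdvd p).trans ?_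
  set Z := (Subgroup.center (P₀ : Subgroup G)).map (P₀ : Subgroup G).subtype with hZ
  have hZA : Z ≤ A := by
    rintro _ ⟨z, hz, rfl⟩
    have hzK : (z : G) ∈ K := hCQ (Subgroup.mem_centralizer_iff.2 fun y hy =>
      congrArg Subtype.val (Subgroup.mem_center_iff.1 hz ⟨y, hP₀ hy⟩))
    refine ⟨⟨q z, z, hzK, rfl⟩, Subgroup.mem_center_iff.2 fun y => Subtype.ext ?_, rfl⟩
    have hy : (y : G ⧸ pPrimeCore p G) ∈ ((P₀.mapSurjective hqs : Sylow p _) : Subgroup _) :=
      ((le_pCore inferInstance hKq).trans (pCore_le_sylow _)) y.2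
    rw [Sylow.coe_mapSurjective] at hy
    obtain ⟨y', hy', hyy⟩ := hy
    show (y : G ⧸ pPrimeCore p G) * q z = q z * y
    rw [← hyy, ← map_mul, ← map_mul]
    exact congrArg q (congrArg Subtype.val (Subgroup.mem_center_iff.1 hz ⟨y', hy'⟩))
  have hA0 : (Nat.card A) ≠ 0 := Nat.card_pos.ne'
  have h1 : (Nat.card G).factorization p = (Nat.card A).factorization p + A.index.factorization p := by
    rw [← Subgroup.card_mul_index A, Nat.factorization_mul hA0 Subgroup.index_ne_zero_of_finite,
      Finsupp.add_apply]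
  have h2 : (Nat.card G).factorization p =
      (Nat.card (Subgroup.center (P₀ : Subgroup G))).factorization p +
        (Subgroup.center (P₀ : Subgroup G)).index.factorization p := by
    rw [← Finsupp.add_apply, ← Nat.factorization_mul Nat.card_pos.ne'
      Subgroup.index_ne_zero_of_finite, Subgroup.card_mul_index, P₀.card_eq_multiplicity,
      hp.out.factorization_pow, Finsupp.single_eq_same]
  have h3 : (Nat.card (Subgroup.center (P₀ : Subgroup G))).factorization p ≤
      (Nat.card A).factorization p := by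
    refine (Nat.factorization_le_iff_dvd Nat.card_pos.ne' hA0).2 ?_ p
    rw [← Subgroup.card_map_of_injective (P₀ : Subgroup G).subtype_injective]
    exact Subgroup.card_dvd_of_le hZA
  omega

theorem aux {M : Ideal AlgInt} (hM : IsPModular p M) :
    ∀ (n : ℕ) (G : Type u) [Group G] [Fintype G], Nat.card G ≤ n → IsPSolvable p G →
      ∀ B : Set (IrrCharacter G), IsPBlock M B → ∀ D : Subgroup G, IsDefectGroup p M B D →
      ∀ χ ∈ B, blockHeight p B (χ : G → ℂ) ≤ (Subgroup.center D).index.factorization p := by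
  intro n
  induction n with
  | zero => intro G _ _ h; exact absurd h (by simp)
  | succ n ih =>
    intro G _ _ hn hsolv B hB D hD χ hχ
    classical
    set N := pPrimeCore p G with hNdef
    haveI : N.Normal := pPrimeCore_normal p _
    haveI : Fintype N := Fintype.ofFinite _
    have hNp : ¬ p ∣ Nat.card N := not_dvd_card_pPrimeCore
    obtain ⟨θ, hθ⟩ := NormalRes.exists_mult_ne_zero N χ
    have hχθ : classInner (fun n : N => (χ : G → ℂ) n) (θ : N → ℂ) ≠ 0 := hθ
    let T : Subgroup G :=
      { carrier := {g | conjIrr N g θ = θ}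
        one_mem' := Subtype.ext (funext fun m => by rw [conjIrr_apply]; simp)
        mul_mem' := fun {a b} (ha : conjIrr N a θ = θ) (hb : conjIrr N b θ = θ) => by
          show conjIrr N (a * b) θ = θ
          refine Subtype.ext (funext fun m => ?_)
          have h1 := congrFun (congrArg Subtype.val hb) m
          have h2 := congrFun (congrArg Subtype.val ha)
            ⟨b * m * b⁻¹, (inferInstance : N.Normal).conj_mem m m.2 b⟩
          rw [conjIrr_apply] at h1 h2 ⊢
          rw [← h1, ← h2]
          exact congrArg _ (Subtype.ext (by simp [mul_assoc]))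
        inv_mem' := fun {a} (ha : conjIrr N a θ = θ) => by
          show conjIrr N a⁻¹ θ = θ
          refine Subtype.ext (funext fun m => ?_)
          have h2 := congrFun (congrArg Subtype.val ha)
            ⟨a⁻¹ * m * a, by simpa using (inferInstance : N.Normal).conj_mem m m.2 a⁻¹⟩
          rw [conjIrr_apply] at h2 ⊢
          simp only [mul_assoc, mul_inv_cancel_left, mul_inv_cancel, mul_one, Subtype.coe_eta] at h2
          rw [h2]
          exact congrArg _ (Subtype.ext (by simp [mul_assoc])) }
    have hTmem : ∀ g : G, g ∈ T ↔ conjIrr N g θ = θ := fun g => Iff.rfl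
    by_cases hTtop : T = ⊤
    · have hinv : ∀ (g : G) (m : N), (θ : N → ℂ) ⟨g * m * g⁻¹,
          (inferInstance : N.Normal).conj_mem m m.2 g⟩ = (θ : N → ℂ) m := fun g m => by
        have h := congrFun (congrArg Subtype.val ((hTmem g).1 (hTtop ▸ Subgroup.mem_top g))) m
        rwa [conjIrr_apply] at h
      have hover : ∀ η ∈ B, ∀ m : N,
          (η : G → ℂ) m * (θ : N → ℂ) 1 = (η : G → ℂ) 1 * (θ : N → ℂ) m := fun η hη m =>
        Fong.restrict_eq N θ.2 hinv (Blocks.constituent_of_sameBlock hM hNp
          ((Blocks.IsPBlock.mem_iff hM hB hχ η).1 hη) θ hχθ) m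
      have hfull := Fong.blockDefect_eq N hM hsolv hNdef θ hinv hB hover
      have hDcard := BlockCover.natCard_defect hM hB hD
      rw [hfull] at hDcard
      have h := factorization_le_of_invariant hsolv N hNdef θ hinv χ hχθ (Sylow.ofCard D hDcard)
      exact (Nat.sub_le _ _).trans h
    · haveI : Fintype T := Fintype.ofFinite _
      have hNT : N ≤ T := fun g hg => (hTmem g).2 (Subtype.ext (funext fun m => by
        rw [conjIrr_apply]
        exact irr_isClassFunction θ m ⟨g, hg⟩))
      have hT : ∀ g : G, g ∈ T ↔ ∀ θ' ∈ ({θ} : Set (IrrCharacter N)),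
          conjIrr N g θ' ∈ ({θ} : Set (IrrCharacter N)) := fun g => by
        rw [hTmem]
        exact ⟨fun h θ' hθ' => by rw [Set.mem_singleton_iff.1 hθ', h]; rfl,
          fun h => Set.mem_singleton_iff.1 (h θ rfl)⟩
      have hb := WeightedSum.isPBlock_singleton hM hNp θ
      obtain ⟨ψ, hcov, hψ⟩ := BlockCover.exists_of_covers N {θ} T hT hNT hM hb (χ := χ)
        ⟨θ, rfl, hχθ⟩
      set B' := blockOf M (ψ : T → ℂ)
      have hB' : IsPBlock M B' := Blocks.isPBlock_blockOf ψ
      have hψB' : ψ ∈ B' := Blocks.mem_blockOf_self hM ψ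
      obtain ⟨B₂, hind, -, -, hmem⟩ :=
        BlockCover.fongReynolds_induced N {θ} T hNT hT hM hb hB' hψB' hcov
      have hBB : B₂ = B := by
        rw [Blocks.IsPBlock.eq_blockOf hM hind.2.1 ((hmem χ).2 ⟨ψ, hψB', hψ⟩),
          Blocks.IsPBlock.eq_blockOf hM hB hχ]
      subst hBB
      obtain ⟨hdef, hht⟩ :=
        BlockCover.fongReynolds_defect N {θ} T hNT hT hM hb hB' hψB' hcov hind
      obtain ⟨χ', -, hχ', hheq⟩ := hht ψ hψB'
      rw [show χ' = χ from Subtype.ext (hχ'.trans hψ.symm)] at hheq
      obtain ⟨D', hD'⟩ := Blocks.exists_isDefectGroup hM hB'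
      have hcardT : Nat.card T ≤ n := by
        have h1 : Nat.card T < Nat.card G := lt_of_le_of_ne (Subgroup.card_le_card_group T)
          fun e => hTtop (Subgroup.eq_top_of_card_eq T e)
        omega
      have hbound := ih T hcardT (isPSolvable_subgroup hsolv T) B' hB' D' hD' ψ hψB'
      obtain ⟨t, ht⟩ := BlockCover.defectGroup_conjugate hM hB hD (hdef D' hD')
      have e1 := index_center_congr (D'.equivMapOfInjective T.subtype T.subtype_injective)
      have e2 := index_center_congr
        (D.equivMapOfInjective (MulAut.conj t).toMonoidHom (MulAut.conj t).injective)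
      rw [hheq, e2]
      rw [e1] at hbound
      convert hbound using 3
      rw [ht]

/-- The height of a member is at most the exponent of the index of the centre of a defect group. -/
theorem blockHeight_le {G : Type u} [Group G] [Finite G] {M : Ideal AlgInt} (hM : IsPModular p M)
    (hsolv : IsPSolvable p G) {B : Set (IrrCharacter G)} (hB : IsPBlock M B) {D : Subgroup G}
    (hD : IsDefectGroup p M B D) {χ : IrrCharacter G} (hχ : χ ∈ B) :
    blockHeight p B (χ : G → ℂ) ≤ (Subgroup.center D).index.factorization p :=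
  letI := Fintype.ofFinite G
  aux hM (Nat.card G) G le_rfl hsolv B hB D hD χ hχ

end CfsgLib.HeightBound
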