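import Cfsg.Agent.Lib.BlockCover.Basic

/-!
# The block parts of an induced character
-/

set_option autoImplicit false
set_option linter.style.haveILetI false
set_option linter.unusedSectionVars false

namespace CfsgLib.BlockCover

open Cfsg
open CfsgLib.Characters CfsgLib.CharCorr
open CfsgLib.Blocks (lRing)
open scoped ComplexConjugate

variable {p : ℕ} {M : Ideal AlgInt}

theorem factorization_le_of_eq_mul (hM : IsPModular p M) {a b : ℕ} (hb : b ≠ 0) (ha : a ≠ 0)
    {w : ℂ} (hw : MemLocalRing M w) (h : (a : ℂ) = (b : ℂ) * w) :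
    b.factorization p ≤ a.factorization p := by
  by_contra hlt
  push Not at hlt
  have hA : p ^ a.factorization p * (a / p ^ a.factorization p) = a := Nat.ordProj_mul_ordCompl_eq_self a p
  obtain ⟨c, hc⟩ := (pow_dvd_pow p (Nat.succ_le_of_lt hlt)).trans (Nat.ordProj_dvd b p)
  have hne := Nat.not_dvd_ordCompl hM.1 ha
  apply hne
  rw [← CfsgLib.Blocks.memLocalIdeal_natCast_iff hM]
  have hp0 : (p : ℂ) ^ a.factorization p ≠ 0 := pow_ne_zero _ (by exact_mod_cast hM.1.ne_zero)
  have : ((a / p ^ a.factorization p : ℕ) : ℂ) = (p : ℂ) * ((c : ℂ) * w) := by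
    apply mul_left_cancel₀ hp0
    rw [← Nat.cast_pow, ← Nat.cast_mul, hA, h, hc]
    simp only [Nat.succ_eq_add_one, pow_succ]
    push_cast
    ring
  rw [this]
  exact CfsgLib.Blocks.MemLocalIdeal.mul_right hM (CfsgLib.Blocks.memLocalIdeal_p hM)
    ((lRing hM).mul_mem (natCast_mem (lRing hM) c) hw)

theorem factorization_lt_of_eq_mul (hM : IsPModular p M) {a b : ℕ} (hb : b ≠ 0) (ha : a ≠ 0)
    {w : ℂ} (hw : MemLocalIdeal M w) (h : (a : ℂ) = (b : ℂ) * w) :
    b.factorization p < a.factorization p := by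
  refine lt_of_le_of_ne
    (factorization_le_of_eq_mul hM hb ha (CfsgLib.Blocks.MemLocalIdeal.memLocalRing hw) h)
    fun heq => ?_
  have hne := Nat.not_dvd_ordCompl hM.1 ha
  apply hne
  rw [← CfsgLib.Blocks.memLocalIdeal_natCast_iff hM]
  have hp0 : (p : ℂ) ^ a.factorization p ≠ 0 := pow_ne_zero _ (by exact_mod_cast hM.1.ne_zero)
  have : ((a / p ^ a.factorization p : ℕ) : ℂ) = ((b / p ^ b.factorization p : ℕ) : ℂ) * w := by
    apply mul_left_cancel₀ hp0
    rw [← Nat.cast_pow, ← Nat.cast_mul, Nat.ordProj_mul_ordCompl_eq_self, h, ← mul_assoc,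
      ← heq, ← Nat.cast_mul, Nat.ordProj_mul_ordCompl_eq_self]
  rw [this]
  exact CfsgLib.Blocks.MemLocalIdeal.mul_left hM
    (natCast_mem (lRing hM) (b / p ^ b.factorization p)) hw

variable {G : Type*} [Group G] [Fintype G]

open scoped Classical in
theorem blockPart_eq_sum (B : Set (IrrCharacter G)) (ϑ : G → ℂ) (g : G) :
    blockPart B ϑ g = ∑ χ ∈ Finset.univ.filter (· ∈ B),
      classInner ϑ (χ : G → ℂ) * (χ : G → ℂ) g := by
  simp only [blockPart, classInner]
  refine (finsum_mem_eq_sum_of_inter_support_eq _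
    (t := Finset.univ.filter (· ∈ B)) (by simp)).trans ?_
  refine Finset.sum_congr rfl fun χ _ => ?_
  congr!

variable (H : Subgroup G) [Fintype H]

/-- The degree of a block part of an induced character. -/
theorem blockPart_indFun_one (B : Set (IrrCharacter G)) (ξ : IrrCharacter H) :
    blockPart B (indFun H (ξ : H → ℂ)) 1 =
      ((H.index : ℂ) * (ξ : H → ℂ) 1) *
        ((∑ x : H, blockCoeff B x * (ξ : H → ℂ) x) / (ξ : H → ℂ) 1) := by
  classical
  have hsum : blockPart B (indFun H (ξ : H → ℂ)) 1 =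
      ∑ x : G, indFun H (ξ : H → ℂ) x * blockCoeff B x := by
    rw [blockPart_eq_sum]
    simp only [CfsgLib.Blocks.blockCoeff_eq_sum, classInner, Finset.mul_sum, Finset.sum_mul]
    rw [Finset.sum_comm]
    exact Finset.sum_congr rfl fun x _ => Finset.sum_congr rfl fun χ _ => by ring
  have h := CfsgLib.Induction.sum_indFun_mul H (ξ : H → ℂ) (isClassFunction_blockCoeff B)
  have hG : (Nat.card G : ℂ) ≠ 0 := by simp
  rw [inv_mul_eq_iff_eq_mul₀ hG] at h
  rw [hsum, h, ← H.card_mul_index, Nat.cast_mul]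
  have hH : (Nat.card H : ℂ) ≠ 0 := by simp
  have := irr_one_ne_zero ξ
  rw [show (∑ x : H, blockCoeff B x * (ξ : H → ℂ) x) = ∑ x : H, (ξ : H → ℂ) x * blockCoeff B x
    from Finset.sum_congr rfl fun x _ => mul_comm _ _]
  field_simp

theorem charDegree_indFun (ξ : IrrCharacter H) :
    charDegree (indFun H (ξ : H → ℂ)) = H.index * charDegree (ξ : H → ℂ) := by
  have h : indFun H (ξ : H → ℂ) 1 = ((H.index * charDegree (ξ : H → ℂ) : ℕ) : ℂ) := by
    rw [CfsgLib.Induction.indFun_one_apply, irr_one_eq_charDegree]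
    push_cast
    rfl
  rw [charDegree, h, Complex.natCast_re, Nat.floor_natCast]

open scoped Classical in
theorem exists_blockPart_indFun (hM : IsPModular p M) {b : Set (IrrCharacter H)}
    {B₀ : Set (IrrCharacter G)} (hind : IsInducedBlock M H b B₀) {ξ : IrrCharacter H} (hξ : ξ ∈ b)
    {B : Set (IrrCharacter G)} (hB : IsPBlock M B) :
    ∃ (n : ℕ) (w : ℂ), blockPart B (indFun H (ξ : H → ℂ)) 1 = (n : ℂ) ∧ MemLocalRing M w ∧
      (n : ℂ) = (charDegree (indFun H (ξ : H → ℂ)) : ℂ) * w ∧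
      MemLocalIdeal M (w - if B = B₀ then 1 else 0) := by
  obtain ⟨χ₀, hχ₀⟩ := CfsgLib.Blocks.IsPBlock.nonempty hM hind.2.1
  have hR := fun x => CfsgLib.Blocks.memLocalRing_blockCoeff (G := G) hM hB x
  have hcong := sum_mul_congr_induced H hM ξ χ₀ (fun g => hind.2.2 ξ hξ χ₀ hχ₀ g)
    (isClassFunction_blockCoeff B) hR
  rw [sum_blockCoeff_mul] at hcong
  have hmem : (if χ₀ ∈ B then (1 : ℂ) else 0) = if B = B₀ then 1 else 0 := by
    by_cases h : B = B₀
    · rw [if_pos h, if_pos (h ▸ hχ₀)]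
    · rw [if_neg h, if_neg fun hc => h ?_]
      rw [CfsgLib.Blocks.IsPBlock.eq_blockOf hM hB hc,
        CfsgLib.Blocks.IsPBlock.eq_blockOf hM hind.2.1 hχ₀]
  rw [hmem] at hcong
  have hnat : ∀ χ : IrrCharacter G, ∃ m : ℕ, classInner (indFun H (ξ : H → ℂ)) (χ : G → ℂ) = m :=
    fun χ => classInner_char_nat (CfsgLib.Induction.isCharacter_indFun H (irr_isCharacter ξ))
      (irr_isCharacter χ)
  choose m hm using hnat
  refine ⟨∑ χ ∈ Finset.univ.filter (· ∈ B), m χ * charDegree (χ : G → ℂ),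
    (∑ x : H, blockCoeff B x * (ξ : H → ℂ) x) / (ξ : H → ℂ) 1, ?_, ?_, ?_, hcong⟩
  · rw [blockPart_eq_sum]
    push_cast
    exact Finset.sum_congr rfl fun χ _ => by rw [hm, irr_one_eq_charDegree]
  · exact omega_mem hM ξ (fun a c => by
      simp only [Subgroup.coe_mul, Subgroup.coe_inv]
      exact isClassFunction_blockCoeff B (a : G) (c : G)) (fun x => hR x)
  · rw [charDegree_indFun, Nat.cast_mul, ← irr_one_eq_charDegree, ← blockPart_indFun_one,
      blockPart_eq_sum]
    push_cast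
    exact Finset.sum_congr rfl fun χ _ => by rw [hm, irr_one_eq_charDegree]

/-- The degrees of the block parts of an induced character. -/
theorem blockPart_indFun_valuation (hM : IsPModular p M) {b : Set (IrrCharacter H)}
    {B₀ : Set (IrrCharacter G)} (hind : IsInducedBlock M H b B₀) {ξ : IrrCharacter H} (hξ : ξ ∈ b) :
    (∃ n : ℕ, blockPart B₀ (indFun H (ξ : H → ℂ)) 1 = (n : ℂ) ∧ n ≠ 0 ∧
      n.factorization p = (charDegree (indFun H (ξ : H → ℂ))).factorization p) ∧
    ∀ B : Set (IrrCharacter G), IsPBlock M B → B ≠ B₀ → ∃ n : ℕ,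
      blockPart B (indFun H (ξ : H → ℂ)) 1 = (n : ℂ) ∧
        (n = 0 ∨ (charDegree (indFun H (ξ : H → ℂ))).factorization p < n.factorization p) := by
  classical
  have hd : charDegree (indFun H (ξ : H → ℂ)) ≠ 0 := by
    rw [charDegree_indFun]
    exact mul_ne_zero Subgroup.index_ne_zero_of_finite (charDegree_irr_pos ξ).ne'
  constructor
  · obtain ⟨n, w, h1, hw, h2, h3⟩ := exists_blockPart_indFun H hM hind hξ hind.2.1
    rw [if_pos rfl] at h3
    have hnot : ¬ MemLocalIdeal M w := fun h => CfsgLib.Blocks.not_memLocalIdeal_one hM (by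
      simpa using CfsgLib.Blocks.MemLocalIdeal.sub hM h h3)
    have hw0 : w ≠ 0 := fun h => hnot (h ▸ CfsgLib.Blocks.memLocalIdeal_zero hM)
    have hn : n ≠ 0 := fun h => by
      rw [h, Nat.cast_zero, eq_comm, mul_eq_zero] at h2
      exact h2.elim (fun h => hd (by exact_mod_cast h)) hw0
    refine ⟨n, h1, hn, le_antisymm ?_ (factorization_le_of_eq_mul hM hd hn hw h2)⟩
    refine factorization_le_of_eq_mul hM hn hd (CfsgLib.Blocks.inv_mem_lRing hM hw hnot) ?_
    rw [h2, mul_assoc, mul_inv_cancel₀ hw0, mul_one]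
  · intro B hB hne
    obtain ⟨n, w, h1, -, h2, h3⟩ := exists_blockPart_indFun H hM hind hξ hB
    rw [if_neg hne, sub_zero] at h3
    refine ⟨n, h1, ?_⟩
    by_cases hn : n = 0
    · exact Or.inl hn
    · exact Or.inr (factorization_lt_of_eq_mul hM hd hn h3 h2)

end CfsgLib.BlockCover
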