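import Cfsg.Agent.Lib.BlockCover.NormalizerBlock
import Cfsg.Agent.Lib.CharCorr.Solvable

/-! # Brauer's criterion for a pair `(P, b)` with `b` a block of `P C(P)` -/

set_option autoImplicit false
open Cfsg MonoidAlgebra
open CfsgLib.Characters CfsgLib.CharCorr

namespace CfsgLib.BlockCover

variable {p : ℕ} {M : Ideal AlgInt} {G : Type*} [Group G] [Fintype G]

theorem normal_pc {P L : Subgroup G} (hL : L = P ⊔ Subgroup.centralizer (P : Set G)) :
    (L.subgroupOf (Subgroup.normalizer (P : Set G))).Normal ∧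
      L ≤ Subgroup.normalizer (P : Set G) := by
  have hle : L ≤ Subgroup.normalizer (P : Set G) :=
    hL ▸ sup_le Subgroup.le_normalizer (Subgroup.centralizer_le_normalizer _)
  refine ⟨(Subgroup.normal_subgroupOf_iff_le_normalizer hle).2 fun x hx => ?_, hle⟩
  have hP := BrauerPairs.map_conj_eq_self hx
  have hL' : L.map (MulAut.conj x).toMonoidHom = L := by
    rw [hL, Subgroup.map_sup, hP]
    congr 1
    rw [← BrauerPairs.cz_map_conj, hP]
  refine Subgroup.mem_normalizer_iff.2 fun y => ?_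
  constructor
  · intro hy
    rw [← hL']
    exact ⟨y, hy, rfl⟩
  · intro hy
    rw [← hL'] at hy
    obtain ⟨z, hz, hzy⟩ := hy
    have : z = y := (MulAut.conj x).injective hzy
    rwa [← this]

theorem exists_cover (hM : IsPModular p M) (N : Subgroup G) [N.Normal] [Fintype N]
    {b : Set (IrrCharacter N)} (hb : IsPBlock M b) :
    ∃ B : Set (IrrCharacter G), IsPBlock M B ∧
      ∃ χ ∈ B, ∃ θ ∈ b, classInner (fun n : N => (χ : G → ℂ) n) (θ : N → ℂ) ≠ 0 := by
  obtain ⟨θ, hθ⟩ := Blocks.IsPBlock.nonempty hM hb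
  obtain ⟨χ, hχ⟩ := CfsgLib.CharCorr.exists_over N θ
  refine ⟨blockOf M (χ : G → ℂ), Blocks.isPBlock_blockOf χ, χ, Blocks.mem_blockOf_self hM χ, θ, hθ, ?_⟩
  rw [show (fun n : N => (χ : G → ℂ) n) = (χ : G → ℂ) ∘ N.subtype from rfl, mult_spec]
  exact_mod_cast hχ

variable [hp : Fact p.Prime]

theorem natCard_defect_twist (hM : IsPModular p M) {P L X : Subgroup G} (hPL : P ≤ L) (hLX : L ≤ X)
    [Fintype L] [Fintype (L.subgroupOf X)] {b : Set (IrrCharacter L)} (hb : IsPBlock M b)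
    (hbP : IsDefectGroup p M b (P.subgroupOf L)) :
    p ^ blockDefect p (twistIrr (Subgroup.subgroupOfEquivOfLe hLX) '' b) = Nat.card P := by
  have h := BrauerPairs.isDefectGroup_twist (Subgroup.subgroupOfEquivOfLe hLX) hbP
  rw [← natCard_defect hM (BrauerPairs.isPBlock_twist _ hb) h,
    Subgroup.card_map_of_injective (Subgroup.subgroupOfEquivOfLe hLX).symm.injective,
    Nat.card_congr (Subgroup.subgroupOfEquivOfLe hPL).toEquiv]

/-- `B` has defect group `P` exactly when the inertial index is prime to `p`. -/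
theorem isDefectGroup_iff_inertial (hM : IsPModular p M) {P L T : Subgroup G} (hP : IsPGroup p P)
    (hL : L = P ⊔ Subgroup.centralizer (P : Set G)) [Fintype L] {b : Set (IrrCharacter L)}
    (hb : IsPBlock M b) (hbP : IsDefectGroup p M b (P.subgroupOf L))
    {B : Set (IrrCharacter G)} (hind : IsInducedBlock M L b B)
    (hT : ∀ g : G, g ∈ T ↔ (g ∈ Subgroup.normalizer (P : Set G) ∧ ∀ θ ∈ b, ∀ θ' : IrrCharacter L,
      (∀ h h' : L, (h' : G) = g * h * g⁻¹ → (θ' : L → ℂ) h' = (θ : L → ℂ) h) → θ' ∈ b)) :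
    IsDefectGroup p M B P ↔ ¬ p ∣ L.relIndex T := by
  classical
  obtain ⟨hLn, hLX⟩ := normal_pc hL
  have hPL : P ≤ L := hL ▸ le_sup_left
  have hCL : Subgroup.centralizer (P : Set G) ≤ L := hL ▸ le_sup_right
  let _ := Fintype.ofFinite (Subgroup.normalizer (P : Set G))
  let _ := Fintype.ofFinite (L.subgroupOf (Subgroup.normalizer (P : Set G)))
  have := hLn
  set e := Subgroup.subgroupOfEquivOfLe hLX with he
  set b' := twistIrr e '' b with hb'def
  have hb' : IsPBlock M b' := BrauerPairs.isPBlock_twist _ hb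
  have hdb : p ^ blockDefect p b' = Nat.card P := natCard_defect_twist hM hPL hLX hb hbP
  have hmem : ∀ (g : Subgroup.normalizer (P : Set G)) (θ : IrrCharacter L)
      (φ : IrrCharacter L), conjIrr _ g (twistIrr e θ) = twistIrr e φ ↔
      ∀ h h' : L, (h' : G) = (g : G)⁻¹ * h * ((g : G)⁻¹)⁻¹ → (φ : L → ℂ) h' = (θ : L → ℂ) h := by
    intro g θ φ
    constructor
    · intro heq h h' hh'
      have h1 := congrFun (congrArg Subtype.val heq) (e.symm h')
      rw [conjIrr_apply, twistIrr_apply, twistIrr_apply, MulEquiv.apply_symm_apply] at h1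
      rw [← h1]
      refine congrArg _ (Subtype.ext ?_)
      show (g : G) * (h' : G) * (g : G)⁻¹ = h
      rw [hh']; group
    · intro h1
      apply Subtype.ext
      funext y
      rw [conjIrr_apply, twistIrr_apply, twistIrr_apply]
      refine (h1 _ _ ?_).symm
      show ((y : Subgroup.normalizer (P : Set G)) : G) =
        (g : G)⁻¹ * ((g : G) * ((y : Subgroup.normalizer (P : Set G)) : G) * (g : G)⁻¹) * ((g : G)⁻¹)⁻¹
      group
  have hT' : ∀ g : Subgroup.normalizer (P : Set G),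
      g ∈ T.subgroupOf (Subgroup.normalizer (P : Set G)) ↔ ∀ θ ∈ b', conjIrr _ g θ ∈ b' := by
    intro g
    have hinv : g ∈ T.subgroupOf (Subgroup.normalizer (P : Set G)) ↔ (g : G)⁻¹ ∈ T := by
      rw [Subgroup.mem_subgroupOf, inv_mem_iff]
    rw [hinv, hT]
    constructor
    · rintro ⟨-, h⟩ _ ⟨θ, hθ, rfl⟩
      set ψ := conjIrr _ g (twistIrr e θ)
      have hψ : twistIrr e (twistIrr e.symm ψ) = ψ :=
        Subtype.ext (funext fun y => by simp [twistIrr_apply])
      exact ⟨_, h θ hθ _ ((hmem g θ _).1 hψ.symm), hψ⟩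
    · intro h
      refine ⟨Subgroup.inv_mem _ g.2, fun θ hθ θ' hθ' => ?_⟩
      obtain ⟨φ, hφ, hφe⟩ := h _ ⟨θ, hθ, rfl⟩
      have h2 := (hmem g θ θ').2 hθ'
      rw [← hφe] at h2
      have : φ = θ' := by
        apply Subtype.ext
        funext y
        have h3 := congrFun (congrArg Subtype.val h2) (e.symm y)
        simpa [twistIrr_apply] using h3
      rwa [← this]
  have hTX : T ≤ Subgroup.normalizer (P : Set G) := fun g hg => ((hT g).1 hg).1
  have hLT : L.subgroupOf (Subgroup.normalizer (P : Set G)) ≤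
      T.subgroupOf (Subgroup.normalizer (P : Set G)) := fun n hn => (hT' n).2 fun θ hθ => by
    have : conjIrr _ n θ = θ := by
      apply Subtype.ext
      funext y
      rw [conjIrr_apply]
      exact irr_isClassFunction θ y ⟨n, hn⟩
    rwa [this]
  obtain ⟨B₁, hB₁, hcov₁, hge⟩ := exists_cover_defect_ge_stab _ hM hb'
    (T.subgroupOf (Subgroup.normalizer (P : Set G))) hLT fun g hg => (hT' g).1 hg
  have hle := blockDefect_le_of_covers _ hM hb' _ hLT hT' hB₁ hcov₁
  have hrel : (L.subgroupOf (Subgroup.normalizer (P : Set G))).relIndex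
      (T.subgroupOf (Subgroup.normalizer (P : Set G))) = L.relIndex T :=
    Subgroup.relIndex_subgroupOf hTX
  rw [hrel] at hge hle
  set v := (L.relIndex T).factorization p with hv
  have hv0 : ¬ p ∣ L.relIndex T ↔ v = 0 := by
    have hne : L.relIndex T ≠ 0 := Subgroup.index_ne_zero_of_finite
    constructor
    · exact Nat.factorization_eq_zero_of_not_dvd
    · intro h0 hdvd
      have := hp.out.factorization_pos_of_dvd hne hdvd
      omega
  have hind₁ := exists_normalizer_cover hM hP hPL hCL hLX hb hind B₁ hB₁ hcov₁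
  obtain ⟨E, hE⟩ := Blocks.exists_isDefectGroup hM hB₁
  have hEcard := natCard_defect hM hB₁ hE
  rw [hv0]
  constructor
  · intro hBP
    obtain ⟨E', hE', hle'⟩ := Blocks.exists_defectGroup_map_le hM hind₁ hE
    have h1 := Subgroup.card_le_of_le hle'
    rw [natCard_map_subtype, hEcard, natCard_defect hM hind.2.1 hE',
      ← natCard_defect hM hind.2.1 hBP, ← hdb, Nat.pow_le_pow_iff_right hp.out.one_lt] at h1
    omega
  · intro h0
    have hPX : P ≤ Subgroup.normalizer (P : Set G) := Subgroup.le_normalizer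
    have hPn : (P.subgroupOf (Subgroup.normalizer (P : Set G))).Normal :=
      Subgroup.normal_in_normalizer
    have h1 := Blocks.normal_le_defect (P := P.subgroupOf (Subgroup.normalizer (P : Set G))) hM hB₁ (hP.comap_of_injective _
      (Subgroup.normalizer (P : Set G)).subtype_injective) hE
    have h2 : P.subgroupOf (Subgroup.normalizer (P : Set G)) = E := by
      refine Subgroup.eq_of_le_of_card_ge h1 ?_
      rw [hEcard, Nat.card_congr (Subgroup.subgroupOfEquivOfLe hPX).toEquiv, ← hdb]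
      exact Nat.pow_le_pow_right hp.out.pos (by omega)
    obtain ⟨B'', hB'', hD'', hind''⟩ := Blocks.exists_induced_defect_eq hM hP hB₁ (h2.symm ▸ hE)
    obtain ⟨η, hη⟩ := Blocks.IsPBlock.nonempty hM hB₁
    obtain ⟨χ, hχ⟩ := Blocks.IsPBlock.nonempty hM hind.2.1
    obtain ⟨χ', hχ'⟩ := Blocks.IsPBlock.nonempty hM hB''
    have : B = B'' := by
      rw [Blocks.IsPBlock.eq_blockOf hM hind.2.1 hχ, Blocks.IsPBlock.eq_blockOf hM hB'' hχ']
      refine Blocks.blockOf_eq_of_sameBlock hM fun g => ?_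
      simpa using Blocks.MemLocalIdeal.sub hM (hind''.2.2 η hη χ' hχ' g) (hind₁.2.2 η hη χ hχ g)
    rwa [this]

/-- Blocks of `P C(P)` inducing a block with defect group `P` are conjugate in `N(P)`. -/
theorem exists_conj_of_induced (hM : IsPModular p M) {P L : Subgroup G}
    (hL : L = P ⊔ Subgroup.centralizer (P : Set G)) [Fintype L]
    {B : Set (IrrCharacter G)} (hB : IsPBlock M B) (hP : IsDefectGroup p M B P)
    {b₁ b₂ : Set (IrrCharacter L)} (h₁ : IsInducedBlock M L b₁ B)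
    (h₂ : IsInducedBlock M L b₂ B) :
    ∃ n ∈ Subgroup.normalizer (P : Set G), ∀ θ ∈ b₁, ∃ θ' ∈ b₂, ∀ x : L,
      ∀ hx : n * (x : G) * n⁻¹ ∈ L, (θ' : L → ℂ) x = (θ : L → ℂ) ⟨n * (x : G) * n⁻¹, hx⟩ := by
  classical
  obtain ⟨hLn, hLX⟩ := normal_pc hL
  have hPL : P ≤ L := hL ▸ le_sup_left
  have hCL : Subgroup.centralizer (P : Set G) ≤ L := hL ▸ le_sup_right
  let _ := Fintype.ofFinite (Subgroup.normalizer (P : Set G))
  let _ := Fintype.ofFinite (L.subgroupOf (Subgroup.normalizer (P : Set G)))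
  have := hLn
  have hPp := isPGroup_defect hM hP
  set e := Subgroup.subgroupOfEquivOfLe hLX with he
  have hb₁ := BrauerPairs.isPBlock_twist e h₁.1
  have hb₂ := BrauerPairs.isPBlock_twist e h₂.1
  obtain ⟨C₁, hC₁, χ₁, hχ₁, θ₁, hθ₁, hc₁⟩ := exists_cover hM _ hb₁
  obtain ⟨C₂, hC₂, χ₂, hχ₂, θ₂, hθ₂, hc₂⟩ := exists_cover hM _ hb₂
  have hi₁ := exists_normalizer_cover hM hPp hPL hCL hLX h₁.1 h₁ C₁ hC₁ ⟨χ₁, hχ₁, θ₁, hθ₁, hc₁⟩
  have hi₂ := exists_normalizer_cover hM hPp hPL hCL hLX h₂.1 h₂ C₂ hC₂ ⟨χ₂, hχ₂, θ₂, hθ₂, hc₂⟩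
  have hPX : P ≤ Subgroup.normalizer (P : Set G) := Subgroup.le_normalizer
  have hPn : (P.subgroupOf (Subgroup.normalizer (P : Set G))).Normal :=
    Subgroup.normal_in_normalizer
  obtain ⟨E, hE⟩ := Blocks.exists_isDefectGroup hM hC₁
  have hdef : IsDefectGroup p M C₁ (P.subgroupOf (Subgroup.normalizer (P : Set G))) := by
    obtain ⟨E', hE', hle'⟩ := Blocks.exists_defectGroup_map_le hM hi₁ hE
    have h1 := Blocks.normal_le_defect (P := P.subgroupOf (Subgroup.normalizer (P : Set G))) hM hC₁ (hPp.comap_of_injective _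
      (Subgroup.normalizer (P : Set G)).subtype_injective) hE
    have h2 := Subgroup.card_le_of_le hle'
    rw [natCard_map_subtype, natCard_defect hM hB hE', ← natCard_defect hM hB hP,
      ← Nat.card_congr (Subgroup.subgroupOfEquivOfLe hPX).toEquiv] at h2
    exact (Subgroup.eq_of_le_of_card_ge h1 h2).symm ▸ hE
  have hCeq := Blocks.inducing_block_unique hM hPp hdef hi₁ hi₂
  subst hCeq
  obtain ⟨g, φ, hφ, hg⟩ := mem_orbitSet_of_congr _ hM hb₁ hθ₁ (ψ := θ₂) fun n =>
    induced_congr_of_cover _ hM ((Blocks.IsPBlock.mem_iff hM hC₁ hχ₁ χ₂).1 hχ₂) hc₁ hc₂ n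
  refine ⟨g, g.2, fun θ hθ => ?_⟩
  obtain ⟨θ', hθ', hθ'e⟩ : conjIrr _ g (twistIrr e θ) ∈ twistIrr e '' b₂ := by
    refine (Blocks.IsPBlock.mem_iff hM hb₂ hθ₂ _).2 ?_
    rw [← hg]
    exact sameBlock_conjIrr _ ((Blocks.IsPBlock.mem_iff hM hb₁ hφ _).1 ⟨θ, hθ, rfl⟩) g
  refine ⟨θ', hθ', fun x hx => ?_⟩
  have h1 := congrFun (congrArg Subtype.val hθ'e) (e.symm x)
  rw [conjIrr_apply, twistIrr_apply, twistIrr_apply, MulEquiv.apply_symm_apply] at h1
  rw [h1]
  congr 1

end CfsgLib.BlockCover
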