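import Cfsg.Agent.Lib.BlockCover.CentralizedDefect
import Cfsg.Agent.Lib.BlockCover.PairBlocks
import Cfsg.Agent.Lib.BlockCover.KnorrCover
import Cfsg.Agent.Lib.BlockCover.CoverAll
import Cfsg.Agent.Lib.Characters.Ramified
import Cfsg.Agent.Lib.Characters.ItoMichlerPSolvable
import Cfsg.Agent.Lib.Characters.Ito

/-! # Degrees in a block with a normal defect group -/

set_option autoImplicit false
set_option linter.unusedSectionVars false
open Cfsg
open CfsgLib.Characters CfsgLib.CharCorr CfsgLib.BlockCover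

namespace CfsgLib.CentralDefect

universe u

variable {G : Type u} [Group G] [Fintype G] {p : ℕ} [hp : Fact p.Prime] {M : Ideal AlgInt}

theorem height_zero_iff_le {B : Set (IrrCharacter G)} {χ : IrrCharacter G} (hχ : χ ∈ B) :
    blockHeight p B (χ : G → ℂ) = 0 ↔ ∀ ψ ∈ B,
      (charDegree (χ : G → ℂ)).factorization p ≤ (charDegree (ψ : G → ℂ)).factorization p := by
  rw [blockHeight, Nat.sub_eq_zero_iff_le]
  refine ⟨fun h ψ hψ => h.trans (Nat.sInf_le ⟨ψ, hψ, rfl⟩), fun h => ?_⟩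
  rw [sInf_degree_eq hχ h]

/-- When `G = P C(P)`, the defect group is abelian iff the degrees in the block have one
`p`-part. -/
theorem const_iff_comm {P : Subgroup G} (hM : IsPModular p M) (hP : IsPGroup p P)
    (hG : P ⊔ Subgroup.centralizer (P : Set G) = ⊤) {B : Set (IrrCharacter G)}
    (hB : IsPBlock M B) (hD : IsDefectGroup p M B P) :
    (∀ a ∈ P, ∀ c ∈ P, a * c = c * a) ↔ ∀ θ ∈ B, ∀ θ' ∈ B,
      (charDegree (θ : G → ℂ)).factorization p = (charDegree (θ' : G → ℂ)).factorization p := by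
  classical
  let _ := Fintype.ofFinite P
  haveI := normal_of_sup_centralizer hG
  obtain ⟨χ, b, hχ, htriv, -, h⟩ := exists_trivial_member hM hP hG hB hD
  have hv : ∀ ζ : IrrCharacter P, (charDegree (ext h hG ζ : G → ℂ)).factorization p =
      (charDegree (ζ : P → ℂ)).factorization p + (charDegree (χ : G → ℂ)).factorization p :=
    fun ζ => by
      rw [charDegree_ext, Nat.factorization_mul (charDegree_ne_zero ζ) (charDegree_ne_zero χ),
        Finsupp.add_apply]
  constructor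
  · intro hc θ hθ θ' hθ'
    haveI : IsMulCommutative P := ⟨⟨fun a c => Subtype.ext (hc a a.2 c c.2)⟩⟩
    have h1 : ∀ ψ ∈ B, (charDegree (ψ : G → ℂ)).factorization p =
        (charDegree (χ : G → ℂ)).factorization p := by
      intro ψ hψ
      obtain ⟨ζ, rfl⟩ := exists_ext_eq h hG hM ((Blocks.IsPBlock.mem_iff hM hB hχ ψ).1 hψ)
      have h2 : charDegree (ζ : P → ℂ) = 1 := by
        have h3 := CfsgLib.CharIto.degree_one_of_comm ζ.2
        rw [irr_one_eq_charDegree] at h3
        exact_mod_cast h3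
      rw [hv, h2, Nat.factorization_one, Finsupp.coe_zero, Pi.zero_apply, zero_add]
    rw [h1 θ hθ, h1 θ' hθ']
  · intro hall a ha c hc
    refine congrArg Subtype.val (CfsgLib.ItoMichler.comm_of_degree_one (G := P) (fun ζ => ?_)
      (⟨a, ha⟩ : P) ⟨c, hc⟩)
    have hmem : ext h hG ζ ∈ B := (Blocks.IsPBlock.mem_iff hM hB hχ _).2 fun g => by
      rw [← neg_sub]
      exact Blocks.MemLocalIdeal.neg hM (sameBlock_ext h hG hM htriv ζ g)
    have h1 := hall _ hmem χ hχ
    rw [hv] at h1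
    obtain ⟨n, hn⟩ := hP.exists_card_eq
    obtain ⟨i, -, hi⟩ := (Nat.dvd_prime_pow hp.out).1 (hn ▸ charDegree_irr_dvd_card ζ)
    rw [hi, hp.out.factorization_pow, Finsupp.single_eq_same] at h1
    rw [hi, show i = 0 by omega, pow_zero]

/-- A normal defect group is abelian iff all heights are zero. -/
theorem comm_iff_height_zero {P : Subgroup G} [hPn : P.Normal] (hM : IsPModular p M)
    {B : Set (IrrCharacter G)} (hB : IsPBlock M B) (hD : IsDefectGroup p M B P) :
    (∀ a ∈ P, ∀ c ∈ P, a * c = c * a) ↔ ∀ χ ∈ B, blockHeight p B (χ : G → ℂ) = 0 := by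
  classical
  have hP := isPGroup_defect hM hD
  set L := P ⊔ Subgroup.centralizer (P : Set G) with hL
  have hPL : P ≤ L := le_sup_left
  have hCL : Subgroup.centralizer (P : Set G) ≤ L := le_sup_right
  haveI : L.Normal := Subgroup.sup_normal _ _
  let _ := Fintype.ofFinite L
  obtain ⟨χ₀, hχ₀⟩ := Blocks.IsPBlock.nonempty hM hB
  obtain ⟨θ₀, hθ₀⟩ := exists_constituent L χ₀
  set b := blockOf M (θ₀ : L → ℂ) with hb'
  have hb : IsPBlock M b := Blocks.isPBlock_blockOf θ₀
  have hθb : θ₀ ∈ b := Blocks.mem_blockOf_self hM θ₀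
  -- the defect group of `b`
  obtain ⟨Q, hQ⟩ := Blocks.exists_isDefectGroup hM hb
  obtain ⟨P', hP', hPQ⟩ := exists_defectGroup_inter_eq L hM hB hb hχ₀ hθb hθ₀ hQ
  obtain ⟨t, rfl⟩ := defectGroup_conjugate hM hB hD hP'
  have hPt : P.map (MulAut.conj t).toMonoidHom = P :=
    BrauerPairs.map_conj_eq_self ((Subgroup.normalizer_eq_top (H := P)).symm ▸ Subgroup.mem_top t)
  rw [hPt, inf_eq_left.2 hPL] at hPQ
  have hQP : Q = P.subgroupOf L := by
    rw [hPQ, Subgroup.subgroupOf, Subgroup.comap_map_eq_self_of_injective L.subtype_injective]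
  subst hQP
  have hGL : P.subgroupOf L ⊔ Subgroup.centralizer ((P.subgroupOf L : Subgroup L) : Set L) = ⊤ := by
    rw [eq_top_iff]
    rintro ⟨x, hx⟩ -
    obtain ⟨v, hv, c, hc, rfl⟩ := Subgroup.mem_sup_of_normal_left.1 hx
    refine Subgroup.mem_sup_of_normal_left.2 ⟨⟨v, hPL hv⟩, hv, ⟨c, hCL hc⟩, ?_, rfl⟩
    exact Subgroup.mem_centralizer_iff.2 fun u hu =>
      Subtype.ext (Subgroup.mem_centralizer_iff.1 hc _ hu)
  have hPL' : IsPGroup p (P.subgroupOf L) := hP.comap_of_injective _ L.subtype_injective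
  -- the stabiliser of `b`
  have hconj : ∀ g : G, conjIrr L g θ₀ ∈ b → ∀ θ ∈ b, conjIrr L g θ ∈ b := fun g hg θ hθ => by
    refine (Blocks.IsPBlock.mem_iff hM hb hg _).2 ?_
    exact sameBlock_conjIrr L ((Blocks.IsPBlock.mem_iff hM hb hθb _).1 hθ) g
  let T : Subgroup G :=
    { carrier := {g | ∀ θ ∈ b, conjIrr L g θ ∈ b}
      one_mem' := fun θ hθ => by rwa [conjIrr_one]
      mul_mem' := fun {x y} hx hy θ hθ => by
        rw [← conjIrr_comp]
        first | exact hy _ (hx θ hθ) | exact hx _ (hy θ hθ)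
      inv_mem' := fun {x} hx => hconj _ (by
        refine (Blocks.IsPBlock.mem_iff hM hb hθb _).2 ?_
        have h1 := sameBlock_conjIrr L
          ((Blocks.IsPBlock.mem_iff hM hb hθb _).1 (hx θ₀ hθb)) x⁻¹
        rw [conjIrr_comp] at h1
        simp only [mul_inv_cancel, inv_mul_cancel, conjIrr_one] at h1
        exact Blocks.SameBlock.symm hM h1) }
  have hind := isInducedBlock_of_covers_centralizer hM P hP L hCL hb hB ⟨χ₀, hχ₀, θ₀, hθb, hθ₀⟩
  have hidx : ¬ p ∣ L.relIndex T := by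
    refine (isDefectGroup_iff_inertial hM hP hL hb hQ hind fun g => ?_).1 hD
    rw [Subgroup.normalizer_eq_top]
    refine ⟨fun hg => ⟨Subgroup.mem_top g, fun θ hθ θ' hθ' => ?_⟩, fun hg θ hθ => ?_⟩
    · have : θ' = conjIrr L g⁻¹ θ := Subtype.ext (funext fun y => by
        rw [conjIrr_apply]
        refine hθ' ⟨g⁻¹ * y * g, by simpa using (inferInstance : L.Normal).conj_mem y y.2 g⁻¹⟩ y
          (by simp [mul_assoc]) |>.trans (congrArg _ (Subtype.ext ?_))
        simp)
      rw [this]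
      exact T.inv_mem hg θ hθ
    · have h1 := hg.2 θ hθ (conjIrr L g⁻¹ θ) fun x x' hx' => by
        rw [conjIrr_apply]
        refine congrArg _ (Subtype.ext ?_)
        show g⁻¹ * (x' : G) * g⁻¹⁻¹ = x
        rw [hx']; group
      have h2 : ∀ θ ∈ b, conjIrr L g⁻¹ θ ∈ b := fun θ hθ => hg.2 θ hθ _ fun x x' hx' => by
        rw [conjIrr_apply]
        refine congrArg _ (Subtype.ext ?_)
        show g⁻¹ * (x' : G) * g⁻¹⁻¹ = x
        rw [hx']; group
      have h3 := T.inv_mem (show g⁻¹ ∈ T from h2)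
      rw [inv_inv] at h3
      exact h3 θ hθ
  have hLT : L ≤ T := fun n hn => hconj n (by
    rwa [show conjIrr L n θ₀ = θ₀ from Subtype.ext (funext fun y => by
      rw [conjIrr_apply]; exact irr_isClassFunction θ₀ y ⟨n, hn⟩)])
  -- degrees over `b`
  have hdeg : ∀ (χ : IrrCharacter G) (θ : IrrCharacter L), θ ∈ b →
      classInner (fun n : L => (χ : G → ℂ) n) (θ : L → ℂ) ≠ 0 →
      (charDegree (χ : G → ℂ)).factorization p =
        T.index.factorization p + (charDegree (θ : L → ℂ)).factorization p := by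
    intro χ θ hθ hc
    obtain ⟨k, hk, hkdvd⟩ := CfsgLib.Ramified.degree_ratio_dvd_index L χ.2 θ.2 hc
    have hcl := CfsgLib.Clifford.clifford_degree (inferInstance : L.Normal) χ.2 θ.2 hc
    obtain ⟨e, he⟩ := classInner_char_nat (CfsgLib.Clifford.isCharacter_subtype
      (irr_isCharacter χ) L) (irr_isCharacter θ)
    set I := CfsgLib.Clifford.inertia (inferInstance : L.Normal) (θ : L → ℂ)
    have hIT : I ≤ T := fun g hg => by
      have h1 : conjIrr L g θ = θ := Subtype.ext (funext fun y => by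
        rw [conjIrr_apply]; exact CfsgLib.Clifford.mem_inertia.1 hg y)
      intro ψ hψ
      refine (Blocks.IsPBlock.mem_iff hM hb hθ _).2 ?_
      have h2 := sameBlock_conjIrr L ((Blocks.IsPBlock.mem_iff hM hb hθ _).1 hψ) g
      rwa [h1] at h2
    have hke : k = e * I.index := by
      have h1 := hk.symm.trans hcl
      rw [he] at h1
      exact_mod_cast mul_right_cancel₀ (irr_one_ne_zero θ) h1
    have hχk : charDegree (χ : G → ℂ) = k * charDegree (θ : L → ℂ) := by
      rw [irr_one_eq_charDegree, irr_one_eq_charDegree] at hk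
      exact_mod_cast hk
    have hk0 : k ≠ 0 := fun h0 => charDegree_ne_zero χ (by rw [hχk, h0, zero_mul])
    rw [hχk, Nat.factorization_mul hk0 (charDegree_ne_zero θ), Finsupp.add_apply]
    congr 1
    refine le_antisymm ?_ ((Nat.factorization_le_iff_dvd Subgroup.index_ne_zero_of_finite hk0).2
      ((Subgroup.index_dvd_of_le hIT).trans ⟨e, by rw [hke, mul_comm]⟩) p)
    have h2 := (Nat.factorization_le_iff_dvd hk0 Subgroup.index_ne_zero_of_finite).2 hkdvd p
    rw [← Subgroup.relIndex_mul_index hLT,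
      Nat.factorization_mul (show L.relIndex T ≠ 0 from Subgroup.index_ne_zero_of_finite)
        Subgroup.index_ne_zero_of_finite,
      Finsupp.add_apply, Nat.factorization_eq_zero_of_not_dvd hidx, zero_add] at h2
    exact h2
  have hover : ∀ χ ∈ B, ∃ θ ∈ b, classInner (fun n : L => (χ : G → ℂ) n) (θ : L → ℂ) ≠ 0 :=
    fun χ hχ => covers_of_congr L hM hb χ hθb fun n =>
      congr_of_covers L hM hB hb hχ₀ hθb hθ₀ hχ hθb n
  have hunder : ∀ θ ∈ b, ∃ χ ∈ B, classInner (fun n : L => (χ : G → ℂ) n) (θ : L → ℂ) ≠ 0 :=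
    fun θ hθ => exists_constituent_of_covers L hM hB hb hχ₀ hθb hθ₀ hθ
  have hcomm : (∀ a ∈ P, ∀ c ∈ P, a * c = c * a) ↔
      ∀ a ∈ P.subgroupOf L, ∀ c ∈ P.subgroupOf L, a * c = c * a := by
    refine ⟨fun h a ha c hc => Subtype.ext (h a ha c hc), fun h a ha c hc => ?_⟩
    exact congrArg Subtype.val (h ⟨a, hPL ha⟩ ha ⟨c, hPL hc⟩ hc)
  rw [hcomm, const_iff_comm hM hPL' hGL hb hQ]
  constructor
  · intro hall χ hχ
    rw [height_zero_iff_le hχ]
    intro ψ hψ
    obtain ⟨θ, hθ, hc⟩ := hover χ hχ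
    obtain ⟨θ', hθ', hc'⟩ := hover ψ hψ
    rw [hdeg χ θ hθ hc, hdeg ψ θ' hθ' hc', hall θ hθ θ' hθ']
  · intro hall θ hθ θ' hθ'
    obtain ⟨χ, hχ, hc⟩ := hunder θ hθ
    obtain ⟨ψ, hψ, hc'⟩ := hunder θ' hθ'
    have h1 := (height_zero_iff_le hχ).1 (hall χ hχ) ψ hψ
    have h2 := (height_zero_iff_le hψ).1 (hall ψ hψ) χ hχ
    rw [hdeg χ θ hθ hc, hdeg ψ θ' hθ' hc'] at h1 h2
    omega

end CfsgLib.CentralDefect
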