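import Cfsg.Agent.Lib.BlockCover.CoverDefectBounds
import Cfsg.Agent.Lib.BlockCover.NormalP
import Cfsg.Agent.Lib.Blocks.FirstMainThm
import Cfsg.Agent.Lib.BrauerPairs.ConjBlock

/-! # Blocks of `P C(P)` and of the normalizer of `P` -/

set_option autoImplicit false
open Cfsg MonoidAlgebra
open CfsgLib.Characters CfsgLib.CharCorr

namespace CfsgLib.BlockCover

variable {p : ℕ} {M : Ideal AlgInt} {G : Type*} [Group G] [Fintype G]

/-- A block covering a block of a normal subgroup containing `C(Q)` is induced by it. -/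
theorem isInducedBlock_of_covers_centralizer (hM : IsPModular p M) (Q : Subgroup G) [Q.Normal]
    (hQ : IsPGroup p Q) (L : Subgroup G) [hLn : L.Normal] [Fintype L]
    (hCL : Subgroup.centralizer (Q : Set G) ≤ L) {b : Set (IrrCharacter L)} (hb : IsPBlock M b)
    {B : Set (IrrCharacter G)} (hB : IsPBlock M B)
    (hcov : ∃ χ ∈ B, ∃ θ ∈ b, classInner (fun n : L => (χ : G → ℂ) n) (θ : L → ℂ) ≠ 0) :
    IsInducedBlock M L b B := by
  obtain ⟨χ₀, hχ₀, θ₀, hθ₀, hc⟩ := hcov
  refine ⟨hb, hB, fun ξ hξ χ hχ g => ?_⟩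
  by_cases hg : g ∈ L
  · simpa using Blocks.MemLocalIdeal.neg hM
      (congr_of_covers L hM hB hb hχ₀ hθ₀ hc hχ hξ ⟨g, hg⟩)
  · have h0 : inducedCentralChar L (ξ : L → ℂ) g = 0 := by
      rw [inducedCentralChar]
      refine finsum_mem_eq_zero_of_forall_eq_zero fun h hh => absurd ?_ hg
      obtain ⟨t, ht⟩ := isConj_iff.1 hh
      rw [show g = t⁻¹ * (h : G) * t by rw [← ht]; group]
      simpa using hLn.conj_mem _ h.2 t⁻¹
    rw [h0, zero_sub]
    exact Blocks.MemLocalIdeal.neg hM
      (centralChar_mem_ideal_of_not_centralizes hM Q hQ χ fun hc => hg (hCL hc))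

/-- Transitivity of congruences of induced central characters. -/
theorem inducedCentralChar_trans (hM : IsPModular p M) {H X : Subgroup G} [Fintype H] [Fintype X]
    (hHX : H ≤ X) [Fintype (H.subgroupOf X)] (ξ : IrrCharacter H) (η : IrrCharacter X)
    (h : ∀ x : X, MemLocalIdeal M (inducedCentralChar (H.subgroupOf X)
      (twistIrr (Subgroup.subgroupOfEquivOfLe hHX) ξ : H.subgroupOf X → ℂ) x -
        centralChar (η : X → ℂ) x)) (g : G) :
    MemLocalIdeal M (inducedCentralChar H (ξ : H → ℂ) g -
      inducedCentralChar X (η : X → ℂ) g) := by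
  classical
  let _ : Fintype (ConjClasses X) := Fintype.ofFinite _
  set e := Subgroup.subgroupOfEquivOfLe hHX
  set a : ConjClasses X → ℂ := fun c => if IsConj g ((c.out : X) : G) then 1 else 0 with ha
  have hrhs : inducedCentralChar X (η : X → ℂ) g =
      ∑ c : ConjClasses X, a c * centralChar (η : X → ℂ) c.out := by
    have h1 := Blocks.omega_eq_sum_classes η (Blocks.classPart_mem_center ℂ X g)
    rw [Blocks.omega_classPart] at h1
    rw [h1]
    refine Finset.sum_congr (by ext; simp) fun c _ => ?_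
    simp [a, Blocks.classPart]
  have hlhs : inducedCentralChar H (ξ : H → ℂ) g =
      ∑ c : ConjClasses X, a c * inducedCentralChar (H.subgroupOf X)
        (twistIrr e ξ : H.subgroupOf X → ℂ) c.out := by
    simp only [inducedCentralChar_eq_sum, ← mul_div_assoc, ← Finset.sum_div, Finset.mul_sum]
    rw [Finset.sum_comm, twistIrr_apply, map_one]
    congr 1
    refine (Fintype.sum_equiv e.toEquiv _ _ fun y => ?_).symm
    have hyl : ((e y : H) : G) = ((y : X) : G) := rfl
    rw [Finset.sum_eq_single (ConjClasses.mk (y : X))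
      (fun c _ hc => ?_) (fun h => absurd (Finset.mem_univ _) h)]
    · have hout : IsConj (ConjClasses.mk (y : X)).out (y : X) :=
        ConjClasses.mk_eq_mk_iff_isConj.1 (Quotient.out_eq _)
      have hc' : IsConj (((ConjClasses.mk (y : X)).out : X) : G) ((y : X) : G) :=
        MonoidHom.map_isConj X.subtype hout
      have hG : IsConj g (((ConjClasses.mk (y : X)).out : X) : G) ↔ IsConj g ((y : X) : G) :=
        ⟨fun h => h.trans hc', fun h => h.trans hc'.symm⟩
      simp only [MulEquiv.toEquiv_eq_coe, EquivLike.coe_coe, a, if_pos hout, one_mul, hG, hyl,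
        twistIrr_apply]
    · have : ¬ IsConj c.out (y : X) := fun h => hc (by
        rw [← Quotient.out_eq c]; exact ConjClasses.mk_eq_mk_iff_isConj.2 h)
      simp only [if_neg this, zero_mul, mul_zero]
  rw [hlhs, hrhs, ← Finset.sum_sub_distrib]
  refine Blocks.MemLocalIdeal.sum hM _ fun c _ => ?_
  rw [← mul_sub]
  refine Blocks.MemLocalIdeal.mul_left hM ?_ (h c.out)
  simp only [a]
  split_ifs
  · exact (Blocks.lRing hM).one_mem
  · exact (Blocks.lRing hM).zero_mem

/-- Data at the normalizer attached to a block of `L ≥ P, C(P)` inducing `B`. -/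
theorem exists_normalizer_cover (hM : IsPModular p M) {P L : Subgroup G} (hP : IsPGroup p P)
    (hPL : P ≤ L) (hCL : Subgroup.centralizer (P : Set G) ≤ L)
    (hLX : L ≤ Subgroup.normalizer (P : Set G))
    [Fintype L] [Fintype (Subgroup.normalizer (P : Set G))]
    [Fintype (L.subgroupOf (Subgroup.normalizer (P : Set G)))]
    [(L.subgroupOf (Subgroup.normalizer (P : Set G))).Normal]
    {b : Set (IrrCharacter L)} (hb : IsPBlock M b) {B : Set (IrrCharacter G)}
    (hind : IsInducedBlock M L b B) :
    ∀ B' : Set (IrrCharacter (Subgroup.normalizer (P : Set G))), IsPBlock M B' →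
      (∃ χ ∈ B', ∃ θ ∈ twistIrr (Subgroup.subgroupOfEquivOfLe hLX) '' b,
        classInner (fun n : L.subgroupOf (Subgroup.normalizer (P : Set G)) =>
          (χ : Subgroup.normalizer (P : Set G) → ℂ) n)
          (θ : L.subgroupOf (Subgroup.normalizer (P : Set G)) → ℂ) ≠ 0) →
      IsInducedBlock M (Subgroup.normalizer (P : Set G)) B' B := by
  classical
  intro B' hB' hcov
  have hPn : (P.subgroupOf (Subgroup.normalizer (P : Set G))).Normal := Subgroup.normal_in_normalizer
  have hPX : P ≤ Subgroup.normalizer (P : Set G) := Subgroup.le_normalizer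
  have hCX : Subgroup.centralizer (P.subgroupOf (Subgroup.normalizer (P : Set G)) :
      Set (Subgroup.normalizer (P : Set G))) ≤ L.subgroupOf (Subgroup.normalizer (P : Set G)) := by
    intro x hx
    refine hCL (Subgroup.mem_centralizer_iff.2 fun u hu => ?_)
    exact congrArg Subtype.val (Subgroup.mem_centralizer_iff.1 hx ⟨u, hPX hu⟩ hu)
  have hind' := isInducedBlock_of_covers_centralizer hM
    (P.subgroupOf (Subgroup.normalizer (P : Set G))) (hP.comap_of_injective _
      (Subgroup.normalizer (P : Set G)).subtype_injective) _ hCX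
    (BrauerPairs.isPBlock_twist _ hb) hB' hcov
  obtain ⟨ξ, hξ⟩ := Blocks.IsPBlock.nonempty hM hb
  obtain ⟨η, hη⟩ := Blocks.IsPBlock.nonempty hM hB'
  obtain ⟨χ, hχ⟩ := Blocks.IsPBlock.nonempty hM hind.2.1
  refine Blocks.isInducedBlock_of_forall hM hB' hind.2.1 hη hχ fun g => ?_
  have h1 := inducedCentralChar_trans hM hLX ξ η (fun x => hind'.2.2 _ ⟨ξ, hξ, rfl⟩ η hη x) g
  simpa using Blocks.MemLocalIdeal.sub hM (hind.2.2 ξ hξ χ hχ g) h1

end CfsgLib.BlockCover
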