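import Cfsg.Agent.Lib.BlockCover.CoverAll
import Cfsg.Agent.Lib.Characters.Induction
import Cfsg.Agent.Lib.Characters.Galois

/-! # Squared degrees in the principal blocks of a group and a normal subgroup -/

set_option autoImplicit false
open Cfsg
open CfsgLib.Characters CfsgLib.CharCorr
open scoped ComplexConjugate

namespace CfsgLib.BlockCover

variable {p : ℕ} {M : Ideal AlgInt} {G : Type*} [Group G] [Fintype G]
  (N : Subgroup G) [hN : N.Normal] [Fintype N]

omit hN in
theorem principal_res :
    classInner (fun n : N => (principalIrr G : G → ℂ) n) (principalIrr N : N → ℂ) = 1 :=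
  classInner_irr_self (principalIrr N).2

omit hN in
theorem principalIrr_mem (hM : IsPModular p M) : principalIrr G ∈ principalBlock M G :=
  CfsgLib.Blocks.mem_blockOf_self hM (principalIrr G)

theorem constituent_principal (hM : IsPModular p M) {χ : IrrCharacter G}
    (hχ : χ ∈ principalBlock M G) {θ : IrrCharacter N}
    (hθ : classInner (fun n : N => (χ : G → ℂ) n) (θ : N → ℂ) ≠ 0) :
    θ ∈ principalBlock M N := by
  have hb : IsPBlock M (principalBlock M N) := Blocks.isPBlock_principalBlock M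
  have hs : SameBlock M (principalIrr G : G → ℂ) (χ : G → ℂ) :=
    (Blocks.IsPBlock.mem_iff hM (Blocks.isPBlock_principalBlock M) (principalIrr_mem hM) χ).1 hχ
  have h1 := mem_orbitSet_of_congr N hM hb (principalIrr_mem hM) (ψ := θ) fun n =>
    induced_congr_of_cover N hM hs (by rw [principal_res N]; exact one_ne_zero) hθ n
  obtain ⟨g, θ', hθ', rfl⟩ := h1
  have hfix : conjIrr N g (principalIrr N) = principalIrr N := by
    apply Subtype.ext
    funext n
    rw [conjIrr_apply]
    rfl
  rw [Blocks.IsPBlock.mem_iff hM hb (principalIrr_mem hM)] at hθ' ⊢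
  have h2 := sameBlock_conjIrr N (M := M) hθ' g
  rwa [hfix] at h2

theorem principal_squares (hM : IsPModular p M) :
    (∑ᶠ θ ∈ principalBlock M N, charDegree (θ : N → ℂ) ^ 2) ≤
        (∑ᶠ χ ∈ principalBlock M G, charDegree (χ : G → ℂ) ^ 2) ∧
      (∑ᶠ χ ∈ principalBlock M G, charDegree (χ : G → ℂ) ^ 2) ≤
        N.index * ∑ᶠ θ ∈ principalBlock M N, charDegree (θ : N → ℂ) ^ 2 := by
  classical
  set S := Finset.univ.filter (· ∈ principalBlock M N) with hS
  set T := Finset.univ.filter (· ∈ principalBlock M G) with hT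
  rw [finsum_mem_eq_sum_of_inter_support_eq _ (t := S) (by simp [hS]),
    finsum_mem_eq_sum_of_inter_support_eq _ (t := T) (by simp [hT])]
  choose m hm using fun (χ : IrrCharacter G) (θ : IrrCharacter N) =>
    classInner_char_nat (CfsgLib.CharGalois.isCharacter_comp (irr_isCharacter χ) N.subtype)
      (irr_isCharacter θ)
  simp only [Subgroup.coe_subtype] at hm
  have hdeg : ∀ χ ∈ T, charDegree (χ : G → ℂ) = ∑ θ ∈ S, m χ θ * charDegree (θ : N → ℂ) := by
    intro χ hχ
    have h := irr_res_one χ N.subtype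
    rw [irr_one_eq_charDegree, ← Finset.sum_subset (Finset.subset_univ S) fun θ _ hθ => ?_] at h
    · apply Nat.cast_injective (R := ℂ)
      rw [h]
      push_cast
      refine Finset.sum_congr rfl fun θ _ => ?_
      rw [irr_one_eq_charDegree]
      congr 1
      exact hm χ θ
    · by_contra h0
      refine hθ (Finset.mem_filter.2 ⟨Finset.mem_univ _, constituent_principal N hM
        (Finset.mem_filter.1 hχ).2 fun h1 => h0 ?_⟩)
      rw [show ((χ : G → ℂ) ∘ N.subtype) = fun n : N => (χ : G → ℂ) n from rfl, h1, zero_mul]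
  constructor
  · have hex : ∀ θ ∈ S, ∃ χ ∈ T, 1 ≤ m χ θ := by
      intro θ hθ
      obtain ⟨χ, hχ, hne⟩ := exists_constituent_of_covers N hM (Blocks.isPBlock_principalBlock M)
        (Blocks.isPBlock_principalBlock M) (principalIrr_mem (G := G) hM)
        (principalIrr_mem (G := N) hM) (by rw [principal_res N]; exact one_ne_zero)
        (Finset.mem_filter.1 hθ).2
      refine ⟨χ, Finset.mem_filter.2 ⟨Finset.mem_univ _, hχ⟩, Nat.one_le_iff_ne_zero.2 fun h0 => hne ?_⟩
      rw [hm χ θ, h0, Nat.cast_zero]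
    calc ∑ θ ∈ S, charDegree (θ : N → ℂ) ^ 2
        ≤ ∑ θ ∈ S, ∑ χ ∈ T, (m χ θ * charDegree (θ : N → ℂ)) ^ 2 := Finset.sum_le_sum fun θ hθ => by
          obtain ⟨χ, hχ, h1⟩ := hex θ hθ
          refine le_trans ?_ (Finset.single_le_sum
            (f := fun χ => (m χ θ * charDegree (θ : N → ℂ)) ^ 2) (fun _ _ => Nat.zero_le _) hχ)
          exact Nat.pow_le_pow_left (Nat.le_mul_of_pos_left _ h1) 2
      _ = ∑ χ ∈ T, ∑ θ ∈ S, (m χ θ * charDegree (θ : N → ℂ)) ^ 2 := Finset.sum_comm
      _ ≤ ∑ χ ∈ T, charDegree (χ : G → ℂ) ^ 2 := Finset.sum_le_sum fun χ hχ => by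
          rw [hdeg χ hχ]
          exact Finset.sum_sq_le_sq_sum_of_nonneg fun _ _ => Nat.zero_le _
  · have hind : ∀ θ : IrrCharacter N,
        ∑ χ ∈ T, m χ θ * charDegree (χ : G → ℂ) ≤ N.index * charDegree (θ : N → ℂ) := by
      intro θ
      refine le_trans (Finset.sum_le_sum_of_subset (Finset.subset_univ T)) (le_of_eq ?_)
      apply Nat.cast_injective (R := ℂ)
      have hcl : IsClassFunction G (indFun N (θ : N → ℂ)) :=
        Induction.isClassFunction_indFun N _
      have h := congrFun (classFunction_eq_sum hcl) 1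
      rw [Induction.indFun_one_apply, Finset.sum_apply] at h
      push_cast
      rw [← irr_one_eq_charDegree θ, h]
      refine Finset.sum_congr rfl fun χ _ => ?_
      rw [Pi.smul_apply, smul_eq_mul, irr_one_eq_charDegree χ]
      congr 1
      rw [classInner_conj_symm (χ : G → ℂ) (indFun N (θ : N → ℂ)), Induction.classInner_indFun_right N _ (irr_isClassFunction χ),
        hm χ θ, Complex.conj_natCast]
    calc ∑ χ ∈ T, charDegree (χ : G → ℂ) ^ 2
        = ∑ χ ∈ T, ∑ θ ∈ S, charDegree (θ : N → ℂ) * (m χ θ * charDegree (χ : G → ℂ)) :=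
          Finset.sum_congr rfl fun χ hχ => by
            rw [sq]
            nth_rewrite 1 [hdeg χ hχ]
            rw [Finset.sum_mul]
            exact Finset.sum_congr rfl fun θ _ => by ring
      _ = ∑ θ ∈ S, charDegree (θ : N → ℂ) * ∑ χ ∈ T, m χ θ * charDegree (χ : G → ℂ) := by
          rw [Finset.sum_comm]; simp only [Finset.mul_sum]
      _ ≤ ∑ θ ∈ S, charDegree (θ : N → ℂ) * (N.index * charDegree (θ : N → ℂ)) :=
          Finset.sum_le_sum fun θ _ => Nat.mul_le_mul_left _ (hind θ)
      _ = N.index * ∑ θ ∈ S, charDegree (θ : N → ℂ) ^ 2 := by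
          rw [Finset.mul_sum]; exact Finset.sum_congr rfl fun θ _ => by ring

end CfsgLib.BlockCover
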