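import Cfsg.Agent.Lib.BlockCover.Regular
import Cfsg.Agent.Lib.BlockCover.Basic

/-!
# Regular inner products and induced blocks
-/

set_option autoImplicit false
set_option linter.style.haveILetI false
set_option linter.unusedSectionVars false

namespace CfsgLib.BlockCover

open Cfsg CfsgLib.Characters CfsgLib.Contribution
open scoped ComplexConjugate

variable {p : ℕ} {M : Ideal AlgInt} {G : Type*} [Group G] [Fintype G] (H : Subgroup G) [Fintype H]

/-- The regular inner product with a member of a block of `H` is, up to a unit, congruent to the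
factor of `χ` at the induced block. -/
theorem regInner_congr [Fintype (ConjClasses G)] (hM : IsPModular p M) {b : Set (IrrCharacter H)}
    {B₀ : Set (IrrCharacter G)} (hind : IsInducedBlock M H b B₀) (χ : IrrCharacter G)
    {ψ : IrrCharacter H} (hψ : ψ ∈ b) :
    (χ ∉ B₀ → MemLocalIdeal M ((regSum p (fun h : H => (χ : G → ℂ) h) (ψ : H → ℂ)) /
      (ψ : H → ℂ) 1)) ∧
    (χ ∈ B₀ → blockHeight p B₀ (χ : G → ℂ) = 0 → ¬ MemLocalIdeal M
      ((regSum p (fun h : H => (χ : G → ℂ) h) (ψ : H → ℂ)) / (ψ : H → ℂ) 1)) := by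
  classical
  obtain ⟨hb, hB, hcong⟩ := hind
  let f : G → ℂ := fun x => if p ∣ orderOf x then 0 else (χ : G → ℂ) x⁻¹
  have hf : IsClassFunction G f := by
    intro g h
    simp only [f, show orderOf (h * g * h⁻¹) = orderOf g from (MulAut.conj h).orderOf_eq g]
    rw [show (h * g * h⁻¹)⁻¹ = h * g⁻¹ * h⁻¹ by group, irr_isClassFunction χ g⁻¹ h]
  have hR : ∀ x, MemLocalRing M (f x) := fun x => by
    simp only [f]; split_ifs
    · exact (Blocks.lRing hM).zero_mem
    · exact Blocks.memLocalRing_of_isIntegral hM (ClassCount.irr_isIntegral χ _)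
  have hH : ∑ h : H, f h * (ψ : H → ℂ) h = regSum p (fun h : H => (χ : G → ℂ) h) (ψ : H → ℂ) := by
    rw [regSum, Finset.sum_filter]
    refine Fintype.sum_equiv (Equiv.inv H) _ _ fun h => ?_
    simp [f, irr_apply_inv, Subgroup.orderOf_coe]
  have hGφ : ∀ φ : IrrCharacter G,
      ∑ x : G, f x * (φ : G → ℂ) x = regSum p (χ : G → ℂ) (φ : G → ℂ) := by
    intro φ
    rw [regSum, Finset.sum_filter]
    refine Fintype.sum_equiv (Equiv.inv G) _ _ fun h => ?_
    simp [f, irr_apply_inv]
  constructor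
  · intro hχ
    obtain ⟨φ, hφ⟩ := Blocks.IsPBlock.nonempty hM hB
    have h := sum_mul_congr_induced H hM ψ φ (hcong ψ hψ φ hφ) hf hR
    have h0 : regSum p (χ : G → ℂ) (φ : G → ℂ) = 0 :=
      Blocks.sum_regular_eq_zero_of_not_sameBlock hM fun hs => hχ
        ((Blocks.IsPBlock.mem_iff hM hB hφ χ).2 (Blocks.SameBlock.symm hM hs))
    rwa [hGφ, hH, h0, zero_div, sub_zero] at h
  · intro hχ h0 hbad
    have h := sum_mul_congr_induced H hM ψ χ (hcong ψ hψ χ hχ) hf hR
    rw [hGφ, hH] at h
    have h1 := Blocks.MemLocalIdeal.sub hM hbad h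
    rw [sub_sub_cancel] at h1
    have hval := classInner_regTrunc_eq hM hB χ hχ
    rw [classInner_regTrunc] at hval
    apply (height_zero_iff_tfac hM hB hχ hχ).1 h0
    have hone := irr_one_ne_zero χ
    have hp0 : (p : ℂ) ^ (Nat.card G).factorization p ≠ 0 :=
      pow_ne_zero _ (Nat.cast_ne_zero.2 hM.1.ne_zero)
    have hu0 : ((Nat.card G / p ^ (Nat.card G).factorization p : ℕ) : ℂ) ≠ 0 :=
      Nat.cast_ne_zero.2 fun h' => cofactor_not_dvd (G := G) hM.1 (h' ▸ dvd_zero p)
    have heq : tfac p χ χ = ((Nat.card G / p ^ (Nat.card G).factorization p : ℕ) : ℂ)⁻¹ *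
        (regSum p (χ : G → ℂ) (χ : G → ℂ) / (χ : G → ℂ) 1) := by
      apply mul_left_cancel₀ hone
      rw [← hval, cast_card_eq (p := p)]
      field_simp
    rw [heq]
    exact Blocks.MemLocalIdeal.mul_left hM
      (Blocks.inv_natCast_mem_lRing hM (cofactor_not_dvd hM.1)) h1

end CfsgLib.BlockCover
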